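import Cfsg.Agent.H200.RowOrthL_m3
import Cfsg.Agent.H160.PD.Tools
import Cfsg.Agent.Classification.InvCentU.FiveLib
import Mathlib
import Cfsg.Agent.GpLn.Rank
import Cfsg.Agent.AutOrth.Main
import Cfsg.Agent.FastGrp
import Cfsg.Agent.Prune
set_option linter.all false

section
prune_inst 0x7ff1eaf9bbb891dfdfff7e7fa698cdfc38949fffa6dff94bffe061ff8bdf03024dc5f38d0de010fe0e96c03410a87843f9ffeeffe06bd87ffffd1ff41ffbee1ff5f7b50811d488340f3c2ffe03f0778e7f3fffffffffffffffffffffffffffbeffbfffffffff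

-- part: H311/PD/Norm
section
prune_inst 0xc0004000406200000000000240001c42820001000048000000a006000688880200000020888000100020000400300000010000200000000000000400011800800080000010000000000000000000000000000000000000000000000000000000000000000
set_option linter.all false
open scoped Cfsg.Agent.FastGrp

-- part: H311/PD/Cent
section
/-!
# S4246, orthogonal rows: the `p`-parts of centralisers (helper311)
-/

set_option autoImplicit false
set_option linter.unusedSectionVars false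

namespace Cfsg.Agent.H311.PD

open QuadraticMap Module Subgroup Cfsg.Agent.LieClassical.OrthCore Cfsg.Agent.LieClassical.OrthTrans
open Cfsg.Agent.ClassicalGeometry.OrthSemi Cfsg.Agent.ClassicalGeometry.OrthAut1
open Cfsg.Agent.H200.LinFix Cfsg.Agent.H200.RowOrth
open Cfsg.Agent.H160.PD (v v_mono v_eq_zero v_pos)

variable {F V : Type*} [Field F] [AddCommGroup V] [Module F V] {Q : QuadraticForm F V} [Finite V]
variable {p : ℕ} [hp : Fact p.Prime]

/-- a scalar of `p`-power order in characteristic `p` -/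
theorem scalar_one (hpF : (p : F) = 0) {c : F} {k : ℕ} (h : c ^ p ^ k = 1) : c = 1 := by
  have hchar : CharP F p := (CharP.charP_iff_prime_eq_zero hp.out).2 hpF
  have h1 : (c - 1) ^ p ^ k = 0 := by rw [sub_pow_char_pow, h, one_pow, sub_self]
  exact sub_eq_zero.1 (pow_eq_zero_iff (pow_ne_zero k hp.out.ne_zero) |>.1 h1)

theorem pow_apply_smul {g : V ≃ₗ[F] V} {u : V} {c : F} (h : g u = c • u) (k : ℕ) : (g ^ k) u = c ^ k • u := by
  induction k with
  | zero => rw [pow_zero, pow_zero, one_smul]; rfl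
  | succ k ih =>
    rw [pow_succ', pow_succ]
    change g ((g ^ k) u) = _
    rw [ih, map_smul, h, smul_smul]

/-- the `p`-part of a centraliser: a `p`-subgroup -/
theorem exists_psub {G : Type*} [Group G] [Finite G] (H : Subgroup G) :
    ∃ R : Subgroup G, R ≤ H ∧ IsPGroup p R ∧ v p R = v p H := by
  obtain ⟨P⟩ : Nonempty (Sylow p ↥H) := inferInstance
  refine ⟨(P : Subgroup ↥H).map H.subtype, map_subtype_le _, P.isPGroup'.map _, ?_⟩
  have h1 : Nat.card ((P : Subgroup ↥H).map H.subtype) = Nat.card (P : Subgroup ↥H) :=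
    (Nat.card_congr ((P : Subgroup ↥H).equivMapOfInjective _ H.subtype_injective).toEquiv).symm
  simp only [v]
  rw [h1, P.card_eq_multiplicity, hp.out.factorization_pow, Finsupp.single_eq_same]

theorem self_mem_prp {u : V} (hu : Q u = 0) : u ∈ prp Q u := by rw [mem_prp, polar_self_of_sing hu]

/-- the case of a moved line -/
theorem v_inf_moved (hG : Good Q) {f : ℕ} (hF : Nat.card F = p ^ f) {u : V} (hu : Q u = 0) (h0 : u ≠ 0)
    {R : Subgroup ↥(E Q)} {t : ↥(E Q)} (hR : R ≤ centralizer {t})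
    (htu : (t : V ≃ₗ[F] V) u ∉ Submodule.span F {u}) : v p ↥(R ⊓ X Q u hu) ≤ f := by
  have hfinE : Finite ↥(E Q) := finite_E
  have hfd : FiniteDimensional F V := inferInstance
  set W : Submodule F V := Submodule.span F {u, (t : V ≃ₗ[F] V) u} ⊓ prp Q u with hWdef
  have hW : W ≤ prp Q u := inf_le_right
  have huW : u ∈ W := ⟨Submodule.subset_span (by simp), self_mem_prp hu⟩
  have h1 : R ⊓ X Q u hu ≤ XW Q u hu W hW := by
    rintro g ⟨hgR, w, hw, hg⟩
    rw [mem_XW]
    refine ⟨w, ⟨?_, mem_prp.2 hw⟩, hw, hg⟩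
    refine mem_span_of_comm hG.nondeg (E_le_O t.2) hu h0 hw ?_ htu
    have h2 : g * t = t * g := mem_centralizer_singleton_iff.1 (hR hgR)
    rw [← hg]
    exact (congrArg Subtype.val h2).symm
  have h2 := v_XW hG hF hu h0 hW huW
  have h3 : finrank F W ≤ 2 := by
    refine (Submodule.finrank_mono inf_le_left).trans ?_
    rw [Submodule.span_insert]
    refine (Submodule.finrank_add_le_finrank_add_finrank _ _).trans ?_
    have h4 := finrank_span_singleton (K := F) h0
    have h5 := finrank_span_singleton (K := F) (v := (t : V ≃ₗ[F] V) u) (fun h => h0 (LinearEquiv.map_eq_zero_iff _ |>.1 h))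
    omega
  have h4 := v_mono h1 p
  have h5 : f * finrank F W ≤ f * 2 := Nat.mul_le_mul_left _ h3
  simp only [v] at *
  omega

/-- the case of a fixed vector -/
theorem v_inf_fixed (hG : Good Q) {f : ℕ} (hF : Nat.card F = p ^ f) {u : V} (hu : Q u = 0) (h0 : u ≠ 0)
    {R : Subgroup ↥(E Q)} {t : ↥(E Q)} (hR : R ≤ centralizer {t}) {s : ℕ} (ht : t ^ s = 1) (hs : (s : F) ≠ 0)
    (htu : (t : V ≃ₗ[F] V) u = u) : v p ↥(R ⊓ X Q u hu) + f ≤ f * finrank F ↥(K (en Q t) ⊓ prp Q u) := by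
  have hfinE : Finite ↥(E Q) := finite_E
  have hfd : FiniteDimensional F V := inferInstance
  set W : Submodule F V := K (en Q t) ⊓ prp Q u with hWdef
  have hW : W ≤ prp Q u := inf_le_right
  have huK : u ∈ K (en Q t) := mem_K.2 htu
  have huW : u ∈ W := ⟨huK, self_mem_prp hu⟩
  have ht' : en Q t ^ s = 1 := by rw [← map_pow, ht, map_one]
  have h1 : R ⊓ X Q u hu ≤ XW Q u hu W hW := by
    rintro g ⟨hgR, w, hw, hg⟩
    rw [mem_XW]
    refine ⟨w, ⟨?_, mem_prp.2 hw⟩, hw, hg⟩
    have h2 : g * t = t * g := mem_centralizer_singleton_iff.1 (hR hgR)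
    have h3 : (t : V ≃ₗ[F] V) w - w ∈ Submodule.span F {u} := by
      refine sub_mem_span_of_comm hG.nondeg (E_le_O t.2) hu h0 hw ?_ htu
      rw [← hg]
      exact (congrArg Subtype.val h2).symm
    have h4 : (t : V ≃ₗ[F] V) w - w ∈ K (en Q t) := by
      have h5 : Submodule.span F {u} ≤ K (en Q t) := by
        rw [Submodule.span_singleton_le_iff_mem]; exact huK
      exact h5 h3
    have h5 : (t : V ≃ₗ[F] V) w - w = 0 := eq_zero_of_mem ht' hs (mem_K.1 h4) (sub_mem_R (en Q t) w)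
    exact mem_K.2 (sub_eq_zero.1 h5)
  have h2 := v_XW hG hF hu h0 hW huW
  have h4 := v_mono h1 p
  simp only [v] at *
  omega

/-- an eigenvalue of an element of prime order -/
theorem dvd_of_eigen {s : ℕ} [hs : Fact s.Prime] [Finite F] {t : V ≃ₗ[F] V} (ht : t ^ s = 1) {u : V} (h0 : u ≠ 0)
    {c : F} (h : t u = c • u) (hc : c ≠ 1) : s ∣ Nat.card F - 1 := by
  have hft : Fintype F := Fintype.ofFinite F
  have h1 := pow_apply_smul h s
  rw [ht] at h1
  have h2 : (c ^ s - 1) • u = 0 := by rw [sub_smul, ← h1, one_smul]; exact sub_self _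
  have h3 : c ^ s = 1 := by
    rcases smul_eq_zero.1 h2 with h3 | h3
    · exact sub_eq_zero.1 h3
    · exact absurd h3 h0
  have h4 : c ≠ 0 := by
    rintro rfl
    rw [zero_pow hs.out.ne_zero] at h3
    exact zero_ne_one h3
  have h5 : orderOf c = s := orderOf_eq_prime h3 hc
  rw [← h5]
  apply orderOf_dvd_of_pow_eq_one
  rw [Nat.card_eq_fintype_card]
  exact FiniteField.pow_card_sub_one_eq_one c h4

/-- **The `p`-part of a centraliser, first form**: no eigenvectors but the fixed ones, the fixed space is small. -/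
theorem v_cent (hG : Good Q) {f : ℕ} (hf : 1 ≤ f) (hF : Nat.card F = p ^ f) {s : ℕ} [hs : Fact s.Prime]
    (hsF : (s : F) ≠ 0) {t : ↥(E Q)} (ht : t ^ s = 1) (hsq : ¬ s ∣ Nat.card F - 1)
    (hK : ∀ u ∈ K (en Q t), Q u = 0 → u ≠ 0 → ∀ w ∈ K (en Q t), polar Q u w = 0 → w ∈ Submodule.span F {u}) :
    v p (centralizer ({t} : Set ↥(E Q))) + f * (finrank F V - 2) ≤ v p ↥(E Q) + f := by
  have hfinE : Finite ↥(E Q) := finite_E
  have hfinF : Finite F := finite_F hG
  have hfd : FiniteDimensional F V := inferInstance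
  obtain ⟨R, hRt, hRp, hRv⟩ := exists_psub (p := p) (centralizer ({t} : Set ↥(E Q)))
  obtain ⟨u, h0, hu, hfix⟩ := exists_sing_fixed hG hf hF hRp
  have h1 := index_lemma (p := p) hu hfix
  rw [v_X hG hF hu h0] at h1
  have h2 : v p ↥(R ⊓ X Q u hu) ≤ f := by
    by_cases htu : (t : V ≃ₗ[F] V) u ∈ Submodule.span F {u}
    · rw [Submodule.mem_span_singleton] at htu
      obtain ⟨c, hc⟩ := htu
      by_cases hc1 : c = 1
      · rw [hc1, one_smul] at hc
        have h3 := v_inf_fixed hG hF hu h0 hRt ht hsF hc.symm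
        have h4 : finrank F ↥(K (en Q t) ⊓ prp Q u) ≤ 1 := by
          have h5 : K (en Q t) ⊓ prp Q u ≤ Submodule.span F {u} := by
            rintro w ⟨hw, hw'⟩
            exact hK u (mem_K.2 hc.symm) hu h0 w hw (mem_prp.1 hw')
          have h6 := Submodule.finrank_mono h5
          rwa [finrank_span_singleton h0] at h6
        have h5 : f * finrank F ↥(K (en Q t) ⊓ prp Q u) ≤ f * 1 := Nat.mul_le_mul_left _ h4
        omega
      · exfalso
        apply hsq
        refine dvd_of_eigen (t := (t : V ≃ₗ[F] V)) ?_ h0 hc.symm hc1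
        exact congrArg Subtype.val ht
    · exact v_inf_moved hG hF hu h0 hRt htu
  rw [← hRv]
  omega

/-! ### hyperbolic planes -/

/-- a nondegenerate plane with a singular vector -/
theorem exists_pair [FiniteDimensional F V] {U : Submodule F V} (hU : finrank F U = 2)
    (hnd : ∀ v ∈ U, (∀ u ∈ U, polarBilin Q u v = 0) → v = 0) {e : V} (he : e ∈ U) (he0 : e ≠ 0) (hQe : Q e = 0) :
    ∃ e' ∈ U, polar Q e e' = 1 ∧ Q e' = 0 ∧ e' ≠ 0 ∧ ∀ x ∈ U, x = polar Q e' x • e + polar Q e x • e' := by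
  classical
  obtain ⟨w, hw, hvw, hQw⟩ : ∃ w ∈ U, polar Q e w = 1 ∧ Q w = 0 := by
    by_contra hcon
    push Not at hcon
    apply he0
    apply hnd e he
    intro u hu
    by_contra hne
    rw [polarBilin_apply_apply, polar_comm] at hne
    obtain ⟨w₁, hw₁, h1⟩ : ∃ w₁ ∈ U, polar Q e w₁ = 1 :=
      ⟨(polar Q e u)⁻¹ • u, U.smul_mem _ hu, by rw [polar_smul_right, smul_eq_mul, inv_mul_cancel₀ hne]⟩
    refine hcon (w₁ - Q w₁ • e) (U.sub_mem hw₁ (U.smul_mem _ he)) ?_ ?_
    · rw [polar_sub_right, polar_smul_right, h1, polar_self_of_sing hQe, smul_zero, sub_zero]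
    · rw [sub_eq_add_neg, Q_add, ← neg_smul, QuadraticMap.map_smul, hQe, polar_smul_right, polar_comm, h1]
      simp
  have hw0 : w ≠ 0 := by
    rintro rfl
    rw [polar_zero_right] at hvw
    exact zero_ne_one hvw
  refine ⟨w, hw, hvw, hQw, hw0, fun x hx => ?_⟩
  have hlin : ∀ a b : F, a • e + b • w = 0 → a = 0 ∧ b = 0 := by
    intro a b h
    have h1 : polar Q e (a • e + b • w) = b := by
      rw [polar_add_right, polar_smul_right, polar_smul_right, hvw, polar_self_of_sing hQe]; simp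
    have h2 : polar Q w (a • e + b • w) = a := by
      rw [polar_add_right, polar_smul_right, polar_smul_right, polar_self_of_sing hQw, polar_comm, hvw]; simp
    rw [h, polar_zero_right] at h1 h2
    exact ⟨h2.symm, h1.symm⟩
  let φ : (F × F) →ₗ[F] U :=
    { toFun := fun c => ⟨c.1 • e + c.2 • w, U.add_mem (U.smul_mem _ he) (U.smul_mem _ hw)⟩
      map_add' := fun c d => Subtype.ext (by
        change (c.1 + d.1) • e + (c.2 + d.2) • w = (c.1 • e + c.2 • w) + (d.1 • e + d.2 • w)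
        rw [add_smul, add_smul]; abel)
      map_smul' := fun a c => Subtype.ext (by
        change (a * c.1) • e + (a * c.2) • w = a • (c.1 • e + c.2 • w)
        rw [mul_smul, mul_smul, smul_add]) }
  have hφi : Function.Injective φ := by
    rw [← LinearMap.ker_eq_bot, LinearMap.ker_eq_bot']
    intro c hc
    obtain ⟨h1, h2⟩ := hlin c.1 c.2 (congrArg Subtype.val hc)
    exact Prod.ext h1 h2
  have hφs : Function.Surjective φ := by
    rw [← LinearMap.range_eq_top]
    apply Submodule.eq_top_of_finrank_eq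
    rw [LinearMap.finrank_range_of_inj hφi, hU]
    simp
  obtain ⟨c, hc⟩ := hφs ⟨x, hx⟩
  have h1 : c.1 • e + c.2 • w = x := congrArg Subtype.val hc
  have h2 : polar Q e x = c.2 := by
    rw [← h1, polar_add_right, polar_smul_right, polar_smul_right, hvw, polar_self_of_sing hQe]; simp
  have h3 : polar Q w x = c.1 := by
    rw [← h1, polar_add_right, polar_smul_right, polar_smul_right, polar_self_of_sing hQw, polar_comm, hvw]; simp
  rw [h2, h3, h1]

/-- the singular vectors of a hyperbolic plane -/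
theorem sing_cases {U : Submodule F V} {e e' : V} (hQe : Q e = 0) (hQe' : Q e' = 0) (hee : polar Q e e' = 1)
    (hx : ∀ x ∈ U, x = polar Q e' x • e + polar Q e x • e') {x : V} (hxU : x ∈ U) (hQx : Q x = 0) :
    (∃ c : F, x = c • e) ∨ ∃ c : F, x = c • e' := by
  have h1 := hx x hxU
  have h2 : Q x = polar Q e' x * polar Q e x := by
    conv_lhs => rw [h1]
    rw [Q_add, QuadraticMap.map_smul, QuadraticMap.map_smul, hQe, hQe', polar_smul_left, polar_smul_right, hee]
    simp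
  rw [hQx] at h2
  rcases mul_eq_zero.1 h2.symm with h3 | h3
  · right
    rw [h3, zero_smul, zero_add] at h1
    exact ⟨_, h1⟩
  · left
    rw [h3, zero_smul, add_zero] at h1
    exact ⟨_, h1⟩

/-- elements of `p`-groups fixing a line fix its vectors -/
theorem fix_of_line (hpF : (p : F) = 0) {R : Subgroup ↥(E Q)} (hR : IsPGroup p R) {g : ↥(E Q)} (hg : g ∈ R)
    {u : V} (h0 : u ≠ 0) {c : F} (h : (g : V ≃ₗ[F] V) u = c • u) : (g : V ≃ₗ[F] V) u = u := by
  obtain ⟨k, hk⟩ := hR ⟨g, hg⟩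
  have h1 : g ^ p ^ k = 1 := congrArg Subtype.val hk
  have h2 := pow_apply_smul h (p ^ k)
  have h3 : (g : V ≃ₗ[F] V) ^ p ^ k = 1 := congrArg Subtype.val h1
  rw [h3] at h2
  have h4 : (c ^ p ^ k - 1) • u = 0 := by rw [sub_smul, ← h2, one_smul]; exact sub_self _
  have h5 : c ^ p ^ k = 1 := by
    rcases smul_eq_zero.1 h4 with h5 | h5
    · exact sub_eq_zero.1 h5
    · exact absurd h5 h0
  rw [h, scalar_one hpF h5, one_smul]

/-- **The `p`-part of a centraliser, second form**: an invariant hyperbolic plane. -/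
theorem v_plane (hG : Good Q) {f : ℕ} (hf : 1 ≤ f) (hF : Nat.card F = p ^ f) {H : Subgroup ↥(E Q)} {U : Submodule F V}
    (hU : finrank F U = 2) (hnd : ∀ v ∈ U, (∀ u ∈ U, polarBilin Q u v = 0) → v = 0) {e : V} (he : e ∈ U)
    (he0 : e ≠ 0) (hQe : Q e = 0) (hinv : ∀ g ∈ H, ∀ x ∈ U, (g : V ≃ₗ[F] V) x ∈ U) :
    v p H + f * (finrank F V - 2) ≤ v p ↥(E Q) + 1 := by
  classical
  have hfinE : Finite ↥(E Q) := finite_E
  have hfinF : Finite F := finite_F hG
  have hfd : FiniteDimensional F V := inferInstance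
  have hpF : (p : F) = 0 := by
    have h1 : p ∣ Nat.card F := by rw [hF]; exact dvd_pow_self _ (by omega)
    have hft : Fintype F := Fintype.ofFinite F
    have h2 : (Fintype.card F : F) = 0 := FiniteField.cast_card_eq_zero F
    rw [← Nat.card_eq_fintype_card, hF, Nat.cast_pow] at h2
    exact pow_eq_zero_iff (by omega) |>.1 h2
  obtain ⟨e', he', hee, hQe', he0', hx⟩ := exists_pair hU hnd he he0 hQe
  obtain ⟨R, hRt, hRp, hRv⟩ := exists_psub (p := p) H
  -- the stabiliser of `e`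
  let R' : Subgroup ↥(E Q) :=
    { carrier := {g | g ∈ R ∧ (g : V ≃ₗ[F] V) e = e}
      mul_mem' := fun {a b} ha hb => ⟨mul_mem ha.1 hb.1, by
        change (a : V ≃ₗ[F] V) ((b : V ≃ₗ[F] V) e) = e
        rw [hb.2, ha.2]⟩
      one_mem' := ⟨one_mem _, rfl⟩
      inv_mem' := fun {a} ha => ⟨inv_mem ha.1, by
        change (a : V ≃ₗ[F] V).symm e = e
        rw [LinearEquiv.symm_apply_eq, ha.2]⟩ }
  have hR'R : R' ≤ R := fun g hg => hg.1
  have hR'p : IsPGroup p R' := hRp.to_le hR'R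
  -- the index
  have hline : ∀ g ∈ R, ∀ c : F, (g : V ≃ₗ[F] V) e = c • e → (g : V ≃ₗ[F] V) e = e := fun g hg c h =>
    fix_of_line hpF hRp hg he0 h
  have hcase : ∀ g ∈ R, (g : V ≃ₗ[F] V) e = e ∨ ∃ c : F, (g : V ≃ₗ[F] V) e = c • e' := by
    intro g hg
    rcases sing_cases hQe hQe' hee hx (hinv g (hRt hg) e he) (by rw [E_le_O g.2]; exact hQe) with ⟨c, hc⟩ | h
    · exact Or.inl (hline g hg c hc)
    · exact Or.inr h
  have hidx : (R'.subgroupOf R).index ≤ 2 := by
    rw [Subgroup.index]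
    have h1 : Nat.card (↥R ⧸ R'.subgroupOf R) ≤ Nat.card Prop := by
      refine Nat.card_le_card_of_injective (fun a : ↥R ⧸ R'.subgroupOf R => Quotient.liftOn' a
        (fun g : ↥R => ((g : ↥(E Q)) : V ≃ₗ[F] V) e = e) ?_) ?_
      · intro g h hgh
        rw [QuotientGroup.leftRel_apply] at hgh
        have h2 : ((g : ↥(E Q))⁻¹ * (h : ↥(E Q))) ∈ R' := hgh
        have h3 : (g : ↥(E Q)).1.symm (((h : ↥(E Q)) : V ≃ₗ[F] V) e) = e := h2.2
        rw [LinearEquiv.symm_apply_eq] at h3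
        simp only [h3]
      · intro a b
        induction a using Quotient.inductionOn' with | _ g => ?_
        induction b using Quotient.inductionOn' with | _ h => ?_
        intro hgh
        have h2 : (((g : ↥(E Q)) : V ≃ₗ[F] V) e = e) = (((h : ↥(E Q)) : V ≃ₗ[F] V) e = e) := hgh
        apply Quotient.sound'
        rw [QuotientGroup.leftRel_apply]
        refine ⟨(g⁻¹ * h : ↥R).2, ?_⟩
        by_cases h3 : ((g : ↥(E Q)) : V ≃ₗ[F] V) e = e
        · have h4 : ((h : ↥(E Q)) : V ≃ₗ[F] V) e = e := h2 ▸ h3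
          change (g : ↥(E Q)).1.symm (((h : ↥(E Q)) : V ≃ₗ[F] V) e) = e
          rw [h4, LinearEquiv.symm_apply_eq, h3]
        · have h4 : ¬ ((h : ↥(E Q)) : V ≃ₗ[F] V) e = e := fun h5 => h3 (by rw [h2]; exact h5)
          obtain ⟨c, hc⟩ := (hcase g g.2).resolve_left h3
          obtain ⟨d, hd⟩ := (hcase h h.2).resolve_left h4
          have hc0 : c ≠ 0 := by
            rintro rfl
            rw [zero_smul] at hc
            exact he0 (LinearEquiv.map_eq_zero_iff _ |>.1 hc)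
          refine hline _ (g⁻¹ * h : ↥R).2 (c⁻¹ * d) ?_
          change (g : ↥(E Q)).1.symm (((h : ↥(E Q)) : V ≃ₗ[F] V) e) = _
          rw [hd, LinearEquiv.symm_apply_eq, map_smul, hc, smul_smul]
          congr 1
          field_simp
    have h2 : Nat.card Prop = 2 := by
      rw [Nat.card_eq_fintype_card, Fintype.card_prop]
    omega
  have hv1 : v p R ≤ v p R' + 1 := by
    have h1 := Subgroup.card_mul_index (R'.subgroupOf R)
    have h2 : Nat.card (R'.subgroupOf R) = Nat.card R' := Nat.card_congr (Subgroup.subgroupOfEquivOfLe hR'R).toEquiv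
    have h3 : 0 < (R'.subgroupOf R).index := Nat.pos_of_ne_zero Subgroup.index_ne_zero_of_finite
    have h4 : (R'.subgroupOf R).index.factorization p ≤ 1 := by
      by_contra h5
      push Not at h5
      have h6 : p ^ 2 ∣ _ := (hp.out.pow_dvd_iff_le_factorization h3.ne').2 h5
      have h7 := Nat.le_of_dvd h3 h6
      have h8 : 2 * 2 ≤ p ^ 2 := by rw [pow_two]; exact Nat.mul_le_mul hp.out.two_le hp.out.two_le
      omega
    rw [h2] at h1
    simp only [v]
    rw [← h1, Nat.factorization_mul Nat.card_pos.ne' h3.ne', Finsupp.add_apply]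
    omega
  -- the Siegel group of `e`
  have h1 := index_lemma (p := p) hQe (R := R') (fun g hg => hg.2)
  rw [v_X hG hF hQe he0] at h1
  have h2 : R' ⊓ X Q e hQe = ⊥ := by
    rw [eq_bot_iff]
    rintro g ⟨hg, w, hw, hgw⟩
    rw [mem_bot]
    have h3 := hinv g (hRt (hR'R hg)) e' he'
    rw [hgw, siegel_apply, hee, one_smul, mul_one] at h3
    have h4 : w ∈ U := by
      have h5 : w = (e' + w - polar Q w e' • e - Q w • e) - e' + (polar Q w e' • e + Q w • e) := by abel
      rw [h5]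
      exact U.add_mem (U.sub_mem h3 he') (U.add_mem (U.smul_mem _ he) (U.smul_mem _ he))
    have h5 := hx w h4
    rw [hw, zero_smul, add_zero] at h5
    apply Subtype.ext
    rw [hgw]
    have h6 : siegel Q e w hQe hw = siegel Q e 0 hQe (polar_zero_right _ _) := by
      rw [siegel_eq_iff hG.nondeg hQe he0, sub_zero, Submodule.mem_span_singleton]
      exact ⟨_, h5.symm⟩
    rw [h6]
    ext x
    rw [siegel_apply, polar_zero_left, QuadraticMap.map_zero]
    simp
  rw [h2] at h1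
  have h3 : v p ↥(⊥ : Subgroup ↥(E Q)) = 0 := by simp [v]
  rw [← hRv]
  omega

end Cfsg.Agent.H311.PD
end

-- part: H311/PD/Ord
section
/-!
# S4246, orthogonal rows: orders of centralisers and normalisers of elements of prime order (helper311)
-/

set_option autoImplicit false
set_option linter.unusedSectionVars false

namespace Cfsg.Agent.H311.PD

open QuadraticMap Module Subgroup Polynomial Cfsg.Agent.LieClassical.OrthCore Cfsg.Agent.LieClassical.OrthTrans
open Cfsg.Agent.ClassicalGeometry.OrthSemi Cfsg.Agent.ClassicalGeometry.OrthAut1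
open Cfsg.Agent.H200.LinFix Cfsg.Agent.H200.RowOrth
open Cfsg.Agent.H160.PD (v v_mono v_eq_zero v_pos)

/-! ### abstract part -/

section abs

variable {F W : Type*} [Field F] [AddCommGroup W] [Module F W] [Finite W] [Nontrivial W] {g : Module.End F W}
  (hirr : ∀ U : Submodule F W, (∀ u ∈ U, g u ∈ U) → U = ⊥ ∨ U = ⊤)

include hirr in
/-- a group of linear maps commuting with an irreducible map, of exponent dividing `n` -/
theorem card_range_dvd {C : Type*} [Group C] [Finite C] (ρ : C →* Module.End F W) (hρ : ∀ c, ρ c * g = g * ρ c)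
    {n : ℕ} (hn : ∀ c, ρ c ^ n = 1) : ∃ L : Subgroup C, (∀ c, c ∈ L ↔ ρ c = 1) ∧ L.index ∣ n := by
  classical
  have hP : Fact (Irreducible (minpoly F g)) := ⟨irreducible_minpoly hirr⟩
  obtain ⟨w, hw⟩ := exists_ne (0 : W)
  have hfin : Finite (KK g) := Finite.of_injective _ (phi_bijective hirr w hw).1
  have hinj : Function.Injective (phi g) := by
    have : Nontrivial (Module.End F W) := Module.End.instNontrivial
    exact (phi g).toRingHom.injective
  choose k hk using fun c => exists_phi hirr (hρ c)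
  let f : C →* KK g :=
    { toFun := k
      map_one' := hinj (by rw [← hk, map_one, map_one])
      map_mul' := fun a b => hinj (by rw [← hk, map_mul, map_mul, ← hk, ← hk]) }
  have hf : ∀ c, phi g (f c) = ρ c := fun c => (hk c).symm
  let f' : C →* (KK g)ˣ := f.toHomUnits
  have hf' : ∀ c, ((f' c : (KK g)ˣ) : KK g) = f c := fun c => rfl
  refine ⟨f'.ker, fun c => ?_, ?_⟩
  · rw [MonoidHom.mem_ker, Units.ext_iff, hf', Units.val_one, ← hf]
    constructor
    · intro h; rw [h, map_one]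
    · intro h; exact hinj (by rw [h, map_one])
  · rw [index_ker]
    have hcyc : IsCyclic f'.range := inferInstance
    obtain ⟨⟨x, hxr⟩, hx⟩ := hcyc.exists_ofOrder_eq_natCard
    rw [← hx]
    apply orderOf_dvd_of_pow_eq_one
    obtain ⟨c, rfl⟩ := hxr
    apply Subtype.ext
    change f' c ^ n = 1
    rw [Units.ext_iff, Units.val_pow_eq_pow_val, hf', Units.val_one]
    apply hinj
    rw [map_pow, hf, hn, map_one]

include hirr in
/-- the elements normalising an irreducible cyclic group -/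
theorem pow_eq_one_of_norm {l : ℕ} [hl : Fact l.Prime] (hg : g ^ l = 1) (hg1 : g ≠ 1) {a a' : Module.End F W}
    (haa' : a' * a = 1) {j : ℕ} (hj : a * g = g ^ j * a) : j ^ finrank F W ≡ 1 [MOD l] := by
  classical
  have hP : Fact (Irreducible (minpoly F g)) := ⟨irreducible_minpoly hirr⟩
  obtain ⟨w, hw⟩ := exists_ne (0 : W)
  have hfin : Finite (KK g) := Finite.of_injective _ (phi_bijective hirr w hw).1
  have hfinF : Finite F := Finite.of_injective (fun a : F => a • w) (smul_left_injective F hw)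
  have hinj : Function.Injective (phi g) := by
    have : Nontrivial (Module.End F W) := Module.End.instNontrivial
    exact (phi g).toRingHom.injective
  have hfd : FiniteDimensional F W := inferInstance
  have haa : a * a' = 1 := mul_eq_one_comm.1 haa'
  -- `g ^ j` is a root of the minimal polynomial
  have h1 : ∀ P : F[X], a * aeval g P = aeval (g ^ j) P * a := by
    intro P
    induction P using Polynomial.induction_on' with
    | add P R hP hR => rw [map_add, map_add, mul_add, add_mul, hP, hR]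
    | monomial n c =>
      have h3 : ∀ n : ℕ, a * g ^ n = (g ^ j) ^ n * a := by
        intro n
        induction n with
        | zero => rw [pow_zero, pow_zero, mul_one, one_mul]
        | succ n ih => rw [pow_succ, pow_succ, ← mul_assoc, ih, mul_assoc, hj, mul_assoc]
      rw [aeval_monomial, aeval_monomial, ← mul_assoc, ← Algebra.commutes c a, mul_assoc, mul_assoc, h3]
  have h2 : aeval (g ^ j) (minpoly F g) = 0 := by
    have h3 := h1 (minpoly F g)
    rw [minpoly.aeval, mul_zero] at h3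
    have h4 := congrArg (· * a') h3
    simp only [zero_mul] at h4
    rw [mul_assoc, haa, mul_one] at h4
    exact h4.symm
  have h3 : aeval ((AdjoinRoot.root (minpoly F g)) ^ j) (minpoly F g) = 0 := by
    apply hinj
    rw [← Polynomial.aeval_algHom_apply, map_pow, phi_root, h2, map_zero]
  let σ : KK g →ₐ[F] KK g := AdjoinRoot.liftAlgHom (minpoly F g) (Algebra.ofId F (KK g)) _ h3
  have hσ : σ (AdjoinRoot.root (minpoly F g)) = (AdjoinRoot.root (minpoly F g)) ^ j :=
    AdjoinRoot.liftAlgHom_root _ _ _ h3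
  have hfdK : FiniteDimensional F (KK g) := inferInstance
  let e : KK g ≃ₐ[F] KK g := AlgEquiv.ofBijective σ (Algebra.IsAlgebraic.algHom_bijective σ)
  have he : ∀ x, e x = σ x := fun x => rfl
  have hcard : Nat.card (KK g ≃ₐ[F] KK g) = finrank F W := by
    rw [IsGalois.card_aut_eq_finrank, finrank_KK hirr]
  have h4 : e ^ finrank F W = 1 := by rw [← hcard]; exact pow_card_eq_one'
  have h5 : ∀ k : ℕ, (e ^ k) (AdjoinRoot.root (minpoly F g)) = (AdjoinRoot.root (minpoly F g)) ^ (j ^ k) := by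
    intro k
    induction k with
    | zero => rw [pow_zero, pow_zero, pow_one]; rfl
    | succ k ih =>
      rw [pow_succ', AlgEquiv.mul_apply, ih, map_pow, he, hσ, ← pow_mul, pow_succ, mul_comm]
  have h6 := h5 (finrank F W)
  rw [h4] at h6
  have h7 : g ^ (j ^ finrank F W) = g := by
    have h8 := congrArg (phi g) h6
    rw [map_pow, phi_root] at h8
    rw [← h8]
    exact phi_root
  -- a unit
  let u : (Module.End F W)ˣ := ⟨g, g ^ (l - 1), by rw [← pow_succ', Nat.sub_add_cancel hl.out.one_le, hg],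
    by rw [← pow_succ, Nat.sub_add_cancel hl.out.one_le, hg]⟩
  have hu : orderOf u = l := by
    apply orderOf_eq_prime
    · exact Units.ext hg
    · intro h8
      exact hg1 (congrArg Units.val h8)
  have h8 : u ^ (j ^ finrank F W) = u ^ 1 := by
    apply Units.ext
    rw [Units.val_pow_eq_pow_val, Units.val_pow_eq_pow_val, pow_one]
    exact h7
  have h9 := pow_eq_pow_iff_modEq.1 h8
  rwa [hu] at h9

end abs

/-! ### elements of `E Q` -/

section conc

variable {F V : Type*} [Field F] [AddCommGroup V] [Module F V] {Q : QuadraticForm F V} [Finite V]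
variable {l : ℕ} [hl : Fact l.Prime]

theorem restr_pow {W : Submodule F V} {a : Module.End F V} (h : ∀ w ∈ W, a w ∈ W) (n : ℕ) (w : W) :
    ((((a.restrict h) ^ n) w : W) : V) = (a ^ n) w := by
  induction n generalizing w with
  | zero => rfl
  | succ n ih =>
    rw [pow_succ, pow_succ, Module.End.mul_apply, Module.End.mul_apply, ih]
    rfl

/-- **The action of the centraliser of `y` on `R y`.** -/
theorem exists_kernel (hG : Good Q) (hl2 : l ≠ 2) (hlF : (l : F) ≠ 0) {y : ↥(E Q)} (hy : y ^ l = 1) (hy1 : y ≠ 1)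
    (hirr : Irr (en Q y) (R (en Q y))) {m : ℕ} (hm : finrank F (R (en Q y)) = 2 * m) :
    ∃ L : Subgroup ↥(centralizer ({y} : Set ↥(E Q))),
      (∀ c, c ∈ L ↔ ∀ w ∈ R (en Q y), (c.1 : V ≃ₗ[F] V) w = w) ∧ L.index ∣ Nat.card F ^ m + 1 := by
  classical
  have hfinE : Finite ↥(E Q) := finite_E
  have hfinF : Finite F := finite_F hG
  have hfd : FiniteDimensional F V := inferInstance
  have hy' : en Q y ^ l = 1 := by rw [← map_pow, hy, map_one]
  have hyne : en Q y ≠ 1 := fun h => hy1 (en_injective (h.trans (map_one _).symm))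
  have hWne : R (en Q y) ≠ ⊥ := fun h => hyne (R_eq_bot.1 h)
  set W := R (en Q y) with hW
  have hn : Nontrivial W := Submodule.nontrivial_iff_ne_bot.2 hWne
  have hyW : ∀ w ∈ W, en Q y w ∈ W := fun w hw => R_inv rfl hw
  have hcomm : ∀ c : ↥(centralizer ({y} : Set ↥(E Q))), en Q c.1 * en Q y = en Q y * en Q c.1 := fun c => by
    rw [← map_mul, ← map_mul, mem_centralizer_singleton_iff.1 c.2]
  have hcW : ∀ c : ↥(centralizer ({y} : Set ↥(E Q))), ∀ w ∈ W, en Q c.1 w ∈ W := fun c w hw => R_inv (hcomm c) hw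
  let ρ : ↥(centralizer ({y} : Set ↥(E Q))) →* Module.End F W :=
    { toFun := fun c => (en Q c.1).restrict (hcW c)
      map_one' := by
        refine LinearMap.ext fun w => Subtype.ext ?_
        change en Q 1 (w : V) = w
        rw [map_one]; rfl
      map_mul' := fun a b => by
        refine LinearMap.ext fun w => Subtype.ext ?_
        change en Q (a.1 * b.1) (w : V) = en Q a.1 (en Q b.1 w)
        rw [map_mul]; rfl }
  have hρ : ∀ c w, ((ρ c w : W) : V) = (c.1 : V ≃ₗ[F] V) w := fun c w => rfl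
  obtain ⟨w, hw, hw0⟩ := Submodule.exists_mem_ne_zero_of_ne_bot hWne
  obtain ⟨m', hm', hU⟩ := unitary_on (l := l - 1) hWne hyW hirr (polarBilin Q) (fun u _ v _ => isom_en y u v)
    (fun v hv hv' => nondeg_R (isom_en y) (polar_nondeg hG) hy' hlF hv hv')
    (by rw [Nat.sub_add_cancel hl.out.one_le, hy'])
    ⟨w, hw, fun h1 => hw0 (eq_zero_of_mem hy' hlF (fix_of_sq hl2 hy' h1) hw)⟩
  have hmm : m' = m := by omega
  subst hmm
  obtain ⟨L, hL, hLi⟩ := card_range_dvd (g := (en Q y).restrict hyW) (hirr.restrict hyW) ρ (fun c => by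
    refine LinearMap.ext fun w => Subtype.ext ?_
    exact LinearMap.congr_fun (hcomm c) (w : V)) (n := Nat.card F ^ m' + 1) (fun c => by
    refine LinearMap.ext fun w => Subtype.ext ?_
    have h1 := hU (en Q c.1) (hcW c) (fun w _ => LinearMap.congr_fun (hcomm c) w)
      (fun u _ v _ => isom_en c.1 u v) w w.2
    have h2 := restr_pow (hcW c) (Nat.card F ^ m' + 1) w
    rw [h1] at h2
    exact h2)
  refine ⟨L, fun c => ?_, hLi⟩
  rw [hL]
  constructor
  · intro h w hw
    have h1 := congrArg Subtype.val (LinearMap.congr_fun h ⟨w, hw⟩)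
    exact h1
  · intro h
    refine LinearMap.ext fun w => Subtype.ext ?_
    exact h w w.2

/-- **Irreducible elements.** -/
theorem card_cent_irr (hG : Good Q) (hl2 : l ≠ 2) (hlF : (l : F) ≠ 0) {y : ↥(E Q)} (hy : y ^ l = 1) (hy1 : y ≠ 1)
    (hirr : Irr (en Q y) (R (en Q y))) {m : ℕ} (hm : finrank F (R (en Q y)) = 2 * m) (hV : finrank F V = 2 * m) :
    Nat.card (centralizer ({y} : Set ↥(E Q))) ∣ Nat.card F ^ m + 1 := by
  have hfinE : Finite ↥(E Q) := finite_E
  have hfd : FiniteDimensional F V := inferInstance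
  obtain ⟨L, hL, hLi⟩ := exists_kernel hG hl2 hlF hy hy1 hirr hm
  have hW : R (en Q y) = ⊤ := Submodule.eq_top_of_finrank_eq (by rw [hm, hV])
  have h1 : L = ⊥ := by
    rw [eq_bot_iff]
    intro c hc
    rw [mem_bot]
    apply Subtype.ext
    apply Subtype.ext
    ext w
    exact (hL c).1 hc w (hW ▸ Submodule.mem_top)
  rw [h1, index_bot] at hLi
  exact hLi

/-- **Elements with a hyperbolic plane of fixed vectors.** -/
theorem card_cent_plane (hG : Good Q) (hl2 : l ≠ 2) (hlF : (l : F) ≠ 0) {y : ↥(E Q)} (hy : y ^ l = 1) (hy1 : y ≠ 1)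
    (hirr : Irr (en Q y) (R (en Q y))) {m : ℕ} (hm : finrank F (R (en Q y)) = 2 * m)
    (hK : finrank F (K (en Q y)) = 2) {e : V} (he : e ∈ K (en Q y)) (he0 : e ≠ 0) (hQe : Q e = 0) :
    Nat.card (centralizer ({y} : Set ↥(E Q))) ∣ (Nat.card F ^ m + 1) * (2 * (Nat.card F - 1)) := by
  classical
  have hfinE : Finite ↥(E Q) := finite_E
  have hfinF : Finite F := finite_F hG
  have hfd : FiniteDimensional F V := inferInstance
  have hy' : en Q y ^ l = 1 := by rw [← map_pow, hy, map_one]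
  obtain ⟨L, hL, hLi⟩ := exists_kernel hG hl2 hlF hy hy1 hirr hm
  have hnd : ∀ v ∈ K (en Q y), (∀ u ∈ K (en Q y), polarBilin Q u v = 0) → v = 0 := fun w hw h =>
    nondeg_K (isom_en y) (polar_nondeg hG) hy' hlF hw h
  have hcK : ∀ c : ↥(centralizer ({y} : Set ↥(E Q))), ∀ w ∈ K (en Q y), (c.1 : V ≃ₗ[F] V) w ∈ K (en Q y) :=
    fun c w hw => K_inv (s := en Q c.1) (by rw [← map_mul, ← map_mul, mem_centralizer_singleton_iff.1 c.2]) hw
  rw [← Subgroup.card_mul_index L, mul_comm]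
  apply Nat.mul_dvd_mul hLi
  -- `L` acts freely on the nonzero singular vectors of `K y`
  have h1 := card_sing_plane hK hnd he he0 hQe
  have h2 : Nat.card {v : V // v ∈ K (en Q y) ∧ Q v = 0 ∧ v ≠ 0} = 2 * (Nat.card F - 1) := by
    have h3 : Nat.card {v : V // v ∈ K (en Q y) ∧ Q v = 0} =
        Nat.card (Option {v : V // v ∈ K (en Q y) ∧ Q v = 0 ∧ v ≠ 0}) := by
      refine Nat.card_congr ⟨fun v => if h : (v : V) = 0 then none else some ⟨v, v.2.1, v.2.2, h⟩,
        fun v => v.elim ⟨0, Submodule.zero_mem _, QuadraticMap.map_zero _⟩ (fun v => ⟨v, v.2.1, v.2.2.1⟩), ?_, ?_⟩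
      · intro v
        by_cases h : (v : V) = 0
        · simp only [h, dif_pos]
          exact Subtype.ext h.symm
        · simp only [h, dif_neg, not_false_eq_true]
          rfl
      · rintro (_ | v)
        · simp
        · have := v.2.2.2
          simp [this]
    rw [Finite.card_option] at h3
    have := Nat.card_pos (α := F)
    omega
  rw [← h2]
  let act : MulAction ↥L {v : V // v ∈ K (en Q y) ∧ Q v = 0 ∧ v ≠ 0} :=
    { smul := fun g v => ⟨(g.1.1 : V ≃ₗ[F] V) v, hcK g.1 v v.2.1, by rw [E_le_O g.1.1.2]; exact v.2.2.1,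
        fun h => v.2.2.2 (LinearEquiv.map_eq_zero_iff _ |>.1 h)⟩
      one_smul := fun v => rfl
      mul_smul := fun g h v => rfl }
  have hsm : ∀ (g : ↥L) (v : {v : V // v ∈ K (en Q y) ∧ Q v = 0 ∧ v ≠ 0}),
    ((g • v : {v : V // v ∈ K (en Q y) ∧ Q v = 0 ∧ v ≠ 0}) : V) = (g.1.1 : V ≃ₗ[F] V) v := fun _ _ => rfl
  refine Cfsg.Agent.Classification.InvCentU.FiveLib.card_dvd_of_free (fun g x hgx => ?_)
  have hgx' : (g.1.1 : V ≃ₗ[F] V) x = x := by rw [← hsm, hgx]
  obtain ⟨x, hxK, hQx, hx0⟩ := x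
  obtain ⟨x', hx'K, hxx', hQx', -, hdec⟩ := exists_pair hK hnd hxK hx0 hQx
  have hgO := E_le_O g.1.1.2
  have h3 : (g.1.1 : V ≃ₗ[F] V) x' = x' := by
    have h4 := hcK g.1 x' hx'K
    have h5 : Q ((g.1.1 : V ≃ₗ[F] V) x') = 0 := by rw [hgO]; exact hQx'
    have h6 : polar Q x ((g.1.1 : V ≃ₗ[F] V) x') = 1 := by
      have h7 := polar_map hgO x x'
      rw [hgx', hxx'] at h7
      exact h7
    rcases sing_cases hQx hQx' hxx' hdec h4 h5 with ⟨c, hc⟩ | ⟨c, hc⟩
    · rw [hc, polar_smul_right, polar_self_of_sing hQx, smul_zero] at h6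
      exact absurd h6 zero_ne_one
    · rw [hc, polar_smul_right, hxx', smul_eq_mul, mul_one] at h6
      rw [hc, h6, one_smul]
  apply Subtype.ext
  apply Subtype.ext
  apply Subtype.ext
  ext w
  obtain ⟨k, hk, r, hr, rfl⟩ := decomp hy' hlF w
  change (g.1.1 : V ≃ₗ[F] V) (k + r) = k + r
  rw [map_add, (hL g.1).1 g.2 r hr]
  congr 1
  have h4 := hdec k hk
  rw [h4, map_add, map_smul, map_smul, h3]
  congr 2

/-- **The elements normalising `⟨y⟩`.** -/
theorem norm_pow (hG : Good Q) (hlF : (l : F) ≠ 0) {y : ↥(E Q)} (hy : y ^ l = 1) (hy1 : y ≠ 1)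
    (hirr : Irr (en Q y) (R (en Q y))) {a : ↥(E Q)} {j : ℕ} (hj : a * y * a⁻¹ = y ^ j) :
    j ^ finrank F (R (en Q y)) ≡ 1 [MOD l] := by
  classical
  have hfinE : Finite ↥(E Q) := finite_E
  have hfd : FiniteDimensional F V := inferInstance
  have hy' : en Q y ^ l = 1 := by rw [← map_pow, hy, map_one]
  have hyne : en Q y ≠ 1 := fun h => hy1 (en_injective (h.trans (map_one _).symm))
  have hWne : R (en Q y) ≠ ⊥ := fun h => hyne (R_eq_bot.1 h)
  set W := R (en Q y) with hW
  have hn : Nontrivial W := Submodule.nontrivial_iff_ne_bot.2 hWne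
  have hyW : ∀ w ∈ W, en Q y w ∈ W := fun w hw => R_inv rfl hw
  have hay : a * y = y ^ j * a := by rw [← hj]; group
  have hay' : en Q a * en Q y = en Q y ^ j * en Q a := by rw [← map_mul, hay, map_mul, map_pow]
  have hpow : ∀ (n : ℕ) (v : V), (en Q y ^ n) v - v ∈ W := by
    intro n
    induction n with
    | zero => intro v; rw [pow_zero, Module.End.one_apply, sub_self]; exact Submodule.zero_mem _
    | succ n ih =>
      intro v
      rw [pow_succ', Module.End.mul_apply]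
      have h1 : en Q y ((en Q y ^ n) v) - v = (en Q y ((en Q y ^ n) v) - (en Q y ^ n) v) + ((en Q y ^ n) v - v) := by
        abel
      rw [h1]
      exact Submodule.add_mem _ (sub_mem_R _ _) (ih v)
  have haW : ∀ w ∈ W, en Q a w ∈ W := by
    rintro _ ⟨v, rfl⟩
    change en Q a (en Q y v - v) ∈ W
    rw [map_sub, ← Module.End.mul_apply, hay', Module.End.mul_apply]
    exact hpow j _
  -- the inverse
  have hainj : Function.Injective ((en Q a).restrict haW) := by
    intro u v h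
    apply Subtype.ext
    have h1 : (a : V ≃ₗ[F] V) u = (a : V ≃ₗ[F] V) v := congrArg Subtype.val h
    exact (a : V ≃ₗ[F] V).injective h1
  let ea : W ≃ₗ[F] W := LinearEquiv.ofInjectiveEndo ((en Q a).restrict haW) hainj
  have hea : ∀ w, ea w = (en Q a).restrict haW w := fun w => rfl
  refine pow_eq_one_of_norm (g := (en Q y).restrict hyW) (hirr.restrict hyW) ?_ ?_ (a := (en Q a).restrict haW)
    (a' := (ea.symm : W →ₗ[F] W)) ?_ (j := j) ?_
  · refine LinearMap.ext fun w => Subtype.ext ?_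
    rw [restr_pow, hy']
    rfl
  · intro h
    obtain ⟨w, hw, hw0⟩ := Submodule.exists_mem_ne_zero_of_ne_bot hWne
    apply hw0
    have h1 : en Q y w = w := congrArg Subtype.val (LinearMap.congr_fun h ⟨w, hw⟩)
    exact eq_zero_of_mem hy' hlF h1 hw
  · refine LinearMap.ext fun w => ?_
    change ea.symm ((en Q a).restrict haW w) = w
    rw [← hea, LinearEquiv.symm_apply_apply]
  · refine LinearMap.ext fun w => Subtype.ext ?_
    change en Q a (en Q y w) = ((((en Q y).restrict hyW) ^ j) ((en Q a).restrict haW w) : W)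
    rw [restr_pow]
    exact LinearMap.congr_fun hay' (w : V)

end conc

end Cfsg.Agent.H311.PD
end

-- part: H311/PD/Trans
section
/-!
# S4246, orthogonal rows: from `E Q` to `P Q` (helper311)
-/

set_option autoImplicit false
set_option linter.unusedSectionVars false

namespace Cfsg.Agent.H311.PD

open QuadraticMap Module Subgroup Cfsg.Agent.LieClassical.OrthCore Cfsg.Agent.LieClassical.OrthTrans
open Cfsg.Agent.ClassicalGeometry.OrthSemi Cfsg.Agent.ClassicalGeometry.OrthAut1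
open Cfsg.Agent.H200.LinFix Cfsg.Agent.H200.RowOrth
open Cfsg.Agent.H160.PD (v v_mono v_eq_zero v_pos Fx mem_Fx out)

/-! ### general groups -/

section gen

variable {S : Type*} [Group S]

theorem Fx_conj (s : S) : Fx (MulAut.conj s) = centralizer ({s} : Set S) := by
  ext x
  rw [mem_Fx, mem_centralizer_singleton_iff, MulAut.conj_apply, mul_inv_eq_iff_eq_mul]
  exact eq_comm

/-- `out S · |S| = |Aut S|` -/
theorem out_mul [Finite S] (hZ : center S = ⊥) : out S * Nat.card S = Nat.card (MulAut S) := by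
  rw [out, mul_comm, ← Subgroup.card_mul_index (MulAut.conj : S →* MulAut S).range]
  congr 1
  exact Nat.card_congr (MonoidHom.ofInjective (Cfsg.Agent.H160.PD.conj_injective hZ)).toEquiv

/-- commuting elements in a group with cyclic Sylow subgroups -/
theorem uniq_of_sylow [Finite S] {r : ℕ} [hr : Fact r.Prime] (P : Sylow r S) (hP : IsCyclic ↥(P : Subgroup S)) :
    Cfsg.Agent.H160.PD.Uniq S r := by
  intro x y hx hy hxy
  have hA : IsPGroup r ↥(zpowers x ⊔ zpowers y) :=
    (Cfsg.Agent.H160.PD.isPGroup_zpowers hx).to_sup_of_normal_right' (Cfsg.Agent.H160.PD.isPGroup_zpowers hy)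
      (Cfsg.Agent.H160.PD.zpowers_le_normalizer_of_comm hxy)
  obtain ⟨R, hR⟩ := hA.exists_le_sylow
  have hRc : IsCyclic ↥(R : Subgroup S) := (Sylow.equiv R P).isCyclic.2 hP
  have h1 : zpowers y = zpowers x := by
    refine OddOrderLocal.CyclicSub.eq_of_card_eq_of_le_cyclic hRc (le_sup_right.trans hR) (le_sup_left.trans hR) ?_
    rw [Nat.card_zpowers, Nat.card_zpowers, hx, hy]
  rw [← h1]
  exact mem_zpowers y

end gen

/-! ### `E Q → P Q` -/

variable {F V : Type*} [Field F] [AddCommGroup V] [Module F V] {Q : QuadraticForm F V} [Finite V]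

theorem card_E (Q : QuadraticForm F V) : Nat.card ↥(E Q) = Nat.card (P Q) * Nat.card (center ↥(E Q)) :=
  Subgroup.card_eq_card_quotient_mul_card_subgroup _

theorem v_P {r : ℕ} (h : ¬ r ∣ Nat.card (center ↥(E Q))) : v r (P Q) = v r ↥(E Q) := by
  have hfinE : Finite ↥(E Q) := finite_E
  simp only [v]
  rw [card_E, Nat.factorization_mul Nat.card_pos.ne' Nat.card_pos.ne', Finsupp.add_apply,
    Nat.factorization_eq_zero_of_not_dvd h, add_zero]

/-- the centre has order prime to the characteristic -/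
theorem not_dvd_center_char (hG : Good Q) {p : ℕ} [hp : Fact p.Prime] (hpF : (p : F) = 0) :
    ¬ p ∣ Nat.card (center ↥(E Q)) := by
  have hfinE : Finite ↥(E Q) := finite_E
  by_cases hp2 : p = 2
  · subst hp2
    have h1 : center ↥(E Q) = ⊥ := by
      rw [eq_bot_iff]
      intro z hz
      rw [mem_bot]
      obtain ⟨c, hc⟩ := center_scalar hG hz
      obtain ⟨u, hu, -⟩ := hG.sing
      have h2 : (z : V ≃ₗ[F] V) ((z : V ≃ₗ[F] V) u) = u :=
        congrArg (fun g : ↥(E Q) => (g : V ≃ₗ[F] V) u) (center_sq hG hz)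
      rw [hc, hc, smul_smul] at h2
      have h3 : (c * c - 1) • u = 0 := by rw [sub_smul, h2, one_smul, sub_self]
      have h4 : c ^ 2 ^ 1 = 1 := by
        rcases smul_eq_zero.1 h3 with h4 | h4
        · rw [pow_one, pow_two]; exact sub_eq_zero.1 h4
        · exact absurd h4 hu
      have h5 := scalar_one hpF h4
      apply Subtype.ext
      ext w
      rw [hc, h5, one_smul]
      rfl
    rw [h1, Subgroup.card_bot]
    norm_num
  · exact not_dvd_center hG hp2

theorem v_P_char (hG : Good Q) {p : ℕ} [hp : Fact p.Prime] (hpF : (p : F) = 0) : v p (P Q) = v p ↥(E Q) :=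
  v_P (not_dvd_center_char hG hpF)

/-- the centraliser of the image -/
theorem centralizer_mk (hG : Good Q) {l : ℕ} (hl : Odd l) {y : ↥(E Q)} (hy : y ^ l = 1) :
    centralizer ({(QuotientGroup.mk y : P Q)} : Set (P Q)) =
      (centralizer ({y} : Set ↥(E Q))).map (QuotientGroup.mk' (center ↥(E Q))) := by
  ext x
  rw [mem_centralizer_singleton_iff, mem_map]
  constructor
  · intro h
    obtain ⟨a, rfl⟩ := QuotientGroup.mk_surjective x
    exact ⟨a, mem_centralizer_singleton_iff.2 (comm_of_mk hG hl hy h.symm).symm, rfl⟩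
  · rintro ⟨a, ha, rfl⟩
    have h1 := mem_centralizer_singleton_iff.1 ha
    exact congrArg (QuotientGroup.mk : ↥(E Q) → P Q) h1

theorem card_centralizer_mk (hG : Good Q) {l : ℕ} (hl : Odd l) {y : ↥(E Q)} (hy : y ^ l = 1) :
    Nat.card (centralizer ({(QuotientGroup.mk y : P Q)} : Set (P Q))) ∣ Nat.card (centralizer ({y} : Set ↥(E Q))) := by
  rw [centralizer_mk hG hl hy]
  exact Subgroup.card_map_dvd _ _

theorem v_centralizer_mk (hG : Good Q) {l : ℕ} (hl : Odd l) {y : ↥(E Q)} (hy : y ^ l = 1) (r : ℕ) :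
    v r (centralizer ({(QuotientGroup.mk y : P Q)} : Set (P Q))) ≤ v r (centralizer ({y} : Set ↥(E Q))) := by
  have hfinE : Finite ↥(E Q) := finite_E
  exact (Nat.factorization_le_iff_dvd Nat.card_pos.ne' Nat.card_pos.ne').2 (card_centralizer_mk hG hl hy) r

/-- lifting of a conjugation -/
theorem lift_norm (hG : Good Q) {y a : ↥(E Q)} {l : ℕ} (hl : Odd l) (hy : y ^ l = 1) {j : ℕ}
    (hc : (QuotientGroup.mk a : P Q) * QuotientGroup.mk y * (QuotientGroup.mk a)⁻¹ = (QuotientGroup.mk y) ^ j) :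
    a * y * a⁻¹ = y ^ j := by
  have h1 : (y ^ j)⁻¹ * (a * y * a⁻¹) ∈ Subgroup.center ↥(E Q) := by
    rw [← QuotientGroup.eq_one_iff]
    have h2 : (QuotientGroup.mk ((y ^ j)⁻¹ * (a * y * a⁻¹)) : P Q) =
      ((QuotientGroup.mk y) ^ j)⁻¹ * (QuotientGroup.mk a * QuotientGroup.mk y * (QuotientGroup.mk a)⁻¹) := rfl
    rw [h2, hc]
    group
  set z := (y ^ j)⁻¹ * (a * y * a⁻¹) with hz
  have h3 : a * y * a⁻¹ = y ^ j * z := by rw [hz]; group
  have h4 : z ^ l = 1 := by
    have h5 : (y ^ j * z) ^ l = 1 := by rw [← h3, conj_pow, hy, mul_one, mul_inv_cancel]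
    have h6 : Commute (y ^ j) z := Subgroup.mem_center_iff.1 h1 (y ^ j)
    rwa [h6.mul_pow, ← pow_mul, mul_comm j l, pow_mul, hy, one_pow, one_mul] at h5
  rw [h3, center_pow_odd hG h1 hl h4, mul_one]

/-- **The order of the normaliser.** -/
theorem card_normalizer (hG : Good Q) {l : ℕ} [hl : Fact l.Prime] (hl2 : l ≠ 2) (hlF : (l : F) ≠ 0) {y : ↥(E Q)}
    (hy : y ^ l = 1) (hy1 : y ≠ 1) (hirr : Irr (en Q y) (R (en Q y))) :
    Nat.card (normalizer ((zpowers (QuotientGroup.mk y : P Q) : Subgroup (P Q)) : Set (P Q))) ∣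
      Nat.card (centralizer ({y} : Set ↥(E Q))) * finrank F (R (en Q y)) := by
  have hfinE : Finite ↥(E Q) := finite_E
  have hlo := hl.out.odd_of_ne_two hl2
  have hox := orderOf_mk hG hlo hy hy1
  refine (Cfsg.Agent.H160.PD.card_normalizer_dvd hl.out hox fun n hn => ?_).trans
    (Nat.mul_dvd_mul_right (card_centralizer_mk hG hlo hy) _)
  rw [mem_centralizer_singleton_iff]
  set x : P Q := QuotientGroup.mk y with hx
  have h1 : n * x * n⁻¹ ∈ zpowers x := (mem_normalizer_iff.1 hn x).1 (mem_zpowers x)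
  obtain ⟨j, hj⟩ : ∃ j : ℕ, x ^ j = n * x * n⁻¹ := by
    rw [← (isOfFinOrder_of_finite x).mem_powers_iff_mem_zpowers] at h1
    exact h1
  obtain ⟨a, ha⟩ := QuotientGroup.mk_surjective n
  have h2 : j ^ finrank F (R (en Q y)) ≡ 1 [MOD l] := by
    refine norm_pow hG hlF hy hy1 hirr (a := a) (lift_norm hG hlo hy ?_)
    change (QuotientGroup.mk a : P Q) * x * (QuotientGroup.mk a)⁻¹ = x ^ j
    rw [ha, hj]
  have h3 : ∀ k : ℕ, n ^ k * x * (n ^ k)⁻¹ = x ^ j ^ k := by
    intro k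
    induction k with
    | zero => rw [pow_zero, pow_zero, pow_one, one_mul, inv_one, mul_one]
    | succ k ih =>
      have h4 : n ^ (k + 1) * x * (n ^ (k + 1))⁻¹ = n * (n ^ k * x * (n ^ k)⁻¹) * n⁻¹ := by
        rw [pow_succ']; group
      rw [h4, ih, ← conj_pow, ← hj, ← pow_mul, pow_succ, mul_comm]
  have h5 : x ^ j ^ finrank F (R (en Q y)) = x := by
    conv_rhs => rw [← pow_one x]
    rw [pow_eq_pow_iff_modEq, hox]
    exact h2
  have h6 := h3 (finrank F (R (en Q y)))
  rw [h5, mul_inv_eq_iff_eq_mul] at h6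
  exact h6

/-- **Automorphisms of odd prime order fixing an element of order `l`.** -/
theorem lift_aut (hG : Good Q) [IsSimpleGroup (P Q)] (hna : ¬ IsMulCommutative (P Q))
    (haut : ∀ a : MulAut (P Q), ∃ M : Gam Q, a = Psi Q M) {b : MulAut (P Q)} (hb : (orderOf b).Prime)
    (hb2 : orderOf b ≠ 2) {l : ℕ} [hl : Fact l.Prime] (hl2 : l ≠ 2)
    (hZ : ∀ y : ↥(E Q), y ^ l = 1 → IrrZ (en Q y) (R (en Q y))) {x : P Q} (hx : orderOf x = l) (hbx : b x = x) :
    ∃ t y : ↥(E Q), t ^ orderOf b = 1 ∧ t ≠ 1 ∧ b = MulAut.conj (QuotientGroup.mk t : P Q) ∧ y ^ l = 1 ∧ y ≠ 1 ∧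
      (QuotientGroup.mk y : P Q) = x ∧ t * y = y * t := by
  have hbF := Fact.mk hb
  obtain ⟨M, hM⟩ := haut b
  have hlo := hl.out.odd_of_ne_two hl2
  obtain ⟨y, hy, hyx⟩ := lift_pow hG x hlo (by rw [← hx, pow_orderOf_eq_one])
  have hy1 : y ≠ 1 := by
    rintro rfl
    rw [← hyx, QuotientGroup.mk_one, orderOf_one] at hx
    exact hl.out.one_lt.ne hx
  rcases inner_or_field hG hb hb2 (M := M) (by rw [← hM]) with ⟨g, hg⟩ | ⟨σ, c, hMs, hσ⟩
  · obtain ⟨t, ht, ht1, hat⟩ := exists_lift_elt hG hb2 (a := b) rfl (s := g) (by rw [hM, hg]) hna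
    refine ⟨t, y, ht, ht1, hat, hy, hy1, hyx, ?_⟩
    rw [hat, MulAut.conj_apply, mul_inv_eq_iff_eq_mul, ← hyx] at hbx
    exact (comm_of_mk hG hlo hy hbx.symm).symm
  · exfalso
    refine not_fixed_field hG hl2 hMs hσ hZ hx ?_
    rw [← hM]
    exact hbx

end Cfsg.Agent.H311.PD
end

-- part: H311/PD/Num
section
/-!
# S4246, orthogonal rows: arithmetic (helper311)
-/

set_option autoImplicit false

namespace Cfsg.Agent.H311.PD

/-- `q ^ m + 1` is prime to the characteristic -/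
theorem not_dvd_pow_add_one {p f m : ℕ} (hp : p.Prime) (hf : 1 ≤ f) (hm : 1 ≤ m) : ¬ p ∣ (p ^ f) ^ m + 1 := by
  intro h
  have h1 : p ∣ (p ^ f) ^ m := dvd_pow (dvd_pow_self p (by omega)) (by omega)
  have h2 := (Nat.dvd_add_right h1).1 h
  exact hp.one_lt.ne' (Nat.dvd_one.1 h2)

theorem not_dvd_pow_sub_one {p f m : ℕ} (hp : p.Prime) (hf : 1 ≤ f) (hm : 1 ≤ m) : ¬ p ∣ (p ^ f) ^ m - 1 := by
  intro h
  have h1 : p ∣ (p ^ f) ^ m := dvd_pow (dvd_pow_self p (by omega)) (by omega)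
  have h3 : 1 ≤ (p ^ f) ^ m := Nat.one_le_pow _ _ (pow_pos hp.pos _)
  have h2 := (Nat.dvd_sub h1 h)
  rw [Nat.sub_sub_self h3] at h2
  exact hp.one_lt.ne' (Nat.dvd_one.1 h2)

theorem fac_two_le {p : ℕ} (hp : p.Prime) : (2 : ℕ).factorization p ≤ 1 := by
  by_contra h
  push Not at h
  have h1 : p ^ 2 ∣ 2 := (hp.pow_dvd_iff_le_factorization (by norm_num)).2 h
  have h2 := Nat.le_of_dvd (by norm_num) h1
  have h3 : 2 * 2 ≤ p ^ 2 := by rw [pow_two]; exact Nat.mul_le_mul hp.two_le hp.two_le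
  omega

theorem fac_plane {p f m : ℕ} (hp : p.Prime) (hf : 1 ≤ f) (hm : 1 ≤ m) :
    (((p ^ f) ^ m + 1) * (2 * (p ^ f - 1))).factorization p ≤ 1 := by
  have h1 := not_dvd_pow_add_one hp hf hm
  have h2 := not_dvd_pow_sub_one hp hf (le_refl 1)
  rw [pow_one] at h2
  have hq : 1 < p ^ f := Nat.one_lt_pow (by omega) hp.one_lt
  rw [Nat.factorization_mul (by positivity) (by omega), Nat.factorization_mul (by norm_num) (by omega),
    Finsupp.add_apply, Finsupp.add_apply, Nat.factorization_eq_zero_of_not_dvd h1,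
    Nat.factorization_eq_zero_of_not_dvd h2]
  have := fac_two_le hp
  omega

/-- **LTE.** -/
theorem lte {t p f e : ℕ} (ht : t.Prime) (hf : 1 ≤ f) (hp : 1 ≤ p) (h : t ∣ (p ^ f) ^ e - 1) (he : 1 < (p ^ f) ^ e) :
    f.factorization t + 1 ≤ ((p ^ f) ^ e - 1).factorization t := by
  have := Fact.mk ht
  obtain ⟨a, ha⟩ : ∃ a, a = f.factorization t := ⟨_, rfl⟩
  obtain ⟨g, hg⟩ : t ^ a ∣ f := by rw [ha]; exact Nat.ordProj_dvd f t
  rw [← ht.pow_dvd_iff_le_factorization (by omega), ← ha]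
  have h1 : (p ^ f) ^ e = (p ^ (g * e)) ^ t ^ a := by
    rw [← pow_mul, ← pow_mul, hg]
    congr 1
    ring
  have h2 : 1 ≤ (p ^ (g * e)) ^ t ^ a := Nat.one_le_pow _ _ (pow_pos hp _)
  rw [h1] at h ⊢
  -- Fermat
  have h3 : (t : ℤ) ∣ ((p ^ (g * e) : ℕ) : ℤ) - 1 := by
    rw [← ZMod.intCast_zmod_eq_zero_iff_dvd]
    have h4 : (((p ^ (g * e)) ^ t ^ a - 1 : ℕ) : ZMod t) = 0 := (ZMod.natCast_eq_zero_iff _ _).2 h
    rw [Nat.cast_sub h2, Nat.cast_pow, Nat.cast_one, ZMod.pow_card_pow] at h4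
    push_cast at h4 ⊢
    exact h4
  have h4 := dvd_sub_pow_of_dvd_sub (R := ℤ) (p := t) h3 a
  have h5 : ((t ^ (a + 1) : ℕ) : ℤ) ∣ (((p ^ (g * e)) ^ t ^ a - 1 : ℕ) : ℤ) := by
    rw [Nat.cast_sub h2]
    push_cast at h4 ⊢
    rwa [one_pow] at h4
  exact_mod_cast h5

theorem fac_plane_odd {p f m : ℕ} (hp : p.Prime) (hp2 : p ≠ 2) (hf : 1 ≤ f) (hm : 1 ≤ m) :
    (((p ^ f) ^ m + 1) * (2 * (p ^ f - 1))).factorization p = 0 := by
  apply Nat.factorization_eq_zero_of_not_dvd
  intro h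
  have h1 := not_dvd_pow_add_one hp hf hm
  have h2 := not_dvd_pow_sub_one hp hf (le_refl 1)
  rw [pow_one] at h2
  rcases hp.dvd_mul.1 h with h3 | h3
  · exact h1 h3
  · rcases hp.dvd_mul.1 h3 with h4 | h4
    · exact hp2 ((Nat.prime_dvd_prime_iff_eq hp Nat.prime_two).1 h4)
    · exact h2 h4

theorem fac_two_mul_le {p n : ℕ} (hp : p.Prime) (hp2 : p ≠ 2) (hn : 1 ≤ n) : (2 * n).factorization p + 1 ≤ n := by
  have h1 : (2 : ℕ).factorization p = 0 := Nat.factorization_eq_zero_of_not_dvd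
    (fun h => hp2 ((Nat.prime_dvd_prime_iff_eq hp Nat.prime_two).1 h))
  rw [Nat.factorization_mul (by norm_num) (by omega), Finsupp.add_apply, h1, zero_add]
  exact Nat.factorization_lt p (by omega)

theorem fac_mono {t a b : ℕ} (hb : b ≠ 0) (h : a ∣ b) : a.factorization t ≤ b.factorization t := by
  have ha : a ≠ 0 := fun h0 => hb (by rw [h0] at h; exact Nat.eq_zero_of_zero_dvd h)
  exact (Nat.factorization_le_iff_dvd ha hb).2 h t

theorem prod_ne_zero {q n : ℕ} (hq : 2 ≤ q) : ∏ i ∈ Finset.range n, (q ^ (2 * (i + 1)) - 1) ≠ 0 := by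
  rw [Finset.prod_ne_zero_iff]
  intro i _
  have : 1 < q ^ (2 * (i + 1)) := Nat.one_lt_pow (by omega) (by omega)
  omega

/-- the order of `q` modulo `t` -/
theorem exists_ord {t q : ℕ} (ht : t.Prime) (h : ¬ t ∣ q) (hq : 1 ≤ q) :
    ∃ e, 1 ≤ e ∧ ∀ m, t ∣ q ^ m - 1 ↔ e ∣ m := by
  have := Fact.mk ht
  have h0 : (q : ZMod t) ≠ 0 := fun h1 => h ((ZMod.natCast_eq_zero_iff _ _).1 h1)
  refine ⟨orderOf (Units.mk0 (q : ZMod t) h0), orderOf_pos _, fun m => ?_⟩
  rw [orderOf_dvd_iff_pow_eq_one, Units.ext_iff, Units.val_pow_eq_pow_val, Units.val_mk0, Units.val_one,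
    ← ZMod.natCast_eq_zero_iff, Nat.cast_sub (Nat.one_le_pow _ _ hq), Nat.cast_pow, Nat.cast_one, sub_eq_zero]

/-- **The other primes, minus type.** -/
theorem num_minus {t p f n : ℕ} (ht : t.Prime) (ht2 : t ≠ 2) (hp : p.Prime) (htp : t ≠ p) (hf : 1 ≤ f) (hn : 4 ≤ n)
    (hd : t ∣ ((p ^ f) ^ n + 1) * ∏ i ∈ Finset.range (n - 1), ((p ^ f) ^ (2 * (i + 1)) - 1)) :
    ((∀ m, t ∣ (p ^ f) ^ m - 1 → 2 * n ∣ m) ∧ t ∣ (p ^ f) ^ n + 1) ∨
    ((∀ m, t ∣ (p ^ f) ^ m - 1 → 2 * (n - 1) ∣ m) ∧ t ∣ (p ^ f) ^ (n - 1) + 1) ∨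
    (p ^ f - 1).factorization t + f.factorization t <
      ((p ^ f) ^ (n - 1) - 1).factorization t +
        (∏ i ∈ Finset.range (n - 2), ((p ^ f) ^ (2 * (i + 1)) - 1)).factorization t := by
  have hq2 : 2 ≤ p ^ f := by
    calc 2 ≤ p := hp.two_le
      _ = p ^ 1 := (pow_one p).symm
      _ ≤ p ^ f := Nat.pow_le_pow_right hp.pos hf
  have htq : ¬ t ∣ p ^ f := fun h => htp ((Nat.prime_dvd_prime_iff_eq ht hp).1 (ht.dvd_of_dvd_pow h))
  obtain ⟨e, he1, he⟩ := exists_ord ht htq (by omega)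
  have hpos : ∀ m, 1 ≤ m → 1 < (p ^ f) ^ m := fun m hm => Nat.one_lt_pow (by omega) (by omega)
  have hsq : ∀ m, 1 ≤ m → (p ^ f) ^ (2 * m) - 1 = ((p ^ f) ^ m + 1) * ((p ^ f) ^ m - 1) := by
    intro m _
    rw [mul_comm 2 m, pow_mul]
    exact Nat.sq_sub_sq ((p ^ f) ^ m) 1
  have hboth : ∀ m, 1 ≤ m → t ∣ (p ^ f) ^ m + 1 → t ∣ (p ^ f) ^ m - 1 → False := by
    intro m hm h1 h2
    have h3 := Nat.dvd_sub h1 h2
    have h4 := hpos m hm
    have h5 : (p ^ f) ^ m + 1 - ((p ^ f) ^ m - 1) = 2 := by omega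
    rw [h5] at h3
    exact ht2 ((Nat.prime_dvd_prime_iff_eq ht Nat.prime_two).1 h3)
  -- the direct case
  have direct : ∀ i, i < n - 2 → e ∣ 2 * (i + 1) → (p ^ f - 1).factorization t + f.factorization t <
      ((p ^ f) ^ (n - 1) - 1).factorization t +
        (∏ i ∈ Finset.range (n - 2), ((p ^ f) ^ (2 * (i + 1)) - 1)).factorization t := by
    intro i hi hdi
    have h1 := lte ht hf hp.one_le ((he _).2 hdi) (hpos _ (by omega))
    have h2 := fac_mono (t := t) (prod_ne_zero (n := n - 2) hq2)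
      (Finset.dvd_prod_of_mem (fun i => (p ^ f) ^ (2 * (i + 1)) - 1) (Finset.mem_range.2 hi))
    have h3 : p ^ f - 1 ∣ (p ^ f) ^ (n - 1) - 1 := by
      have := Nat.sub_dvd_pow_sub_pow (p ^ f) 1 (n - 1)
      rwa [one_pow] at this
    have h4 := fac_mono (t := t) (by have := hpos (n - 1) (by omega); omega) h3
    omega
  have small : e ≤ n - 2 → (p ^ f - 1).factorization t + f.factorization t <
      ((p ^ f) ^ (n - 1) - 1).factorization t +
        (∏ i ∈ Finset.range (n - 2), ((p ^ f) ^ (2 * (i + 1)) - 1)).factorization t := by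
    intro h
    apply direct (e - 1) (by omega)
    rw [Nat.sub_add_cancel he1]
    exact dvd_mul_left _ _
  have hpr := Nat.prime_iff.1 ht
  rcases ht.dvd_mul.1 hd with h | h
  · -- `t ∣ q ^ n + 1`
    have h1 : t ∣ (p ^ f) ^ (2 * n) - 1 := by rw [hsq n (by omega)]; exact Dvd.dvd.mul_right h _
    obtain ⟨k, hk⟩ := (he _).1 h1
    have hk0 : k ≠ 0 := by rintro rfl; omega
    by_cases hk1 : k = 1
    · left
      refine ⟨fun m hm => ?_, h⟩
      rw [hk, hk1, mul_one]
      exact (he m).1 hm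
    · right; right
      by_cases hk2 : k = 2
      · exfalso
        have h2 : e = n := by rw [hk2] at hk; omega
        exact hboth n (by omega) h ((he n).2 (h2 ▸ dvd_rfl))
      · apply small
        have h3 : 3 ≤ k := by omega
        have h4 : e * 3 ≤ e * k := Nat.mul_le_mul_left _ h3
        omega
  · rw [hpr.dvd_finsetProd_iff] at h
    obtain ⟨i, hi, hti⟩ := h
    rw [Finset.mem_range] at hi
    have hei := (he _).1 hti
    by_cases hin : i < n - 2
    · exact Or.inr (Or.inr (direct i hin hei))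
    · have hi' : i + 1 = n - 1 := by omega
      rw [hi'] at hei hti
      obtain ⟨k, hk⟩ := hei
      have hk0 : k ≠ 0 := by rintro rfl; omega
      by_cases hk1 : k = 1
      · right; left
        refine ⟨fun m hm => ?_, ?_⟩
        · rw [hk, hk1, mul_one]
          exact (he m).1 hm
        · rw [hsq (n - 1) (by omega)] at hti
          rcases ht.dvd_mul.1 hti with h2 | h2
          · exact h2
          · exfalso
            have h3 := Nat.le_of_dvd (by omega) ((he _).1 h2)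
            rw [hk1] at hk
            omega
      · right; right
        by_cases hk2 : k = 2
        · have h2 : e = n - 1 := by rw [hk2] at hk; omega
          have h3 : t ∣ (p ^ f) ^ (n - 1) - 1 := (he _).2 (h2 ▸ dvd_rfl)
          have h4 := lte ht hf hp.one_le h3 (hpos _ (by omega))
          have h5 : (p ^ f - 1).factorization t = 0 := by
            apply Nat.factorization_eq_zero_of_not_dvd
            intro h6
            rw [← pow_one (p ^ f)] at h6
            have h7 := Nat.le_of_dvd one_pos ((he 1).1 h6)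
            omega
          omega
        · apply small
          have h3 : 3 ≤ k := by omega
          have h4 : e * 3 ≤ e * k := Nat.mul_le_mul_left _ h3
          omega

theorem fac3 {g N A B D : ℕ} (hg : g ≠ 0) (hN : N ≠ 0) (hA : A ≠ 0) (hB : B ≠ 0) (hD : D ≠ 0) (h : g * N = A * B * D)
    (t : ℕ) : g.factorization t + N.factorization t = A.factorization t + B.factorization t + D.factorization t := by
  have h1 : (g * N).factorization t = (A * B * D).factorization t := by rw [h]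
  rw [Nat.factorization_mul hg hN, Nat.factorization_mul (mul_ne_zero hA hB) hD, Nat.factorization_mul hA hB,
    Finsupp.add_apply, Finsupp.add_apply, Finsupp.add_apply] at h1
  exact h1

/-! ### the order of the group, minus type -/

section minus

variable {p f n N : ℕ}

theorem fac_minus_char (hp : p.Prime) (hf : 1 ≤ f) (hn : 4 ≤ n) (hN : N ≠ 0)
    (h : Nat.gcd 4 ((p ^ f) ^ n + 1) * N = (p ^ f) ^ (n * (n - 1)) * ((p ^ f) ^ n + 1) *
      ∏ i ∈ Finset.range (n - 1), ((p ^ f) ^ (2 * (i + 1)) - 1)) : N.factorization p = f * (n * (n - 1)) := by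
  have hq2 : 2 ≤ p ^ f := by
    calc 2 ≤ p := hp.two_le
      _ = p ^ 1 := (pow_one p).symm
      _ ≤ p ^ f := Nat.pow_le_pow_right hp.pos hf
  have h1 := not_dvd_pow_add_one hp hf (m := n) (by omega)
  have h2 : ¬ p ∣ Nat.gcd 4 ((p ^ f) ^ n + 1) := fun h0 => h1 (h0.trans (Nat.gcd_dvd_right _ _))
  have h3 : ¬ p ∣ ∏ i ∈ Finset.range (n - 1), ((p ^ f) ^ (2 * (i + 1)) - 1) := by
    intro h0
    rw [(Nat.prime_iff.1 hp).dvd_finsetProd_iff] at h0
    obtain ⟨i, -, hi⟩ := h0
    exact not_dvd_pow_sub_one hp hf (by omega) hi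
  have h4 : Nat.gcd 4 ((p ^ f) ^ n + 1) ≠ 0 := Nat.gcd_ne_zero_left (by norm_num)
  have h5 := fac3 h4 hN (pow_ne_zero (n * (n - 1)) (show p ^ f ≠ 0 by omega)) (show (p ^ f) ^ n + 1 ≠ 0 from Nat.succ_ne_zero _)
    (prod_ne_zero hq2) h p
  rw [Nat.factorization_eq_zero_of_not_dvd h2, Nat.factorization_eq_zero_of_not_dvd h1,
    Nat.factorization_eq_zero_of_not_dvd h3, ← pow_mul, hp.factorization_pow, Finsupp.single_eq_same] at h5
  omega

theorem fac_minus_odd {t : ℕ} (ht : t.Prime) (ht2 : t ≠ 2) (hp : p.Prime) (htp : t ≠ p) (hf : 1 ≤ f) (hn : 4 ≤ n)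
    (hN : N ≠ 0) (h : Nat.gcd 4 ((p ^ f) ^ n + 1) * N = (p ^ f) ^ (n * (n - 1)) * ((p ^ f) ^ n + 1) *
      ∏ i ∈ Finset.range (n - 1), ((p ^ f) ^ (2 * (i + 1)) - 1)) :
    N.factorization t = ((p ^ f) ^ n + 1).factorization t + ((p ^ f) ^ (n - 1) + 1).factorization t +
      ((p ^ f) ^ (n - 1) - 1).factorization t +
        (∏ i ∈ Finset.range (n - 2), ((p ^ f) ^ (2 * (i + 1)) - 1)).factorization t := by
  have hq2 : 2 ≤ p ^ f := by
    calc 2 ≤ p := hp.two_le
      _ = p ^ 1 := (pow_one p).symm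
      _ ≤ p ^ f := Nat.pow_le_pow_right hp.pos hf
  have hpos : ∀ m, 1 ≤ m → 1 < (p ^ f) ^ m := fun m hm => Nat.one_lt_pow (by omega) (by omega)
  have h2 : ¬ t ∣ Nat.gcd 4 ((p ^ f) ^ n + 1) := fun h0 => by
    have h1 : t ∣ 2 ^ 2 := h0.trans (Nat.gcd_dvd_left _ _)
    exact ht2 ((Nat.prime_dvd_prime_iff_eq ht Nat.prime_two).1 (ht.dvd_of_dvd_pow h1))
  have h1 : ¬ t ∣ (p ^ f) ^ (n * (n - 1)) := fun h0 =>
    htp ((Nat.prime_dvd_prime_iff_eq ht hp).1 (ht.dvd_of_dvd_pow (ht.dvd_of_dvd_pow h0)))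
  have h4 : Nat.gcd 4 ((p ^ f) ^ n + 1) ≠ 0 := Nat.gcd_ne_zero_left (by norm_num)
  have h6 : ∏ i ∈ Finset.range (n - 1), ((p ^ f) ^ (2 * (i + 1)) - 1) =
      (∏ i ∈ Finset.range (n - 2), ((p ^ f) ^ (2 * (i + 1)) - 1)) *
        (((p ^ f) ^ (n - 1) + 1) * ((p ^ f) ^ (n - 1) - 1)) := by
    have h7 : n - 1 = (n - 2) + 1 := by omega
    conv_lhs => rw [h7, Finset.prod_range_succ]
    congr 1
    rw [← h7, mul_comm 2 (n - 1), pow_mul]
    exact Nat.sq_sub_sq ((p ^ f) ^ (n - 1)) 1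
  have h8 : (p ^ f) ^ (n - 1) - 1 ≠ 0 := by have := hpos (n - 1) (by omega); omega
  have h5 := fac3 h4 hN (pow_ne_zero (n * (n - 1)) (show p ^ f ≠ 0 by omega)) (show (p ^ f) ^ n + 1 ≠ 0 from Nat.succ_ne_zero _)
    (prod_ne_zero hq2) h t
  rw [Nat.factorization_eq_zero_of_not_dvd h2, Nat.factorization_eq_zero_of_not_dvd h1, h6,
    Nat.factorization_mul (prod_ne_zero hq2) (mul_ne_zero (Nat.succ_ne_zero _) h8),
    Nat.factorization_mul (show (p ^ f) ^ (n - 1) + 1 ≠ 0 from Nat.succ_ne_zero _) h8, Finsupp.add_apply,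
    Finsupp.add_apply] at h5
  omega

/-- primitive primes -/
theorem fac_prim {t e : ℕ} (ht : t.Prime) (ht2 : t ≠ 2) (hp : p.Prime) (hf : 1 ≤ f) (he : 1 ≤ e)
    (hd : t ∣ (p ^ f) ^ e + 1) : f.factorization t + 1 ≤ ((p ^ f) ^ e + 1).factorization t := by
  have hq2 : 2 ≤ p ^ f := by
    calc 2 ≤ p := hp.two_le
      _ = p ^ 1 := (pow_one p).symm
      _ ≤ p ^ f := Nat.pow_le_pow_right hp.pos hf
  have hpos : ∀ m, 1 ≤ m → 1 < (p ^ f) ^ m := fun m hm => Nat.one_lt_pow (by omega) (by omega)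
  have h1 : (p ^ f) ^ (2 * e) - 1 = ((p ^ f) ^ e + 1) * ((p ^ f) ^ e - 1) := by
    rw [mul_comm 2 e, pow_mul]
    exact Nat.sq_sub_sq ((p ^ f) ^ e) 1
  have h2 : t ∣ (p ^ f) ^ (2 * e) - 1 := by rw [h1]; exact Dvd.dvd.mul_right hd _
  have h3 := lte ht hf hp.one_le h2 (hpos _ (by omega))
  have h8 : (p ^ f) ^ e - 1 ≠ 0 := by have := hpos e he; omega
  have h4 : ¬ t ∣ (p ^ f) ^ e - 1 := by
    intro h5
    have h6 := Nat.dvd_sub hd h5
    have h7 : (p ^ f) ^ e + 1 - ((p ^ f) ^ e - 1) = 2 := by omega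
    rw [h7] at h6
    exact ht2 ((Nat.prime_dvd_prime_iff_eq ht Nat.prime_two).1 h6)
  rw [h1, Nat.factorization_mul (show (p ^ f) ^ e + 1 ≠ 0 from Nat.succ_ne_zero _) h8, Finsupp.add_apply,
    Nat.factorization_eq_zero_of_not_dvd h4] at h3
  omega

theorem fac_out_char {c : ℕ} (hp : p.Prime) (hf : 1 ≤ f) (hc : c = 2 ∨ (p ≠ 2 ∧ (c = 4 ∨ c = 8))) :
    (c * f).factorization p ≤ f := by
  have h1 := Nat.factorization_lt (n := f) p (by omega)
  rcases hc with rfl | ⟨hp2, hc⟩
  · rw [Nat.factorization_mul (by norm_num) (by omega), Finsupp.add_apply]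
    have := fac_two_le hp
    omega
  · have h2 : c.factorization p = 0 := by
      apply Nat.factorization_eq_zero_of_not_dvd
      intro h
      apply hp2
      have h3 : p ∣ 2 ^ 3 := by
        rcases hc with rfl | rfl
        · exact h.trans (by norm_num)
        · exact h
      exact (Nat.prime_dvd_prime_iff_eq hp Nat.prime_two).1 (hp.dvd_of_dvd_pow h3)
    have hc0 : c ≠ 0 := by rcases hc with rfl | rfl <;> norm_num
    rw [Nat.factorization_mul hc0 (by omega), Finsupp.add_apply, h2]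
    omega

theorem fac_out_odd {c t : ℕ} (ht : t.Prime) (ht2 : t ≠ 2) (hf : 1 ≤ f) (hc : c = 2 ∨ (p ≠ 2 ∧ (c = 4 ∨ c = 8))) :
    (c * f).factorization t = f.factorization t := by
  have h2 : c.factorization t = 0 := by
    apply Nat.factorization_eq_zero_of_not_dvd
    intro h
    apply ht2
    have h3 : t ∣ 2 ^ 3 := by
      rcases hc with rfl | ⟨-, rfl | rfl⟩
      · exact h.trans (by norm_num)
      · exact h.trans (by norm_num)
      · exact h
    exact (Nat.prime_dvd_prime_iff_eq ht Nat.prime_two).1 (ht.dvd_of_dvd_pow h3)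
  have hc0 : c ≠ 0 := by rcases hc with rfl | ⟨-, rfl | rfl⟩ <;> norm_num
  rw [Nat.factorization_mul hc0 (by omega), Finsupp.add_apply, h2, zero_add]

end minus

end Cfsg.Agent.H311.PD
end

-- part: H311/PD/Norm
section
/-!
# S4246, orthogonal rows: `p`-subgroups normalised by an element of prime order (helper311)
-/

set_option autoImplicit false
set_option linter.unusedSectionVars false

namespace Cfsg.Agent.H311.PD

open QuadraticMap Module Subgroup Cfsg.Agent.LieClassical.OrthCore Cfsg.Agent.LieClassical.OrthTrans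
open Cfsg.Agent.ClassicalGeometry.OrthSemi Cfsg.Agent.ClassicalGeometry.OrthAut1
open Cfsg.Agent.H200.LinFix Cfsg.Agent.H200.RowOrth
open Cfsg.Agent.H160.PD (v v_mono v_eq_zero v_pos)

variable {F V : Type*} [Field F] [AddCommGroup V] [Module F V] {Q : QuadraticForm F V} [Finite V]
variable {p : ℕ} [hp : Fact p.Prime]

/-- an isometry fixing `u^⊥` pointwise -/
theorem eq_one_of_fix_prp (hQ : Nondeg Q) {k : V ≃ₗ[F] V} (hk : k ∈ O Q) {u : V} (hu : Q u = 0) (h0 : u ≠ 0)
    (h : ∀ w, polar Q u w = 0 → k w = w) : k = 1 := by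
  ext z
  change k z = z
  by_cases hz : polar Q u z = 0
  · exact h z hz
  · obtain ⟨y, hy⟩ := hQ.exists_polar_eq h0 1
    -- `k z - z` is a multiple of `u`
    have h1 : ∀ w, polar Q u w = 0 → polar Q (k z - z) w = 0 := by
      intro w hw
      have h2 := polar_map hk z w
      rw [h w hw] at h2
      rw [polar_sub_left, h2, sub_self]
    have h2 : k z - z = polar Q (k z - z) y • u := by
      have h3 : (k z - z) - polar Q (k z - z) y • u = 0 := by
        apply hQ
        intro w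
        have h4 := h1 (w - polar Q u w • y) (by
          rw [polar_sub_right, polar_smul_right, hy, smul_eq_mul, mul_one, sub_self])
        rw [polar_sub_right, polar_smul_right, smul_eq_mul] at h4
        rw [polar_sub_left, polar_smul_left, smul_eq_mul]
        linear_combination h4
      exact sub_eq_zero.1 h3
    set c := polar Q (k z - z) y with hc
    have h3 : k z = z + c • u := by rw [← h2]; abel
    have h4 : Q (k z) = Q z := hk z
    rw [h3, Q_add, QuadraticMap.map_smul, hu, polar_smul_right, polar_comm] at h4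
    have h5 : c * polar Q u z = 0 := by
      simp only [smul_eq_mul, mul_zero, add_zero] at h4
      linear_combination h4
    rcases mul_eq_zero.1 h5 with h6 | h6
    · rw [h3, h6, zero_smul, add_zero]
    · exact absurd h6 hz

/-- a `p`-group acting on `u^⊥ / u` -/
theorem exists_fixed_mod (hG : Good Q) {f : ℕ} (hf : 1 ≤ f) (hF : Nat.card F = p ^ f) {T : Subgroup ↥(E Q)}
    (hT : IsPGroup p T) {u : V} (hu : Q u = 0) (h0 : u ≠ 0) (hfix : ∀ g ∈ T, (g : V ≃ₗ[F] V) u = u) :
    ∃ w, polar Q u w = 0 ∧ w ∉ Submodule.span F {u} ∧ ∀ g ∈ T, (g : V ≃ₗ[F] V) w - w ∈ Submodule.span F {u} := by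
  classical
  have hfinE : Finite ↥(E Q) := finite_E
  have hfinF : Finite F := finite_F hG
  have hfd : FiniteDimensional F V := inferInstance
  let A : Submodule F V := prp Q u
  let N : Submodule F ↥A := (Submodule.span F {u}).comap A.subtype
  have hA : ∀ g ∈ T, ∀ w ∈ A, (g : V ≃ₗ[F] V) w ∈ A := by
    intro g hg w hw
    rw [mem_prp] at hw ⊢
    have h1 := polar_map (E_le_O g.2) u w
    rw [hfix g hg, hw] at h1
    exact h1
  have hN : ∀ g ∈ T, ∀ w ∈ Submodule.span F {u}, (g : V ≃ₗ[F] V) w ∈ Submodule.span F {u} := by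
    intro g hg w hw
    rw [Submodule.mem_span_singleton] at hw ⊢
    obtain ⟨c, rfl⟩ := hw
    exact ⟨c, by rw [map_smul, hfix g hg]⟩
  let act : MulAction ↥T (↥A ⧸ N) :=
    { smul := fun g => Quotient.map' (fun w => (⟨((g : ↥(E Q)) : V ≃ₗ[F] V) w, hA g g.2 w w.2⟩ : ↥A)) (by
        intro a b hab
        rw [Submodule.quotientRel_def] at hab ⊢
        change (((g : ↥(E Q)) : V ≃ₗ[F] V) (a : V) - ((g : ↥(E Q)) : V ≃ₗ[F] V) (b : V)) ∈ Submodule.span F {u}
        have h1 : ((a : V) - (b : V)) ∈ Submodule.span F {u} := hab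
        have h2 := hN g g.2 _ h1
        rwa [map_sub] at h2)
      one_smul := by
        intro x
        induction x using Quotient.inductionOn' with | _ w => ?_
        rfl
      mul_smul := by
        intro g h x
        induction x using Quotient.inductionOn' with | _ w => ?_
        rfl }
  have hsm : ∀ (g : ↥T) (w : ↥A), (g • (Submodule.Quotient.mk w : ↥A ⧸ N)) =
      Submodule.Quotient.mk (⟨((g : ↥(E Q)) : V ≃ₗ[F] V) w, hA g g.2 w w.2⟩ : ↥A) := fun _ _ => rfl
  have hfinA : Finite (↥A ⧸ N) := Quotient.finite _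
  have h1 := hT.card_modEq_card_fixedPoints (↥A ⧸ N)
  have h2 : p ∣ Nat.card (↥A ⧸ N) := by
    have h3 := finrank_prp hG.nondeg h0
    have h4 : finrank F N ≤ 1 := by
      have h5 : finrank F N = finrank F (N.map A.subtype) :=
        (LinearEquiv.finrank_eq (Submodule.equivMapOfInjective A.subtype A.subtype_injective N))
      rw [h5]
      refine (Submodule.finrank_mono (Submodule.map_comap_le _ _)).trans ?_
      rw [finrank_span_singleton h0]
    have h5 := Submodule.finrank_quotient_add_finrank N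
    have h6 := hG.dim
    have h7 : finrank F (↥A ⧸ N) ≠ 0 := by
      have h8 : finrank F ↥A + 1 = finrank F V := h3
      omega
    rw [Module.natCard_eq_pow_finrank (K := F), hF]
    exact dvd_pow (dvd_pow_self _ (by omega)) h7
  have h3 : p ∣ Nat.card (MulAction.fixedPoints ↥T (↥A ⧸ N)) :=
    Nat.modEq_zero_iff_dvd.1 (h1.symm.trans (Nat.modEq_zero_iff_dvd.2 h2))
  have h4 : (0 : ↥A ⧸ N) ∈ MulAction.fixedPoints ↥T (↥A ⧸ N) := by
    intro g
    change g • (Submodule.Quotient.mk (0 : ↥A) : ↥A ⧸ N) = Submodule.Quotient.mk 0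
    rw [hsm]
    congr 1
    apply Subtype.ext
    exact map_zero _
  have h5 : Nontrivial (MulAction.fixedPoints ↥T (↥A ⧸ N)) := by
    rw [← Finite.one_lt_card_iff_nontrivial]
    have h6 : 0 < Nat.card (MulAction.fixedPoints ↥T (↥A ⧸ N)) := by
      have : Nonempty (MulAction.fixedPoints ↥T (↥A ⧸ N)) := ⟨⟨_, h4⟩⟩
      exact Nat.card_pos
    exact lt_of_lt_of_le hp.out.one_lt (Nat.le_of_dvd h6 h3)
  obtain ⟨⟨x, hx⟩, hne⟩ := _root_.exists_ne (⟨_, h4⟩ : MulAction.fixedPoints ↥T (↥A ⧸ N))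
  obtain ⟨w, rfl⟩ := Submodule.Quotient.mk_surjective N x
  refine ⟨w, mem_prp.1 w.2, fun h => hne ?_, fun g hg => ?_⟩
  · apply Subtype.ext
    exact (Submodule.Quotient.mk_eq_zero N).2 h
  · have h6 := hx ⟨g, hg⟩
    rw [hsm, Submodule.Quotient.eq] at h6
    exact h6

/-- **`p`-subgroups normalised by `y`, `K y` a hyperbolic plane.** -/
theorem v_norm_plane (hG : Good Q) {f : ℕ} (hf : 1 ≤ f) (hF : Nat.card F = p ^ f) {l : ℕ} [hl : Fact l.Prime]
    (hl2 : l ≠ 2) (hlF : (l : F) ≠ 0) {y : ↥(E Q)} (hy : y ^ l = 1) (hy1 : y ≠ 1)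
    (hirr : Irr (en Q y) (R (en Q y))) {m : ℕ} (hm : finrank F (R (en Q y)) = 2 * m)
    (hK : finrank F (K (en Q y)) = 2) {e : V} (he : e ∈ K (en Q y)) (he0 : e ≠ 0) (hQe : Q e = 0)
    {T : Subgroup ↥(E Q)} (hT : IsPGroup p T) (hyT : ∀ g, g ∈ T ↔ y * g * y⁻¹ ∈ T) :
    v p T ≤ f * (finrank F V - 2) := by
  classical
  have hfinE : Finite ↥(E Q) := finite_E
  have hfinF : Finite F := finite_F hG
  have hfd : FiniteDimensional F V := inferInstance
  have hy' : en Q y ^ l = 1 := by rw [← map_pow, hy, map_one]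
  have hadd := finrank_add (en Q y)
  have hpF : (p : F) = 0 := by
    have hft : Fintype F := Fintype.ofFinite F
    have h2 : (Fintype.card F : F) = 0 := FiniteField.cast_card_eq_zero F
    rw [← Nat.card_eq_fintype_card, hF, Nat.cast_pow] at h2
    exact pow_eq_zero_iff (by omega) |>.1 h2
  have hyinv : ∀ g ∈ T, y⁻¹ * g * y ∈ T := by
    intro g hg
    rw [hyT]
    have h2 : y * (y⁻¹ * g * y) * y⁻¹ = g := by group
    rwa [h2]
  -- the fixed space
  let U₀ : Submodule F V :=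
    { carrier := {v | ∀ g ∈ T, en Q g v = v}
      add_mem' := fun {a b} ha hb g hg => by rw [map_add, ha g hg, hb g hg]
      zero_mem' := fun g _ => map_zero _
      smul_mem' := fun c v hv g hg => by rw [map_smul, hv g hg] }
  have hy0 : ∀ u ∈ U₀, en Q y u ∈ U₀ := by
    intro u hu g hg
    have h3 := hu _ (hyinv g hg)
    have h4 : g * y = y * (y⁻¹ * g * y) := by group
    rw [← Module.End.mul_apply, ← map_mul, h4, map_mul, Module.End.mul_apply, h3]
  have hnd : ∀ v ∈ K (en Q y), (∀ u ∈ K (en Q y), polarBilin Q u v = 0) → v = 0 := fun w hw h =>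
    nondeg_K (isom_en y) (polar_nondeg hG) hy' hlF hw h
  have hKR : ∀ k ∈ K (en Q y), ∀ r ∈ R (en Q y), polar Q k r = 0 := fun k hk r hr => perp_KR (isom_en y) hk hr
  rcases hirr (R (en Q y) ⊓ U₀) inf_le_left (fun u hu => ⟨R_inv rfl hu.1, hy0 u hu.2⟩) with h | h
  · -- `U₀ ≤ K y`
    obtain ⟨u, h0, hu, hfix⟩ := exists_sing_fixed hG hf hF hT
    have huU : u ∈ U₀ := fun g hg => hfix g hg
    have huK : u ∈ K (en Q y) := by
      obtain ⟨k, hk, r, hr, hkr⟩ := decomp_mem hy' hlF hy0 huU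
      rw [h, Submodule.mem_bot] at hr
      rw [hkr, hr, add_zero]
      exact hk.1
    obtain ⟨u', hu'K, huu', hQu', hu'0, hdec⟩ := exists_pair hK hnd huK h0 hu
    have hyu : (y : V ≃ₗ[F] V) u = u := mem_K.1 huK
    -- the second fixed space
    let U₂ : Submodule F V :=
      { carrier := {w | polar Q u w = 0 ∧ ∀ g ∈ T, en Q g w - w ∈ Submodule.span F {u}}
        add_mem' := fun {a b} ha hb => ⟨by rw [polar_add_right, ha.1, hb.1, add_zero], fun g hg => by
          rw [map_add, add_sub_add_comm]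
          exact Submodule.add_mem _ (ha.2 g hg) (hb.2 g hg)⟩
        zero_mem' := ⟨polar_zero_right _ _, fun g _ => by rw [map_zero, sub_zero]; exact Submodule.zero_mem _⟩
        smul_mem' := fun c w hw => ⟨by rw [polar_smul_right, hw.1, smul_zero], fun g hg => by
          rw [map_smul, ← smul_sub]
          exact Submodule.smul_mem _ _ (hw.2 g hg)⟩ }
    have hy2 : ∀ w ∈ U₂, en Q y w ∈ U₂ := by
      rintro w ⟨hw, hw2⟩
      refine ⟨?_, fun g hg => ?_⟩
      · have h1 := polar_map (E_le_O y.2) u w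
        rw [hyu, hw] at h1
        exact h1
      · have h3 := hw2 _ (hyinv g hg)
        have h4 : g * y = y * (y⁻¹ * g * y) := by group
        rw [← Module.End.mul_apply, ← map_mul, h4, map_mul, Module.End.mul_apply, ← map_sub]
        rw [Submodule.mem_span_singleton] at h3 ⊢
        obtain ⟨c, hc⟩ := h3
        refine ⟨c, ?_⟩
        rw [← hc, map_smul]
        congr 1
        exact hyu.symm
    obtain ⟨w, hw, hwu, hwT⟩ := exists_fixed_mod hG hf hF hT hu h0 hfix
    have hRU : R (en Q y) ≤ U₂ := by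
      obtain ⟨k, hk, r, hr, hkr⟩ := decomp_mem hy' hlF hy2 (show w ∈ U₂ from ⟨hw, fun g hg => hwT g hg⟩)
      rcases hirr (R (en Q y) ⊓ U₂) inf_le_left (fun x hx => ⟨R_inv rfl hx.1, hy2 x hx.2⟩) with h1 | h1
      · exfalso
        rw [h1, Submodule.mem_bot] at hr
        apply hwu
        rw [hkr, hr, add_zero, hdec k hk.1, hk.2.1, zero_smul, add_zero]
        exact Submodule.smul_mem _ _ (Submodule.mem_span_singleton_self u)
      · rw [← h1]; exact inf_le_right
    -- the linear forms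
    let Φ : ↥T → (↥(R (en Q y)) →ₗ[F] F) := fun g =>
      ((polarBilin Q u').comp (en Q g.1)).comp (R (en Q y)).subtype
    have hΦ : ∀ (g : ↥T) (r : ↥(R (en Q y))), Φ g r = polar Q u' ((g.1 : V ≃ₗ[F] V) r) := fun _ _ => rfl
    have hgr : ∀ (g : ↥T) (r : ↥(R (en Q y))), (g.1 : V ≃ₗ[F] V) r = r + Φ g r • u := by
      intro g r
      have h1 : (g.1 : V ≃ₗ[F] V) (r : V) - r ∈ Submodule.span F {u} := (hRU r.2).2 g.1 g.2
      rw [Submodule.mem_span_singleton] at h1
      obtain ⟨c, hc⟩ := h1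
      have h2 : (g.1 : V ≃ₗ[F] V) (r : V) = r + c • u := by rw [hc]; abel
      have h3 : Φ g r = c := by
        rw [hΦ, h2, polar_add_right, hKR u' hu'K r r.2, polar_smul_right, polar_comm, huu']
        simp
      rw [h3]
      exact h2
    have hinj : Function.Injective Φ := by
      intro g h hgh
      have h1 : ((h⁻¹ * g : ↥T).1 : V ≃ₗ[F] V) = 1 := by
        refine eq_one_of_fix_prp hG.nondeg (E_le_O (h⁻¹ * g : ↥T).1.2) hu h0 (fun w hw => ?_)
        change ((h.1 : ↥(E Q)) : V ≃ₗ[F] V).symm ((g.1 : V ≃ₗ[F] V) w) = w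
        rw [LinearEquiv.symm_apply_eq]
        obtain ⟨k, hk, r, hr, rfl⟩ := decomp hy' hlF w
        rw [polar_add_right] at hw
        rw [hKR u huK r hr, add_zero] at hw
        have h2 := hdec k hk
        rw [hw, zero_smul, add_zero] at h2
        rw [map_add, map_add, h2, map_smul, map_smul, hfix g.1 g.2, hfix h.1 h.2, hgr g ⟨r, hr⟩, hgr h ⟨r, hr⟩, hgh]
      have h2 : (h⁻¹ * g : ↥T) = 1 := Subtype.ext (Subtype.ext h1)
      exact (inv_mul_eq_one.1 h2).symm
    have h1 : Nat.card ↥T ≤ Nat.card (↥(R (en Q y)) →ₗ[F] F) := by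
      have : Finite (↥(R (en Q y)) →ₗ[F] F) := DFunLike.finite _
      exact Nat.card_le_card_of_injective Φ hinj
    have h2 : Nat.card (↥(R (en Q y)) →ₗ[F] F) = p ^ (f * (finrank F V - 2)) := by
      rw [Module.natCard_eq_pow_finrank (K := F), hF, ← pow_mul, Module.finrank_linearMap, Module.finrank_self, mul_one]
      congr 2
      omega
    rw [h2] at h1
    obtain ⟨k, hk⟩ := IsPGroup.iff_card.1 hT
    rw [hk] at h1
    simp only [v]
    rw [hk, hp.out.factorization_pow, Finsupp.single_eq_same]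
    exact (Nat.pow_le_pow_iff_right hp.out.one_lt).1 h1
  · -- `T` centralises `y`
    have hRT : ∀ g ∈ T, ∀ r ∈ R (en Q y), (g : V ≃ₗ[F] V) r = r := by
      intro g hg r hr
      rw [← h] at hr
      exact hr.2 g hg
    have hTC : T ≤ centralizer {y} := by
      intro g hg
      rw [mem_centralizer_singleton_iff]
      apply en_injective
      refine LinearMap.ext fun w => ?_
      obtain ⟨k, hk, r, hr, rfl⟩ := decomp hy' hlF w
      have h1 : en Q g k ∈ K (en Q y) := by
        obtain ⟨k', hk', r', hr', he'⟩ := decomp hy' hlF (en Q g k)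
        have h2 : r' = 0 := by
          refine nondeg_R (isom_en y) (polar_nondeg hG) hy' hlF hr' (fun x hx => ?_)
          have h3 := polar_map (E_le_O g.2) k x
          rw [hRT g hg x hx, hKR k hk x hx] at h3
          have h4 : polar Q (en Q g k) x = 0 := h3
          rw [he', polar_add_left, hKR k' hk' x hx, zero_add] at h4
          rw [polarBilin_apply_apply, polar_comm]
          exact h4
        rw [he', h2, add_zero]
        exact hk'
      rw [map_mul, map_mul, Module.End.mul_apply, Module.End.mul_apply, map_add, map_add, map_add, map_add,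
        mem_K.1 hk, mem_K.1 h1]
      congr 1
      have h2 : en Q y r ∈ R (en Q y) := R_inv rfl hr
      have h3 : en Q g r = r := hRT g hg r hr
      have h4 : en Q g (en Q y r) = en Q y r := hRT g hg _ h2
      rw [h3, h4]
    have h1 := (card_dvd_of_le hTC).trans (card_cent_plane hG hl2 hlF hy hy1 hirr hm hK he he0 hQe)
    have hq : 1 < Nat.card F := Finite.one_lt_card
    have hm1 : 1 ≤ m := by
      have := hG.dim
      omega
    have h2 : v p T ≤ ((Nat.card F ^ m + 1) * (2 * (Nat.card F - 1))).factorization p :=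
      (Nat.factorization_le_iff_dvd Nat.card_pos.ne' (mul_ne_zero (Nat.succ_ne_zero _) (by omega))).2 h1 p
    have h3 : ((Nat.card F ^ m + 1) * (2 * (Nat.card F - 1))).factorization p ≤ 1 := by
      rw [hF]
      exact fac_plane hp.out hf hm1
    have h4 := hG.dim
    have h5 : 1 * 1 ≤ f * (finrank F V - 2) := Nat.mul_le_mul hf (by omega)
    omega

end Cfsg.Agent.H311.PD
end

private theorem dce_01e99899be1c : _root_.True := by
  try have : _root_.True := by simp only [_root_.Cfsg.Agent.H160.PD.out.eq_1]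
  exact _root_.True.intro
end

-- part: H14/PD/Fix
section
prune_inst 0x1406044428002000000001600000034000001000000000008a005020008000000820001088004001000000000000000000000200040000004000400000000000080040000000008000008000000000000000000000000000000000000000000000000000
set_option linter.all false
open scoped Cfsg.Agent.FastGrp

-- part: H14/PD/Siegel
section
/-!
# S4246, rows of the orthogonal groups: the groups of Siegel transformations (helper14)

`AA hu = {siegel u w | w ∈ u^⊥}` for a singular vector `u`; a `p`-subgroup `X` (`p` the characteristic) of `E Q` fixing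
`u` is enlarged by `AA hu`: `enlarge`.
-/

set_option autoImplicit false
set_option linter.unusedSectionVars false

namespace Cfsg.Agent.H14.PD

open QuadraticMap Module Cfsg.Agent.LieClassical.OrthCore Cfsg.Agent.LieClassical.OrthTrans
open Cfsg.Agent.H200.LinFix Cfsg.Agent.H200.RowOrth
open Cfsg.Agent.H160.PD (v v_mono v_eq_zero v_pos)

/-! ### orders -/

section grp

variable {G H : Type*} [Group G] [Group H]

theorem card_map_mul_ker (f : G →* H) {K : Subgroup G} (h : f.ker ≤ K) :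
    Nat.card (K.map f) * Nat.card f.ker = Nat.card K := by
  rw [← Subgroup.relIndex_ker, ← Subgroup.relIndex_bot_left f.ker, ← Subgroup.relIndex_bot_left K, mul_comm]
  exact Subgroup.relIndex_mul_relIndex ⊥ f.ker K bot_le h

theorem card_inf_range_mul_ker (f : G →* H) (K : Subgroup H) :
    Nat.card ↥(K ⊓ f.range) * Nat.card f.ker = Nat.card (K.comap f) := by
  have h1 : (K.comap f).map f = K ⊓ f.range := by rw [Subgroup.map_comap_eq, inf_comm]
  rw [← h1]
  exact card_map_mul_ker f (fun x hx => by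
    rw [Subgroup.mem_comap, (MonoidHom.mem_ker).1 hx]
    exact one_mem _)

theorem card_mul_card_le [Finite G] {A B S : Subgroup G} (hA : A ≤ S) (hB : B ≤ S) :
    Nat.card A * Nat.card B ≤ Nat.card S * Nat.card ↥(A ⊓ B) := by
  rw [inf_comm]
  have h1 : Nat.card ↥(B ⊓ A) * B.relIndex A = Nat.card A := by
    rw [← Subgroup.inf_relIndex_right]
    have := Subgroup.card_mul_index ((B ⊓ A).subgroupOf A)
    rwa [show Nat.card ↥((B ⊓ A).subgroupOf A) = Nat.card ↥(B ⊓ A) from
      Nat.card_congr (Subgroup.subgroupOfEquivOfLe inf_le_right).toEquiv] at this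
  have h2 : Nat.card B * B.relIndex S = Nat.card S := by
    have := Subgroup.card_mul_index (B.subgroupOf S)
    rwa [show Nat.card ↥(B.subgroupOf S) = Nat.card B from
      Nat.card_congr (Subgroup.subgroupOfEquivOfLe hB).toEquiv] at this
  have h3 : B.relIndex A ≤ B.relIndex S :=
    Subgroup.relIndex_le_of_le_right hA (B.subgroupOf S).index_ne_zero_of_finite
  calc Nat.card A * Nat.card B = Nat.card ↥(B ⊓ A) * B.relIndex A * Nat.card B := by rw [h1]
    _ ≤ Nat.card ↥(B ⊓ A) * B.relIndex S * Nat.card B := by gcongr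
    _ = Nat.card S * Nat.card ↥(B ⊓ A) := by rw [← h2]; ring

/-- the order of a `p`-subgroup -/
theorem card_pgroup [Finite G] {p : ℕ} [hp : Fact p.Prime] {X : Subgroup G} (hX : IsPGroup p X) :
    Nat.card X = p ^ v p X := by
  obtain ⟨k, hk⟩ := IsPGroup.iff_card.1 hX
  rw [v, hk, hp.out.factorization_pow, Finsupp.single_eq_same]

theorem v_le_group [Finite G] (X : Subgroup G) (p : ℕ) : v p X ≤ v p G :=
  (Nat.factorization_le_iff_dvd Nat.card_pos.ne' Nat.card_pos.ne').2 (Subgroup.card_subgroup_dvd_card X) p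

end grp

variable {F V : Type*} [Field F] [AddCommGroup V] [Module F V] {Q : QuadraticForm F V}

/-! ### the Siegel group -/

/-- `u^⊥` -/
def pp (Q : QuadraticForm F V) (u : V) : Submodule F V := LinearMap.ker (polarBilin Q u)

theorem mem_pp {u w : V} : w ∈ pp Q u ↔ polar Q u w = 0 := Iff.rfl

theorem self_mem_pp {u : V} (hu : Q u = 0) : u ∈ pp Q u := polar_self_of_sing hu

theorem finrank_pp [FiniteDimensional F V] (hG : Good Q) {u : V} (hu : u ≠ 0) :
    finrank F (pp Q u) + 1 = finrank F V := by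
  have h1 := LinearMap.finrank_range_add_finrank_ker (polarBilin Q u)
  have h2 : LinearMap.range (polarBilin Q u) = ⊤ := by
    rw [LinearMap.range_eq_top]
    intro c
    obtain ⟨y, hy⟩ := hG.nondeg.exists_polar_eq hu c
    exact ⟨y, hy⟩
  rw [h2, finrank_top, finrank_self, add_comm] at h1
  exact h1

/-- the homomorphism `w ↦ siegel u w` -/
noncomputable def sg {u : V} (hu : Q u = 0) : Multiplicative ↥(pp Q u) →* ↥(E Q) where
  toFun w := ⟨siegel Q u (w.toAdd : V) hu w.toAdd.2, siegel_mem_E hu w.toAdd.2⟩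
  map_one' := by
    apply Subtype.ext
    ext x
    have h0 : polar Q u (0 : V) = 0 := polar_zero_right Q u
    change siegel Q u (0 : V) hu h0 x = x
    rw [siegel_apply, QuadraticMap.map_zero, polar_zero_left, smul_zero, zero_smul, zero_mul, zero_smul]
    simp
  map_mul' w w' := by
    apply Subtype.ext
    exact (siegel_mul (w := (w.toAdd : V)) (w' := (w'.toAdd : V)) hu w.toAdd.2 w'.toAdd.2
      ((pp Q u).add_mem w.toAdd.2 w'.toAdd.2)).symm

theorem sg_coe {u w : V} (hu : Q u = 0) (hw : w ∈ pp Q u) :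
    ((sg hu (Multiplicative.ofAdd ⟨w, hw⟩) : ↥(E Q)) : V ≃ₗ[F] V) = siegel Q u w hu hw := rfl

theorem sg_apply {u w : V} (hu : Q u = 0) (hw : w ∈ pp Q u) (x : V) :
    ((sg hu (Multiplicative.ofAdd ⟨w, hw⟩) : ↥(E Q)) : V ≃ₗ[F] V) x =
      x + polar Q u x • w - polar Q w x • u - (Q w * polar Q u x) • u := siegel_apply hu hw x

theorem sg_eq_one_iff (hG : Good Q) {u w : V} (hu : Q u = 0) (hu0 : u ≠ 0) (hw : w ∈ pp Q u) :
    sg hu (Multiplicative.ofAdd ⟨w, hw⟩) = 1 ↔ ∃ c : F, w = c • u := by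
  constructor
  · intro h
    obtain ⟨y, hy⟩ := hG.nondeg.exists_polar_eq hu0 1
    have h1 := sg_apply hu hw y
    rw [h, hy, one_smul, mul_one] at h1
    change y = _ at h1
    refine ⟨polar Q w y + Q w, ?_⟩
    have h2 : y = y + (w - (polar Q w y + Q w) • u) := by
      nth_rewrite 1 [h1]
      rw [add_smul]
      abel
    have h3 : w - (polar Q w y + Q w) • u = 0 := by
      exact left_eq_add.1 h2
    exact sub_eq_zero.1 h3
  · rintro ⟨c, rfl⟩
    apply Subtype.ext
    ext x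
    rw [sg_apply, QuadraticMap.map_smul, hu, smul_zero, zero_mul, zero_smul, sub_zero, polar_smul_left, smul_smul,
      smul_eq_mul, mul_comm (polar Q u x) c, add_sub_cancel_right]
    rfl

theorem card_ker_sg (hG : Good Q) {u : V} (hu : Q u = 0) (hu0 : u ≠ 0) : Nat.card (sg hu).ker = Nat.card F := by
  refine (Nat.card_congr (Equiv.ofBijective (fun c : F => (⟨Multiplicative.ofAdd ⟨c • u, ?_⟩, ?_⟩ : (sg hu).ker))
    ⟨?_, ?_⟩)).symm
  · exact (pp Q u).smul_mem c (self_mem_pp hu)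
  · rw [MonoidHom.mem_ker]
    exact (sg_eq_one_iff hG hu hu0 _).2 ⟨c, rfl⟩
  · intro c d h
    have h1 : c • u = d • u := congrArg (fun z : (sg hu).ker => ((z : Multiplicative ↥(pp Q u)).toAdd : V)) h
    have h2 : (c - d) • u = 0 := by rw [sub_smul, h1, sub_self]
    exact sub_eq_zero.1 ((smul_eq_zero.1 h2).resolve_right hu0)
  · rintro ⟨w, hw⟩
    rw [MonoidHom.mem_ker] at hw
    obtain ⟨c, hc⟩ := (sg_eq_one_iff hG hu hu0 w.toAdd.2).1 hw
    exact ⟨c, Subtype.ext (congrArg Multiplicative.ofAdd (Subtype.ext hc.symm))⟩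

/-- the group of the Siegel transformations at `u` -/
noncomputable def AA {u : V} (hu : Q u = 0) : Subgroup ↥(E Q) := (sg hu).range

section fin

variable [Finite V]

theorem card_AA (hG : Good Q) {u : V} (hu : Q u = 0) (hu0 : u ≠ 0) :
    Nat.card (AA hu) * Nat.card F ^ 2 = Nat.card F ^ finrank F V := by
  have hfd : FiniteDimensional F V := inferInstance
  have h1 := card_map_mul_ker (sg hu) (K := ⊤) le_top
  rw [← MonoidHom.range_eq_map, card_ker_sg hG hu hu0, Subgroup.card_top] at h1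
  have h2 : Nat.card (Multiplicative ↥(pp Q u)) = Nat.card F ^ finrank F (pp Q u) := by
    rw [← Module.natCard_eq_pow_finrank (K := F)]
    exact Nat.card_congr Multiplicative.toAdd
  rw [h2] at h1
  rw [pow_two, ← mul_assoc]
  change Nat.card (sg hu).range * Nat.card F * Nat.card F = _
  rw [h1, ← pow_succ, finrank_pp hG hu0]

/-- the intersection with the Siegel group -/
theorem card_inf_AA (hG : Good Q) {u : V} (hu : Q u = 0) (hu0 : u ≠ 0) {X : Subgroup ↥(E Q)} {C : Submodule F V}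
    (hC : ∀ (w : V) (hw : w ∈ pp Q u), sg hu (Multiplicative.ofAdd ⟨w, hw⟩) ∈ X → w ∈ C) :
    Nat.card ↥(X ⊓ AA hu) * Nat.card F ≤ Nat.card F ^ finrank F C := by
  have h1 := card_inf_range_mul_ker (sg hu) X
  rw [card_ker_sg hG hu hu0] at h1
  change Nat.card ↥(X ⊓ AA hu) * Nat.card F = _ at h1
  rw [h1, ← Module.natCard_eq_pow_finrank (K := F)]
  refine Nat.card_le_card_of_injective
    (fun z : X.comap (sg hu) => (⟨((z : Multiplicative ↥(pp Q u)).toAdd : V), ?_⟩ : C)) ?_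
  · exact hC _ _ z.2
  · intro z z' h
    exact Subtype.ext (congrArg Multiplicative.ofAdd (Subtype.ext (congrArg (fun t : C => (t : V)) h)))

theorem isPGroup_AA {p : ℕ} [Fact p.Prime] (hpF : (p : F) = 0) {u : V} (hu : Q u = 0) : IsPGroup p (AA hu) := by
  rintro ⟨_, w, rfl⟩
  refine ⟨1, Subtype.ext ?_⟩
  change (sg hu w) ^ p ^ 1 = 1
  rw [pow_one, ← map_pow]
  have h1 : w ^ p = 1 := by
    apply Multiplicative.toAdd.injective
    change p • w.toAdd = 0
    rw [← Nat.cast_smul_eq_nsmul F, hpF, zero_smul]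
  rw [h1, map_one]

theorem conj_sg {u w : V} (hu : Q u = 0) (hw : w ∈ pp Q u) {g : ↥(E Q)} (hg : (g : V ≃ₗ[F] V) u = u)
    (hgw : (g : V ≃ₗ[F] V) w ∈ pp Q u) :
    g * sg hu (Multiplicative.ofAdd ⟨w, hw⟩) * g⁻¹ = sg hu (Multiplicative.ofAdd ⟨(g : V ≃ₗ[F] V) w, hgw⟩) := by
  apply Subtype.ext
  have h1 := siegel_conj (E_le_O g.2) hu hw (by rw [hg]; exact hu) (by rw [hg]; exact hgw)
  change (g : V ≃ₗ[F] V) * siegel Q u w hu hw * (g : V ≃ₗ[F] V)⁻¹ = siegel Q u ((g : V ≃ₗ[F] V) w) hu hgw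
  rw [h1]
  congr 1

theorem map_pp {u w : V} {g : ↥(E Q)} (hg : (g : V ≃ₗ[F] V) u = u) (hw : w ∈ pp Q u) : (g : V ≃ₗ[F] V) w ∈ pp Q u := by
  rw [mem_pp] at hw ⊢
  rw [← hg, polar_map (E_le_O g.2), hw]

theorem le_normalizer_AA {u : V} (hu : Q u = 0) {X : Subgroup ↥(E Q)} (hX : ∀ g ∈ X, (g : V ≃ₗ[F] V) u = u) :
    X ≤ Subgroup.normalizer ((AA hu : Subgroup ↥(E Q)) : Set ↥(E Q)) := by
  have key : ∀ g ∈ X, ∀ a ∈ AA hu, g * a * g⁻¹ ∈ AA hu := by
    rintro g hg _ ⟨w, rfl⟩
    exact ⟨_, (conj_sg hu w.toAdd.2 (hX g hg) (map_pp (hX g hg) w.toAdd.2)).symm⟩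
  intro g hg
  rw [Subgroup.mem_normalizer_iff]
  intro a
  refine ⟨fun ha => key g hg a ha, fun ha => ?_⟩
  have h1 := key g⁻¹ (X.inv_mem hg) _ ha
  have h2 : g⁻¹ * (g * a * g⁻¹) * g⁻¹⁻¹ = a := by group
  rwa [h2] at h1

/-- **Enlargement of a `p`-subgroup fixing a singular vector.** -/
theorem enlarge (hG : Good Q) {p f : ℕ} [hp : Fact p.Prime] (hF : Nat.card F = p ^ f) (hpF : (p : F) = 0)
    {X : Subgroup ↥(E Q)} (hX : IsPGroup p X) {u : V} (hu : Q u = 0) (hu0 : u ≠ 0)
    (hfix : ∀ g ∈ X, (g : V ≃ₗ[F] V) u = u) {C : Submodule F V}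
    (hC : ∀ (w : V) (hw : w ∈ pp Q u), sg hu (Multiplicative.ofAdd ⟨w, hw⟩) ∈ X → w ∈ C) :
    v p X + f * finrank F V ≤ v p ↥(E Q) + f * finrank F C + f := by
  have hfin : Finite ↥(E Q) := finite_E
  have hS : IsPGroup p ↥(X ⊔ AA hu) := hX.to_sup_of_normal_right' (isPGroup_AA hpF hu) (le_normalizer_AA hu hfix)
  have h1 := card_mul_card_le (le_sup_left : X ≤ X ⊔ AA hu) (le_sup_right : AA hu ≤ X ⊔ AA hu)
  rw [card_pgroup hX, card_pgroup hS] at h1
  have h2 := card_AA hG hu hu0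
  have h3 := card_inf_AA hG hu hu0 hC
  have h4 : v p ↥(X ⊔ AA hu) ≤ v p ↥(E Q) := v_le_group _ _
  have hq : 0 < Nat.card F := by rw [hF]; exact pow_pos hp.out.pos _
  have h5 : p ^ (v p X + f * finrank F V) ≤ p ^ (v p ↥(E Q) + f * finrank F C + f) := by
    calc p ^ (v p X + f * finrank F V) = p ^ v p X * (Nat.card (AA hu) * Nat.card F ^ 2) := by
          rw [h2, hF, ← pow_mul, ← pow_add]
      _ = (p ^ v p X * Nat.card (AA hu)) * Nat.card F ^ 2 := by ring
      _ ≤ (p ^ v p ↥(X ⊔ AA hu) * Nat.card ↥(X ⊓ AA hu)) * Nat.card F ^ 2 := Nat.mul_le_mul_right _ h1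
      _ = p ^ v p ↥(X ⊔ AA hu) * (Nat.card ↥(X ⊓ AA hu) * Nat.card F) * Nat.card F := by ring
      _ ≤ p ^ v p ↥(E Q) * (Nat.card F ^ finrank F C) * Nat.card F := by
          gcongr
          exact hp.out.one_le
      _ = p ^ (v p ↥(E Q) + f * finrank F C + f) := by
          rw [hF, ← pow_mul, ← pow_add, ← pow_add]
  exact (Nat.pow_le_pow_iff_right hp.out.one_lt).1 h5

end fin

end Cfsg.Agent.H14.PD
end

-- part: H14/PD/PBound
section
/-!
# S4246, rows of the orthogonal groups: the `p`-parts of the centralisers (helper14)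

`pbound` : `s ∈ E Q` of odd prime order not the characteristic `p`, `X` a `p`-subgroup of `C(s)`; then the `p`-part of
`|X|` is at most the `p`-part of `|E Q|` divided by `q ^ 2`.
-/

set_option autoImplicit false
set_option linter.unusedSectionVars false

namespace Cfsg.Agent.H14.PD

open QuadraticMap Module Cfsg.Agent.LieClassical.OrthCore Cfsg.Agent.LieClassical.OrthTrans
open Cfsg.Agent.H200.LinFix Cfsg.Agent.H200.RowOrth
open Cfsg.Agent.H160.PD (v v_mono v_eq_zero v_pos)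

variable {F V : Type*} [Field F] [AddCommGroup V] [Module F V] {Q : QuadraticForm F V}

/-- relation of the Siegel transformations in a centraliser -/
theorem sg_comm {u w : V} (hu : Q u = 0) (hw : w ∈ pp Q u) {s : ↥(E Q)}
    (hc : sg hu (Multiplicative.ofAdd ⟨w, hw⟩) * s = s * sg hu (Multiplicative.ofAdd ⟨w, hw⟩)) (x : V) :
    polar Q u x • w - polar Q w x • u - (Q w * polar Q u x) • u =
      polar Q ((s : V ≃ₗ[F] V) u) x • (s : V ≃ₗ[F] V) w - polar Q ((s : V ≃ₗ[F] V) w) x • (s : V ≃ₗ[F] V) u -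
        (Q w * polar Q ((s : V ≃ₗ[F] V) u) x) • (s : V ≃ₗ[F] V) u := by
  obtain ⟨y, rfl⟩ := (s : V ≃ₗ[F] V).surjective x
  have h1 : ((sg hu (Multiplicative.ofAdd ⟨w, hw⟩) : ↥(E Q)) : V ≃ₗ[F] V) ((s : V ≃ₗ[F] V) y) =
      (s : V ≃ₗ[F] V) (((sg hu (Multiplicative.ofAdd ⟨w, hw⟩) : ↥(E Q)) : V ≃ₗ[F] V) y) :=
    congrArg (fun g : ↥(E Q) => (g : V ≃ₗ[F] V) y) hc
  rw [sg_apply, sg_apply, map_sub, map_sub, map_add, map_smul, map_smul, map_smul] at h1
  rw [polar_map (E_le_O s.2), polar_map (E_le_O s.2)]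
  have h2 : ∀ a b c d b' c' d' : V, a + b - c - d = a + b' - c' - d' → b - c - d = b' - c' - d' := by
    intro a b c d b' c' d' h
    have h3 : a + (b - c - d) = a + (b' - c' - d') := by
      rw [← add_sub_assoc, ← add_sub_assoc, ← add_sub_assoc, ← add_sub_assoc]
      exact h
    exact add_left_cancel h3
  exact h2 _ _ _ _ _ _ _ h1

theorem exists_sep (hG : Good Q) {u u' : V} (hu0 : u ≠ 0) (hu' : u' ≠ 0) (h : ∀ c : F, u' ≠ c • u) :
    ∃ x, polar Q u x = 1 ∧ polar Q u' x = 0 := by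
  by_contra hcon
  push Not at hcon
  obtain ⟨x₀, hx₀⟩ := hG.nondeg.exists_polar_eq hu' 1
  have h1 : ∀ x, polar Q u' x = 0 → polar Q u x = 0 := by
    intro x hx
    by_contra hne
    refine hcon ((polar Q u x)⁻¹ • x) ?_ ?_
    · rw [polar_smul_right, smul_eq_mul, inv_mul_cancel₀ hne]
    · rw [polar_smul_right, hx, smul_zero]
  have h2 : u - polar Q u x₀ • u' = 0 := by
    apply hG.nondeg
    intro x
    have h3 := h1 (x - polar Q u' x • x₀) (by rw [polar_sub_right, polar_smul_right, hx₀, smul_eq_mul, mul_one, sub_self])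
    rw [polar_sub_right, polar_smul_right, smul_eq_mul, sub_eq_zero] at h3
    rw [polar_sub_left, polar_smul_left, h3, smul_eq_mul, mul_comm, sub_self]
  have h3 : polar Q u x₀ ≠ 0 := by
    intro h0
    rw [h0, zero_smul, sub_zero] at h2
    exact hu0 h2
  refine h (polar Q u x₀)⁻¹ ?_
  rw [sub_eq_zero] at h2
  nth_rewrite 2 [h2]
  rw [smul_smul, inv_mul_cancel₀ h3, one_smul]

/-- if `s u` is not a multiple of `u` -/
theorem mem_span_of_comm (hG : Good Q) {u : V} (hu : Q u = 0) (hu0 : u ≠ 0) {s : ↥(E Q)}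
    (h : ∀ c : F, (s : V ≃ₗ[F] V) u ≠ c • u) {w : V} (hw : w ∈ pp Q u)
    (hc : sg hu (Multiplicative.ofAdd ⟨w, hw⟩) * s = s * sg hu (Multiplicative.ofAdd ⟨w, hw⟩)) :
    w ∈ Submodule.span F {u, (s : V ≃ₗ[F] V) u} := by
  have hsu : (s : V ≃ₗ[F] V) u ≠ 0 := fun h0 => hu0 ((s : V ≃ₗ[F] V).map_eq_zero_iff.1 h0)
  obtain ⟨x, hx1, hx2⟩ := exists_sep hG hu0 hsu h
  have h1 := sg_comm hu hw hc x
  rw [hx1, hx2, one_smul, mul_one, mul_zero, zero_smul, zero_smul, sub_zero, zero_sub] at h1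
  rw [Submodule.mem_span_pair]
  refine ⟨polar Q w x + Q w, -polar Q ((s : V ≃ₗ[F] V) w) x, ?_⟩
  rw [neg_smul, ← h1, add_smul]
  abel

/-- if `s u = c u` -/
theorem sub_mem_of_comm (hG : Good Q) {u : V} (hu : Q u = 0) (hu0 : u ≠ 0) {s : ↥(E Q)} {c : F}
    (h : (s : V ≃ₗ[F] V) u = c • u) {w : V} (hw : w ∈ pp Q u)
    (hc : sg hu (Multiplicative.ofAdd ⟨w, hw⟩) * s = s * sg hu (Multiplicative.ofAdd ⟨w, hw⟩)) :
    ∃ d : F, c • (s : V ≃ₗ[F] V) w - w = d • u := by
  obtain ⟨x, hx⟩ := hG.nondeg.exists_polar_eq hu0 1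
  have h1 := sg_comm hu hw hc x
  rw [h, polar_smul_left, hx, one_smul, mul_one, smul_eq_mul, mul_one] at h1
  refine ⟨polar Q ((s : V ≃ₗ[F] V) w) x * c + Q w * c * c - polar Q w x - Q w, ?_⟩
  have h2 : c • (s : V ≃ₗ[F] V) w = (w - polar Q w x • u - Q w • u) + polar Q ((s : V ≃ₗ[F] V) w) x • c • u +
      (Q w * c) • c • u := by
    rw [h1]
    abel
  rw [h2, smul_smul, smul_smul, sub_smul, sub_smul, add_smul]
  abel

section fin

variable [Finite V]

/-- a `p`-subgroup fixes a nonzero singular vector -/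
theorem exists_fix_sing {p : ℕ} [hp : Fact p.Prime] (hsing : p ∣ Nat.card {w : V // Q w = 0}) {X : Subgroup ↥(E Q)}
    (hX : IsPGroup p X) : ∃ u : V, u ≠ 0 ∧ Q u = 0 ∧ ∀ g ∈ X, (g : V ≃ₗ[F] V) u = u := by
  classical
  let act : MulAction ↥X {w : V // Q w = 0} :=
    { smul := fun g w => ⟨(g : ↥(E Q)) |>.1 w, by rw [E_le_O (g : ↥(E Q)).2]; exact w.2⟩
      one_smul := fun w => Subtype.ext rfl
      mul_smul := fun g h w => Subtype.ext rfl }
  have h1 := hX.card_modEq_card_fixedPoints {w : V // Q w = 0}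
  have h2 : p ∣ Nat.card (MulAction.fixedPoints ↥X {w : V // Q w = 0}) :=
    Nat.modEq_zero_iff_dvd.1 (h1.symm.trans (Nat.modEq_zero_iff_dvd.2 hsing))
  have h0 : (⟨0, QuadraticMap.map_zero Q⟩ : {w : V // Q w = 0}) ∈
      MulAction.fixedPoints ↥X {w : V // Q w = 0} := fun g => Subtype.ext (map_zero ((g : ↥(E Q)) : V ≃ₗ[F] V))
  have h3 : 0 < Nat.card (MulAction.fixedPoints ↥X {w : V // Q w = 0}) :=
    Nat.card_pos_iff.2 ⟨⟨⟨_, h0⟩⟩, inferInstance⟩
  have h4 : 1 < Nat.card (MulAction.fixedPoints ↥X {w : V // Q w = 0}) :=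
    lt_of_lt_of_le hp.out.one_lt (Nat.le_of_dvd h3 h2)
  have h5 : Nontrivial (MulAction.fixedPoints ↥X {w : V // Q w = 0}) := Finite.one_lt_card_iff_nontrivial.1 h4
  obtain ⟨⟨⟨u, hu⟩, hfix⟩, hne⟩ := _root_.exists_ne (⟨_, h0⟩ : MulAction.fixedPoints ↥X {w : V // Q w = 0})
  refine ⟨u, fun h => hne (Subtype.ext (Subtype.ext h)), hu, fun g hg => ?_⟩
  exact congrArg Subtype.val (hfix ⟨g, hg⟩)

theorem finrank_R_two [Finite F] (hG : Good Q) {t : ℕ} [ht : Fact t.Prime] (ht2 : t ≠ 2) (htF : (t : F) ≠ 0)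
    {s : ↥(E Q)} (hs : s ^ t = 1) (hs1 : s ≠ 1) : 2 ≤ finrank F (R (en Q s)) := by
  have h1 := finrank_R_ne_one hG ht2 htF hs
  have h2 : finrank F (R (en Q s)) ≠ 0 := by
    intro h
    have hfd : FiniteDimensional F V := inferInstance
    rw [Submodule.finrank_eq_zero, R_eq_bot] at h
    exact hs1 (en_injective (h.trans (map_one _).symm))
  omega

/-- **The `p`-part of the centraliser of an element of odd prime order, not the characteristic.** -/
theorem pbound [Finite F] (hG : Good Q) {p f : ℕ} [hp : Fact p.Prime] (hF : Nat.card F = p ^ f) (hpF : (p : F) = 0)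
    (hsing : p ∣ Nat.card {w : V // Q w = 0}) (hN : 6 ≤ finrank F V) {t : ℕ} [ht : Fact t.Prime] (ht2 : t ≠ 2)
    (htF : (t : F) ≠ 0) {s : ↥(E Q)} (hs : s ^ t = 1) (hs1 : s ≠ 1) {X : Subgroup ↥(E Q)} (hX : IsPGroup p X)
    (hXs : ∀ g ∈ X, g * s = s * g) : v p X + 2 * f ≤ v p ↥(E Q) := by
  have hfd : FiniteDimensional F V := inferInstance
  obtain ⟨u, hu0, hu, hfix⟩ := exists_fix_sing hsing hX
  by_cases h : ∀ c : F, (s : V ≃ₗ[F] V) u ≠ c • u
  · have h1 := enlarge hG hF hpF hX hu hu0 hfix (C := Submodule.span F {u, (s : V ≃ₗ[F] V) u})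
      fun w hw hwX => mem_span_of_comm hG hu hu0 h hw (hXs _ hwX)
    have h2 : finrank F (Submodule.span F {u, (s : V ≃ₗ[F] V) u}) ≤ 2 := by
      classical
      have h3 := finrank_span_finset_le_card (R := F) ({u, (s : V ≃ₗ[F] V) u} : Finset V)
      rw [Finset.coe_pair] at h3
      exact h3.trans Finset.card_le_two
    have h3 : f * finrank F (Submodule.span F {u, (s : V ≃ₗ[F] V) u}) ≤ f * 2 := Nat.mul_le_mul_left _ h2
    have h4 : f * 6 ≤ f * finrank F V := Nat.mul_le_mul_left _ hN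
    omega
  push Not at h
  obtain ⟨c, hc⟩ := h
  have hst : ((s : V ≃ₗ[F] V) ^ t) u = u := by
    have h1 := congrArg Subtype.val hs
    rw [Subgroup.coe_pow] at h1
    rw [h1]
    rfl
  have hpow : ∀ n : ℕ, ((s : V ≃ₗ[F] V) ^ n) u = c ^ n • u := by
    intro n
    induction n with
    | zero => rw [pow_zero, pow_zero, one_smul]; rfl
    | succ n ih =>
      rw [pow_succ']
      change (s : V ≃ₗ[F] V) (((s : V ≃ₗ[F] V) ^ n) u) = _
      rw [ih, map_smul, hc, smul_smul, pow_succ]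
  have hct : c ^ t = 1 := by
    have h1 : (c ^ t - 1) • u = 0 := by rw [sub_smul, ← hpow, hst, one_smul, sub_self]
    exact sub_eq_zero.1 ((smul_eq_zero.1 h1).resolve_right hu0)
  by_cases hc1 : c = 1
  · -- `u ∈ K s`
    subst hc1
    rw [one_smul] at hc
    have huK : u ∈ K (en Q s) := mem_K.2 hc
    have hs' : en Q s ^ t = 1 := by rw [← map_pow, hs, map_one]
    have h1 := enlarge hG hF hpF hX hu hu0 hfix (C := K (en Q s) ⊓ pp Q u) fun w hw hwX => by
      refine ⟨?_, hw⟩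
      obtain ⟨d, hd⟩ := sub_mem_of_comm hG hu hu0 (c := 1) (by rw [one_smul]; exact hc) hw (hXs _ hwX)
      rw [one_smul] at hd
      have h2 : (s : V ≃ₗ[F] V) w - w = 0 := by
        refine eq_zero_of_mem hs' htF ?_ (sub_mem_R (en Q s) w)
        change (s : V ≃ₗ[F] V) ((s : V ≃ₗ[F] V) w - w) = (s : V ≃ₗ[F] V) w - w
        rw [hd, map_smul, hc]
      exact mem_K.2 (sub_eq_zero.1 h2)
    have h2 : finrank F ↥(K (en Q s) ⊓ pp Q u) < finrank F (K (en Q s)) := by
      apply Submodule.finrank_lt_finrank_of_lt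
      refine lt_of_le_of_ne inf_le_left fun heq => hu0 ?_
      refine nondeg_K (isom_en s) (polar_nondeg hG) hs' htF huK fun k hk => ?_
      rw [← heq] at hk
      rw [polarBilin_apply_apply, polar_comm]
      exact hk.2
    have h3 := finrank_add (en Q s)
    have h4 := finrank_R_two hG ht2 htF hs hs1
    have h5 : finrank F ↥(K (en Q s) ⊓ pp Q u) + 3 ≤ finrank F V := by omega
    have h6 : f * (finrank F ↥(K (en Q s) ⊓ pp Q u) + 3) ≤ f * finrank F V := Nat.mul_le_mul_left _ h5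
    rw [mul_add] at h6
    omega
  · -- `s u = c u`, `c ≠ 1`
    have hc2 : c * c ≠ 1 := by
      intro h2
      apply hc1
      have hodd : Odd t := ht.out.odd_of_ne_two ht2
      obtain ⟨k, hk⟩ := hodd
      rw [hk, pow_succ, pow_mul, pow_two, h2, one_pow, one_mul] at hct
      exact hct
    let C : Submodule F V :=
      { carrier := {w | w ∈ pp Q u ∧ ∃ d : F, c • (s : V ≃ₗ[F] V) w - w = d • u}
        add_mem' := by
          rintro a b ⟨ha, d, hd⟩ ⟨hb, e, he⟩
          refine ⟨(pp Q u).add_mem ha hb, d + e, ?_⟩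
          rw [map_add, smul_add, add_smul, ← hd, ← he]
          abel
        zero_mem' := ⟨(pp Q u).zero_mem, 0, by rw [map_zero, smul_zero, sub_zero, zero_smul]⟩
        smul_mem' := by
          rintro a w ⟨hw, d, hd⟩
          refine ⟨(pp Q u).smul_mem a hw, a * d, ?_⟩
          rw [map_smul, smul_comm, ← smul_sub, hd, smul_smul] }
    have hti : ∀ w ∈ C, ∀ w' ∈ C, polarBilin Q w w' = 0 := by
      rintro w ⟨hw, d, hd⟩ w' ⟨hw', d', hd'⟩
      rw [polarBilin_apply_apply]
      have h1 : c • (s : V ≃ₗ[F] V) w = w + d • u := by rw [← hd]; abel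
      have h2 : c • (s : V ≃ₗ[F] V) w' = w' + d' • u := by rw [← hd']; abel
      have h3 : polar Q (c • (s : V ≃ₗ[F] V) w) (c • (s : V ≃ₗ[F] V) w') = c * c * polar Q w w' := by
        rw [polar_smul_left, polar_smul_right, polar_map (E_le_O s.2), smul_eq_mul, smul_eq_mul, mul_assoc]
      have h4 : polar Q w u = 0 := by rw [polar_comm]; exact hw
      have h5 : polar Q u w' = 0 := hw'
      rw [h1, h2, polar_add_left, polar_add_right, polar_add_right, polar_smul_right, polar_smul_left,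
        polar_smul_left, polar_smul_right, h4, h5, polar_self_of_sing hu] at h3
      simp only [smul_zero, add_zero] at h3
      have h6 : (c * c - 1) * polar Q w w' = 0 := by rw [sub_mul, one_mul, ← h3, sub_self]
      exact (mul_eq_zero.1 h6).resolve_left (sub_ne_zero.2 hc2)
    have h1 := enlarge hG hF hpF hX hu hu0 hfix (C := C) fun w hw hwX =>
      ⟨hw, sub_mem_of_comm hG hu hu0 hc hw (hXs _ hwX)⟩
    have h2 : 2 * finrank F C ≤ finrank F (⊤ : Submodule F V) :=
      finrank_ti_le (Q := Q) (fun w _ hw => polar_nondeg hG w fun x => hw x Submodule.mem_top) le_top hti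
    rw [finrank_top] at h2
    obtain ⟨N, hN'⟩ : ∃ N, N = finrank F V := ⟨_, rfl⟩
    rw [← hN'] at h1 h2 hN
    have h3 : finrank F C + 3 ≤ N := by omega
    have h6 : f * (finrank F C + 3) ≤ f * N := Nat.mul_le_mul_left _ h3
    rw [mul_add] at h6
    omega

end fin

end Cfsg.Agent.H14.PD
end

-- part: H14/PD/Split
section
/-!
# S4246, rows of the orthogonal groups: elements of prime order (helper14)

* `triv_of_irr` : a `p`-element (`p` the characteristic) commuting with an irreducible element is trivial;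
* `exists_split` : `y` of prime order `l`, `q` of odd order `d` modulo `l`, `dim R y = 2 d`: the invariant subspaces of
  `R y` are `0, U, U', R y` with `U, U'` totally isotropic of dimension `d`.
-/

set_option autoImplicit false
set_option linter.unusedSectionVars false

namespace Cfsg.Agent.H14.PD

open QuadraticMap Module Cfsg.Agent.LieClassical.OrthCore Cfsg.Agent.LieClassical.OrthTrans
open Cfsg.Agent.H200.LinFix Cfsg.Agent.H200.RowOrth
open Cfsg.Agent.H160.PD (v v_mono v_eq_zero v_pos)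

variable {F V : Type*} [Field F] [AddCommGroup V] [Module F V] {Q : QuadraticForm F V}

theorem dvd_card_F [Finite F] {p : ℕ} [hp : Fact p.Prime] (hpF : (p : F) = 0) : p ∣ Nat.card F := by
  have h5 : addOrderOf (1 : F) = p := by
    apply addOrderOf_eq_prime
    · rw [nsmul_one]; exact hpF
    · exact one_ne_zero
  rw [← h5]
  exact addOrderOf_dvd_natCard 1

section fin

variable [Finite V]

theorem triv_of_irr [Finite F] {y s : Module.End F V} {W : Submodule F V} (hyW : ∀ w ∈ W, y w ∈ W) (hirr : Irr y W)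
    (hsW : ∀ w ∈ W, s w ∈ W) (hc : ∀ w ∈ W, s (y w) = y (s w)) {p k : ℕ} [hp : Fact p.Prime] (hpF : (p : F) = 0)
    (hs : ∀ w ∈ W, (s ^ p ^ k) w = w) : ∀ w ∈ W, s w = w := by
  have hfd : FiniteDimensional F V := inferInstance
  by_cases hW : W = ⊥
  · subst hW
    intro w hw
    rw [Submodule.mem_bot] at hw
    rw [hw, map_zero]
  have hn : Nontrivial W := Submodule.nontrivial_iff_ne_bot.2 hW
  have hnt : Nontrivial (Module.End F W) := Module.End.instNontrivial
  have h3 : ∀ (n : ℕ) (w : W), ((((s.restrict hsW) ^ n) w : W) : V) = (s ^ n) w := by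
    intro n
    induction n with
    | zero => intro w; rfl
    | succ n ih => intro w; rw [pow_succ, pow_succ, Module.End.mul_apply, Module.End.mul_apply, ih]; rfl
  have h0 : s.restrict hsW ≠ 0 := by
    intro h0
    obtain ⟨w, hw, hw0⟩ := Submodule.exists_mem_ne_zero_of_ne_bot hW
    apply hw0
    rw [← hs w hw]
    have h1 := h3 (p ^ k) ⟨w, hw⟩
    rw [h0, zero_pow (pow_ne_zero _ hp.out.ne_zero)] at h1
    exact h1.symm
  have h1 := pow_card_sub_one (g := y.restrict hyW) (hirr.restrict hyW) (s := s.restrict hsW)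
    (by ext ⟨v, hv⟩; exact hc v hv) h0
  intro w hw
  refine fix_of_coprime (m := Nat.card W - 1) (n := p ^ k) ?_ (hs w hw) ?_
  · have h4 := congrArg Subtype.val (LinearMap.congr_fun h1 ⟨w, hw⟩)
    rw [h3] at h4
    exact h4
  · apply Nat.Coprime.pow_right
    rw [Nat.coprime_comm, Nat.Prime.coprime_iff_not_dvd hp.out]
    intro h
    have h4 : p ∣ Nat.card W := by
      rw [Module.natCard_eq_pow_finrank (K := F)]
      exact dvd_pow (dvd_card_F hpF) (Module.finrank_pos.ne')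
    have h5 : p ∣ Nat.card W - (Nat.card W - 1) := Nat.dvd_sub h4 h
    have h6 : 0 < Nat.card W := Nat.card_pos
    have h7 : Nat.card W - (Nat.card W - 1) = 1 := by omega
    rw [h7] at h5
    exact hp.out.one_lt.ne' (Nat.dvd_one.1 h5)

/-- an invariant complement -/
theorem exists_compl_inv {l : ℕ} (hlF : (l : F) ≠ 0) {y : ↥(E Q)} (hy : y ^ l = 1) {U : Submodule F V}
    (hU : ∀ w ∈ U, en Q y w ∈ U) :
    ∃ W : Submodule F V, (∀ w ∈ W, en Q y w ∈ W) ∧ IsCompl U W := by
  have hfin : Finite ↥(E Q) := finite_E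
  have h1 : (Nat.card ↥(Subgroup.zpowers y) : F) ≠ 0 := by
    rw [Nat.card_zpowers]
    intro h0
    apply hlF
    obtain ⟨m, hm⟩ := orderOf_dvd_of_pow_eq_one hy
    rw [hm, Nat.cast_mul, h0, zero_mul]
  have hyi : ∀ k : ℕ, ∀ w ∈ U, (en Q y ^ k) w ∈ U := fun k => pow_inv_mem hU k
  obtain ⟨W, hW, hUW⟩ := GpLn.Rank.exists_compl (A := ↥(Subgroup.zpowers y)) ((en Q).comp (Subgroup.zpowers y).subtype) h1 U
    (by
      rintro ⟨g, hg⟩ w hw
      obtain ⟨k, rfl⟩ := (mem_powers_iff_mem_zpowers (x := y)).2 hg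
      change en Q (y ^ k) w ∈ U
      rw [map_pow]
      exact hyi k w hw)
  exact ⟨W, fun w hw => hW ⟨y, Subgroup.mem_zpowers y⟩ w hw, hUW⟩

/-- the structure of `R y` -/
structure Split (Q : QuadraticForm F V) (y : ↥(E Q)) (d : ℕ) (U U' : Submodule F V) : Prop where
  le : U ≤ R (en Q y)
  le' : U' ≤ R (en Q y)
  inv : ∀ w ∈ U, en Q y w ∈ U
  inv' : ∀ w ∈ U', en Q y w ∈ U'
  dim : finrank F U = d
  dim' : finrank F U' = d
  ti : ∀ u ∈ U, ∀ w ∈ U, polarBilin Q u w = 0
  ti' : ∀ u ∈ U', ∀ w ∈ U', polarBilin Q u w = 0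
  inf : U ⊓ U' = ⊥
  sup : U ⊔ U' = R (en Q y)
  all : ∀ X : Submodule F V, X ≤ R (en Q y) → (∀ w ∈ X, en Q y w ∈ X) → X = ⊥ ∨ X = U ∨ X = U' ∨ X = R (en Q y)

theorem Split.symm {y : ↥(E Q)} {d : ℕ} {U U' : Submodule F V} (h : Split Q y d U U') : Split Q y d U' U where
  le := h.le'
  le' := h.le
  inv := h.inv'
  inv' := h.inv
  dim := h.dim'
  dim' := h.dim
  ti := h.ti'
  ti' := h.ti
  inf := by rw [inf_comm]; exact h.inf
  sup := by rw [sup_comm]; exact h.sup
  all := fun X h1 h2 => by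
    rcases h.all X h1 h2 with h3 | h3 | h3 | h3
    · exact Or.inl h3
    · exact Or.inr (Or.inr (Or.inl h3))
    · exact Or.inr (Or.inl h3)
    · exact Or.inr (Or.inr (Or.inr h3))

theorem exists_split [Finite F] (hG : Good Q) {l d : ℕ} [hl : Fact l.Prime] (hl2 : l ≠ 2) (hlF : (l : F) ≠ 0)
    {y : ↥(E Q)} (hy : y ^ l = 1) (hd : Ordd l (Nat.card F) d) (hld : l ∣ Nat.card F ^ d - 1)
    (hdo : Odd d) (hfr : finrank F (R (en Q y)) = 2 * d) : ∃ U U', Split Q y d U U' := by
  classical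
  have hfd : FiniteDimensional F V := inferInstance
  have hd0 : 0 < d := hdo.pos
  have hy' : en Q y ^ l = 1 := by rw [← map_pow, hy, map_one]
  have hyb := isom_en y
  have hb := polar_nondeg hG
  have hyW : ∀ w ∈ R (en Q y), en Q y w ∈ R (en Q y) := fun w hw => R_inv rfl hw
  have hW : R (en Q y) ≠ ⊥ := by
    intro h
    rw [h, finrank_bot] at hfr
    omega
  have hq1 : 1 ≤ Nat.card F ^ d := Nat.one_le_pow _ _ Nat.card_pos
  -- a proper invariant subspace
  obtain ⟨U, hUW, hyU, hU0, hUne⟩ : ∃ U : Submodule F V, U ≤ R (en Q y) ∧ (∀ w ∈ U, en Q y w ∈ U) ∧ U ≠ ⊥ ∧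
      U ≠ R (en Q y) := by
    by_contra hcon
    push Not at hcon
    have hirr : Irr (en Q y) (R (en Q y)) := fun U hU hyU => by
      by_cases h : U = ⊥
      · exact Or.inl h
      · exact Or.inr (hcon U hU hyU h)
    obtain ⟨w, hw, hw0⟩ := Submodule.exists_mem_ne_zero_of_ne_bot hW
    obtain ⟨m, hm, hU⟩ := unitary_on (l := l - 1) hW hyW hirr (polarBilin Q) (fun u _ v _ => hyb u v)
      (fun v hv hv' => nondeg_R hyb hb hy' hlF hv hv')
      (by rw [Nat.sub_add_cancel hl.out.one_le, hy'])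
      ⟨w, hw, fun h1 => hw0 (eq_zero_of_mem hy' hlF (fix_of_sq hl2 hy' h1) hw)⟩
    have hmd : m = d := by omega
    subst hmd
    apply hw0
    refine eq_zero_of_mem hy' hlF ?_ hw
    refine fix_of_coprime (hU (en Q y) hyW (fun w _ => rfl) (fun u _ v _ => hyb u v) w hw)
      (by rw [hy']; rfl) ?_
    refine ((Nat.Prime.coprime_iff_not_dvd hl.out).2 fun h => ?_).symm
    apply hl2
    have h3 : l ∣ 2 := by
      have h4 : Nat.card F ^ m + 1 - (Nat.card F ^ m - 1) = 2 := by omega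
      rw [← h4]
      exact Nat.dvd_sub h hld
    exact (Nat.prime_dvd_prime_iff_eq hl.out Nat.prime_two).1 h3
  have hdim : ∀ X : Submodule F V, X ≤ R (en Q y) → (∀ w ∈ X, en Q y w ∈ X) → X ≠ ⊥ → X ≠ R (en Q y) →
      finrank F X = d := by
    intro X hXW hyX hX0 hXne
    obtain ⟨c, hc⟩ := dvd_finrank_le hd hlF hy' hXW hyX
    have h1 : finrank F X < finrank F (R (en Q y)) := Submodule.finrank_lt_finrank_of_lt (lt_of_le_of_ne hXW hXne)
    have h2 : finrank F X ≠ 0 := fun h => hX0 (Submodule.finrank_eq_zero.1 h)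
    have h3 : c < 2 := by
      by_contra h
      push Not at h
      nlinarith only [hfr, hc, h1, h]
    interval_cases c <;> omega
  have hirrX : ∀ X : Submodule F V, X ≤ R (en Q y) → (∀ w ∈ X, en Q y w ∈ X) → finrank F X = d → Irr (en Q y) X :=
    fun X hXW hyX hXd => irr_of_lt hd hlF hy' hXW hyX (by omega)
  have hX0 : ∀ X : Submodule F V, finrank F X = d → X ≠ ⊥ := by
    rintro X hXd rfl
    rw [finrank_bot] at hXd
    omega
  have hne : ∀ X : Submodule F V, finrank F X = d → ¬ Even (finrank F X) := fun X hXd => by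
    rw [hXd]; exact Nat.not_even_iff_odd.2 hdo
  have hti : ∀ X : Submodule F V, X ≤ R (en Q y) → (∀ w ∈ X, en Q y w ∈ X) → finrank F X = d →
      ∀ v ∈ X, ∀ u ∈ X, polarBilin Q u v = 0 := by
    intro X hXW hyX hXd
    rcases rad_of_irr hy' hyb hyX (hirrX X hXW hyX hXd) with h | h
    · exact absurd (even_of_irr hl2 hlF hy' hXW hyX (hirrX X hXW hyX hXd) (hX0 X hXd) (polarBilin Q)
        (fun u _ v _ => hyb u v) h) (hne X hXd)
    · exact h
  have hUd := hdim U hUW hyU hU0 hUne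
  obtain ⟨W, hyWc, hUWc⟩ := exists_compl_inv hlF hy hyU
  set! U' := W ⊓ R (en Q y) with hU'
  have hyU' : ∀ w ∈ U', en Q y w ∈ U' := fun w hw => ⟨hyWc w hw.1, hyW w hw.2⟩
  have hinf : U ⊓ U' = ⊥ := by
    rw [eq_bot_iff]
    rintro x ⟨hx, hx'⟩
    rw [← hUWc.inf_eq_bot]
    exact ⟨hx, hx'.1⟩
  have hsup : U ⊔ U' = R (en Q y) := by
    apply le_antisymm (sup_le hUW inf_le_right)
    intro x hx
    have h1 : x ∈ U ⊔ W := by rw [hUWc.sup_eq_top]; exact Submodule.mem_top
    obtain ⟨a, ha, c, hc, rfl⟩ := Submodule.mem_sup.1 h1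
    refine Submodule.add_mem_sup ha ⟨hc, ?_⟩
    have h2 : c = (a + c) - a := by abel
    rw [h2]
    exact Submodule.sub_mem _ hx (hUW ha)
  have hU'd : finrank F U' = d := by
    have h1 := Submodule.finrank_sup_add_finrank_inf_eq U U'
    rw [hsup, hinf, finrank_bot, hfr, hUd] at h1
    omega
  refine ⟨U, U', hUW, inf_le_right, hyU, hyU', hUd, hU'd, fun u hu w hw => hti U hUW hyU hUd w hw u hu,
    fun u hu w hw => hti U' inf_le_right hyU' hU'd w hw u hu, hinf, hsup, fun X hXW hyX => ?_⟩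
  by_contra hcon
  push Not at hcon
  obtain ⟨c1, c2, c3, c4⟩ := hcon
  have hXd := hdim X hXW hyX c1 c4
  have hirr := hirrX X hXW hyX hXd
  -- `X ∩ U = 0 = X ∩ U'`
  have hcap : ∀ Y : Submodule F V, (∀ w ∈ Y, en Q y w ∈ Y) → finrank F Y = d → X ≠ Y → X ⊓ Y = ⊥ := by
    intro Y hyY hYd hXY
    rcases hirr (X ⊓ Y) inf_le_left (fun u hu => ⟨hyX u hu.1, hyY u hu.2⟩) with h | h
    · exact h
    · exfalso
      apply hXY
      apply Submodule.eq_of_le_of_finrank_eq (inf_eq_left.1 h) (by rw [hXd, hYd])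
  have hXU := hcap U hyU hUd c2
  have hXU' := hcap U' hyU' hU'd c3
  -- the projection
  let π : V →ₗ[F] V := U.subtype ∘ₗ U.projectionOnto W hUWc
  have hπU : ∀ v, π v ∈ U := fun v => (U.projectionOnto W hUWc v).2
  have hπ1 : ∀ u ∈ U, π u = u := by
    intro u hu
    change ((U.projectionOnto W hUWc u : U) : V) = u
    rw [Submodule.projectionOnto_apply_left hUWc ⟨u, hu⟩]
  have hπ0 : ∀ w ∈ W, π w = 0 := by
    intro w hw
    change ((U.projectionOnto W hUWc w : U) : V) = 0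
    rw [Submodule.projectionOnto_apply_eq_zero_iff hUWc |>.2 hw]
    rfl
  have hdec : ∀ v, v - π v ∈ W := by
    intro v
    have h1 : v ∈ U ⊔ W := by rw [hUWc.sup_eq_top]; exact Submodule.mem_top
    obtain ⟨a, ha, c, hc, rfl⟩ := Submodule.mem_sup.1 h1
    rw [map_add, hπ1 a ha, hπ0 c hc, add_zero, add_sub_cancel_left]
    exact hc
  have hπy : ∀ v, π (en Q y v) = en Q y (π v) := by
    intro v
    have h1 : en Q y v = en Q y (π v) + en Q y (v - π v) := by rw [← map_add]; congr 1; abel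
    rw [h1, map_add, hπ1 _ (hyU _ (hπU v)), hπ0 _ (hyWc _ (hdec v)), add_zero]
  apply hne X hXd
  refine even_of_irr hl2 hlF hy' hXW hyX hirr c1 (LinearMap.BilinForm.compLeft (polarBilin Q) π) (fun u _ v _ => ?_) fun v hv hv' => ?_
  · rw [LinearMap.BilinForm.compLeft_apply, LinearMap.BilinForm.compLeft_apply, hπy, hyb]
  · -- `π` maps `X` onto `U`
    have hXπ : ∀ u ∈ U, ∃ x ∈ X, π x = u := by
      have h1 : Function.Injective (π.domRestrict X) := by
        rw [← LinearMap.ker_eq_bot, LinearMap.ker_eq_bot']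
        rintro ⟨x, hx⟩ h0
        apply Subtype.ext
        change x = 0
        have h2 : x ∈ X ⊓ U' := by
          refine ⟨hx, ?_, hXW hx⟩
          have h3 := hdec x
          rw [show π x = 0 from h0, sub_zero] at h3
          exact h3
        rw [hXU'] at h2
        exact h2
      have h2 : LinearMap.range (π.domRestrict X) = U := by
        apply Submodule.eq_of_le_of_finrank_eq
        · rintro _ ⟨x, rfl⟩
          exact hπU _
        · rw [LinearMap.finrank_range_of_inj h1, hXd, hUd]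
      intro u hu
      rw [← h2] at hu
      obtain ⟨x, hx⟩ := hu
      exact ⟨x, x.2, hx⟩
    have h1 : ∀ u ∈ U, polarBilin Q u v = 0 := by
      intro u hu
      obtain ⟨x, hx, rfl⟩ := hXπ u hu
      exact hv' x hx
    have h2 : v - π v = 0 := by
      have hmem : v - π v ∈ R (en Q y) := Submodule.sub_mem _ (hXW hv) (hUW (hπU v))
      refine nondeg_R hyb hb hy' hlF hmem fun u hu => ?_
      rw [← hsup] at hu
      obtain ⟨a, ha, c, hc, rfl⟩ := Submodule.mem_sup.1 hu
      rw [map_add, LinearMap.add_apply, map_sub, h1 a ha, hti U hUW hyU hUd _ (hπU v) a ha, sub_zero,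
        hti U' inf_le_right hyU' hU'd _ ⟨hdec v, hmem⟩ c hc, add_zero]
    have h3 : v ∈ X ⊓ U := ⟨hv, by rw [sub_eq_zero.1 h2]; exact hπU v⟩
    rw [hXU] at h3
    exact h3

/-- the centraliser of `y` preserves `U` -/
theorem Split.comm_inv [Finite F] (hG : Good Q) {l d : ℕ} [hl : Fact l.Prime] (hl2 : l ≠ 2) (hlF : (l : F) ≠ 0)
    {y : ↥(E Q)} (hy : y ^ l = 1) (hd : Ordd l (Nat.card F) d) (hdo : Odd d) {U U' : Submodule F V}
    (h : Split Q y d U U') {s : ↥(E Q)} (hs : s * y = y * s) : ∀ w ∈ U, en Q s w ∈ U := by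
  have hfd : FiniteDimensional F V := inferInstance
  have hd0 : 0 < d := hdo.pos
  have hy' : en Q y ^ l = 1 := by rw [← map_pow, hy, map_one]
  have hsy : ∀ w, en Q s (en Q y w) = en Q y (en Q s w) := fun w => by
    rw [← Module.End.mul_apply, ← Module.End.mul_apply, ← map_mul, ← map_mul, hs]
  have hinj : Function.Injective (en Q s) := (s : V ≃ₗ[F] V).injective
  have hfr : finrank F (R (en Q y)) = 2 * d := by
    have h1 := Submodule.finrank_sup_add_finrank_inf_eq U U'
    rw [h.sup, h.inf, finrank_bot, h.dim, h.dim'] at h1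
    omega
  have h1 : (U.map (en Q s)) ≤ R (en Q y) := by
    rintro _ ⟨w, hw, rfl⟩
    exact R_inv (by rw [← map_mul, hs, map_mul]) (h.le hw)
  have h2 : ∀ w ∈ U.map (en Q s), en Q y w ∈ U.map (en Q s) := by
    rintro _ ⟨w, hw, rfl⟩
    exact ⟨en Q y w, h.inv w hw, hsy w⟩
  have h3 : finrank F (U.map (en Q s)) = d := by
    rw [← h.dim]
    exact (Submodule.equivMapOfInjective (en Q s) hinj U).symm.finrank_eq
  rcases h.all _ h1 h2 with h4 | h4 | h4 | h4
  · rw [h4, finrank_bot] at h3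
    omega
  · intro w hw
    rw [← h4]
    exact ⟨w, hw, rfl⟩
  · exfalso
    have hirr : Irr (en Q y) U := irr_of_lt hd hlF hy' h.le h.inv (by rw [h.dim]; omega)
    have hU0 : U ≠ ⊥ := by
      intro h0
      have h5 := h.dim
      rw [h0, finrank_bot] at h5
      omega
    have h5 := even_of_irr hl2 hlF hy' h.le h.inv hirr hU0 (LinearMap.BilinForm.compRight (polarBilin Q) (en Q s)) (fun u _ v _ => by
      rw [LinearMap.BilinForm.compRight_apply, LinearMap.BilinForm.compRight_apply, hsy, isom_en]) (fun v hv hv' => by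
        apply hinj
        rw [map_zero]
        have h6 : en Q s v ∈ U' := by rw [← h4]; exact ⟨v, hv, rfl⟩
        refine nondeg_R (isom_en y) (polar_nondeg hG) hy' hlF (h.le' h6) fun u hu => ?_
        rw [← h.sup] at hu
        obtain ⟨a, ha, c, hc, rfl⟩ := Submodule.mem_sup.1 hu
        rw [map_add, LinearMap.add_apply, h.ti' c hc _ h6, add_zero]
        exact hv' a ha)
    rw [h.dim] at h5
    exact (Nat.not_even_iff_odd.2 hdo) h5
  · rw [h4, hfr] at h3
    omega

end fin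

end Cfsg.Agent.H14.PD
end

-- part: H14/PD/Cent
section
/-!
# S4246, rows of the orthogonal groups: centralisers in `P Q` (helper14)

* `v_P`, `exists_lift_pgroup` : `p`-subgroups of `P Q` and of `E Q`;
* `v_Fx_inner` : the `p`-part of the centraliser of an element of odd prime order;
* `eq_one_of_comm` : no `p`-element commutes with `y` if `dim K y ≤ 2` and `R y` is irreducible or `Split`;
* `noOdd_of_comm` : `NoOdd` from `pcent`.
-/

set_option autoImplicit false
set_option linter.unusedSectionVars false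

namespace Cfsg.Agent.H14.PD

open QuadraticMap Module Cfsg.Agent.LieClassical.OrthCore Cfsg.Agent.LieClassical.OrthTrans
open Cfsg.Agent.ClassicalGeometry.OrthSemi Cfsg.Agent.ClassicalGeometry.OrthAut1
open Cfsg.Agent.H200.LinFix Cfsg.Agent.H200.RowOrth Cfsg.Agent.H568
open Cfsg.Agent.H160.PD (v v_mono v_eq_zero v_pos Fx mem_Fx NoOdd noOdd_of)

variable {F V : Type*} [Field F] [AddCommGroup V] [Module F V] {Q : QuadraticForm F V}

theorem center_bot_of_two (hG : Good Q) (h2 : (2 : F) = 0) : Subgroup.center ↥(E Q) = ⊥ := by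
  rw [eq_bot_iff]
  intro z hz
  obtain ⟨c, hc⟩ := center_scalar hG hz
  obtain ⟨x, y, h⟩ := hG.exists_hyp
  have h1 : Q (x + y) = 1 := by rw [Q_add, h.left, h.right, h.pair, add_zero, zero_add]
  have h3 : Q ((z : V ≃ₗ[F] V) (x + y)) = Q (x + y) := E_le_O z.2 _
  rw [hc, QuadraticMap.map_smul, h1, smul_eq_mul, mul_one] at h3
  have h4 : (c - 1) * (c - 1) = 0 := by linear_combination h3 + (1 - c) * h2
  have h5 : c = 1 := sub_eq_zero.1 (mul_self_eq_zero.1 h4)
  rw [Subgroup.mem_bot]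
  apply Subtype.ext
  ext w
  rw [hc, h5, one_smul]
  rfl

section fin

variable [Finite V]

/-- `p ≠ 2` or characteristic two -/
theorem not_dvd_center' (hG : Good Q) {p : ℕ} [hp : Fact p.Prime] (h : p ≠ 2 ∨ (2 : F) = 0) :
    ¬ p ∣ Nat.card (Subgroup.center ↥(E Q)) := by
  rcases h with h | h
  · exact not_dvd_center hG h
  · rw [center_bot_of_two hG h, Subgroup.card_bot]
    exact hp.out.one_lt.ne' ∘ Nat.dvd_one.1

theorem two_or_of_char {p : ℕ} (hpF : (p : F) = 0) : p ≠ 2 ∨ (2 : F) = 0 := by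
  by_cases h : p = 2
  · right
    subst h
    exact_mod_cast hpF
  · exact Or.inl h

theorem v_P (hG : Good Q) {p : ℕ} [hp : Fact p.Prime] (h : p ≠ 2 ∨ (2 : F) = 0) : v p (P Q) = v p ↥(E Q) := by
  have hfin : Finite ↥(E Q) := finite_E
  have h3 : Nat.card ↥(E Q) = Nat.card (P Q) * Nat.card (Subgroup.center ↥(E Q)) :=
    Subgroup.card_eq_card_quotient_mul_card_subgroup _
  rw [v, v, h3, Nat.factorization_mul Nat.card_pos.ne' Nat.card_pos.ne', Finsupp.add_apply,
    Nat.factorization_eq_zero_of_not_dvd (not_dvd_center' hG h), add_zero]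

/-- lifting a Sylow `p`-subgroup of a subgroup of `P Q` -/
theorem exists_lift_pgroup (hG : Good Q) {p : ℕ} [hp : Fact p.Prime] (h : p ≠ 2 ∨ (2 : F) = 0) (H : Subgroup (P Q)) :
    ∃ X : Subgroup ↥(E Q), IsPGroup p X ∧ v p X = v p H ∧ ∀ g ∈ X, (QuotientGroup.mk g : P Q) ∈ H := by
  have hfin : Finite ↥(E Q) := finite_E
  obtain ⟨S⟩ : Nonempty (Sylow p ↥H) := inferInstance
  have hR : (IsPGroup p ↥((S : Subgroup ↥H).map H.subtype) :) := S.isPGroup'.map _
  obtain ⟨X, hX, hmap, -⟩ := Cfsg.Agent.SigZeroU5.exists_lift (Subgroup.center ↥(E Q)) le_rfl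
    (not_dvd_center' hG h) hR
  have hinj : Function.Injective ((QuotientGroup.mk' (Subgroup.center ↥(E Q))).comp X.subtype) := by
    rw [injective_iff_map_eq_one]
    rintro ⟨g, hg⟩ h1
    have h2 : g ∈ Subgroup.center ↥(E Q) := (QuotientGroup.eq_one_iff g).1 h1
    by_contra hne
    have h3 : g ≠ 1 := fun h0 => hne (Subtype.ext h0)
    obtain ⟨k, hk⟩ := (IsPGroup.iff_orderOf.1 hX) ⟨g, hg⟩
    rw [Subgroup.orderOf_mk] at hk
    have hk0 : k ≠ 0 := by
      rintro rfl
      rw [pow_zero, orderOf_eq_one_iff] at hk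
      exact h3 hk
    apply not_dvd_center' hG h
    have h4 : orderOf g ∣ Nat.card (Subgroup.center ↥(E Q)) := by
      have h5 := orderOf_dvd_natCard (⟨g, h2⟩ : Subgroup.center ↥(E Q))
      rwa [Subgroup.orderOf_mk] at h5
    exact (dvd_pow_self p hk0).trans (hk ▸ h4)
  refine ⟨X, hX, ?_, fun g hg => ?_⟩
  · have h1 : Nat.card X = Nat.card ↥((S : Subgroup ↥H).map H.subtype) := by
      rw [← hmap]
      have h2 : Nat.card X = Nat.card ((QuotientGroup.mk' (Subgroup.center ↥(E Q))).comp X.subtype).range :=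
        Nat.card_congr (MonoidHom.ofInjective hinj).toEquiv
      rw [h2, MonoidHom.range_comp, Subgroup.range_subtype]
    rw [v, h1, Cfsg.Agent.H160.PD.card_map_subtype, S.card_eq_multiplicity, hp.out.factorization_pow,
      Finsupp.single_eq_same]
  · have h1 : (QuotientGroup.mk g : P Q) ∈ ((S : Subgroup ↥H).map H.subtype :) := by
      rw [← hmap]
      exact ⟨g, hg, rfl⟩
    obtain ⟨w, -, hw⟩ := h1
    rw [← hw]
    exact w.2

theorem lift_char (hG : Good Q) {p : ℕ} [hp : Fact p.Prime] (h : p ≠ 2 ∨ (2 : F) = 0) {x : P Q} (hx : x ^ p = 1) :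
    ∃ s : ↥(E Q), s ^ p = 1 ∧ (QuotientGroup.mk s : P Q) = x := by
  rcases h with h | h
  · exact lift_pow hG x (hp.out.odd_of_ne_two h) hx
  · obtain ⟨s, rfl⟩ := QuotientGroup.mk_surjective x
    refine ⟨s, ?_, rfl⟩
    have h1 : s ^ p ∈ Subgroup.center ↥(E Q) := by
      rw [← QuotientGroup.eq_one_iff]
      exact hx
    rw [center_bot_of_two hG h] at h1
    exact h1

/-- fixed points of an inner automorphism -/
theorem mem_Fx_conj {s : ↥(E Q)} {x : P Q} :
    x ∈ Fx (MulAut.conj (QuotientGroup.mk s : P Q)) ↔ (QuotientGroup.mk s : P Q) * x = x * QuotientGroup.mk s := by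
  rw [mem_Fx, MulAut.conj_apply, mul_inv_eq_iff_eq_mul]

/-- **The `p`-part of the fixed points of an inner automorphism of odd prime order.** -/
theorem v_Fx_inner [Finite F] (hG : Good Q) {p f : ℕ} [hp : Fact p.Prime] (hF : Nat.card F = p ^ f) (hpF : (p : F) = 0)
    (hsing : p ∣ Nat.card {w : V // Q w = 0}) (hN : 6 ≤ finrank F V) {t : ℕ} [ht : Fact t.Prime] (ht2 : t ≠ 2)
    (htF : (t : F) ≠ 0) {s : ↥(E Q)} (hs : s ^ t = 1) (hs1 : s ≠ 1) :
    v p (Fx (MulAut.conj (QuotientGroup.mk s : P Q))) + 2 * f ≤ v p (P Q) := by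
  have h2 := two_or_of_char (F := F) hpF
  obtain ⟨X, hX, hXv, hXm⟩ := exists_lift_pgroup hG h2 (Fx (MulAut.conj (QuotientGroup.mk s : P Q)))
  rw [← hXv, v_P hG h2]
  refine pbound hG hF hpF hsing hN ht2 htF hs hs1 hX fun g hg => ?_
  exact (comm_of_mk hG (ht.out.odd_of_ne_two ht2) hs (mem_Fx_conj.1 (hXm g hg))).symm

/-- a `p`-element trivial on `R y`, `dim K y ≤ 2` -/
theorem eq_one_of_triv [Finite F] (hpar : ∀ g : ↥(E Q), Even (finrank F (R (en Q g)))) {l : ℕ}
    (hlF : (l : F) ≠ 0) {y : ↥(E Q)} (hy : y ^ l = 1) (hK : finrank F (K (en Q y)) ≤ 2) {p k : ℕ} [hp : Fact p.Prime]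
    (hpF : (p : F) = 0) {s : ↥(E Q)} (hs : s ^ p ^ k = 1) (hsy : s * y = y * s)
    (htriv : ∀ w ∈ R (en Q y), en Q s w = w) : s = 1 := by
  classical
  have hfd : FiniteDimensional F V := inferInstance
  have hy' : en Q y ^ l = 1 := by rw [← map_pow, hy, map_one]
  have h1 := R_le_K hlF hy hsy htriv
  by_cases hK0 : K (en Q y) = ⊥
  · rw [hK0, le_bot_iff, R_eq_bot] at h1
    exact en_injective (h1.trans (map_one _).symm)
  -- a fixed vector in `K y`
  have hsK : ∀ w ∈ K (en Q y), en Q s w ∈ K (en Q y) := fun w hw => K_inv (by rw [← map_mul, hsy, map_mul]) hw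
  obtain ⟨w, hw, hw0, hsw⟩ : ∃ w ∈ K (en Q y), w ≠ 0 ∧ en Q s w = w := by
    let f : Function.End (K (en Q y)) := fun w => ⟨en Q s w, hsK w w.2⟩
    have hfk : ∀ (k : ℕ) (w : K (en Q y)), (((f ^ k) w : K (en Q y)) : V) = (en Q s ^ k) w := by
      intro k
      induction k with
      | zero => intro w; rfl
      | succ k ih =>
        intro w
        rw [pow_succ', pow_succ', Module.End.mul_apply, ← ih]
        rfl
    have hf : f ^ p ^ k = 1 := by
      funext w
      apply Subtype.ext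
      rw [hfk, ← map_pow, hs, map_one]
      rfl
    have hft : Fintype (K (en Q y)) := Fintype.ofFinite _
    have h2 := Equiv.Perm.card_fixedPoints_modEq (p := p) (n := k) hf
    have h3 : p ∣ Fintype.card (K (en Q y)) := by
      rw [← Nat.card_eq_fintype_card, Module.natCard_eq_pow_finrank (K := F)]
      refine dvd_pow (dvd_card_F hpF) fun h0 => hK0 (Submodule.finrank_eq_zero.1 h0)
    have h4 : p ∣ Fintype.card (Function.fixedPoints f) :=
      Nat.modEq_zero_iff_dvd.1 (h2.symm.trans (Nat.modEq_zero_iff_dvd.2 h3))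
    have h0 : (0 : K (en Q y)) ∈ Function.fixedPoints f := Subtype.ext (map_zero (en Q s))
    have h5 : 1 < Fintype.card (Function.fixedPoints f) :=
      lt_of_lt_of_le hp.out.one_lt (Nat.le_of_dvd (Fintype.card_pos_iff.2 ⟨⟨_, h0⟩⟩) h4)
    obtain ⟨⟨⟨w, hw⟩, hfw⟩, hne⟩ := Fintype.exists_ne_of_one_lt_card h5 (⟨0, h0⟩ : Function.fixedPoints f)
    exact ⟨w, hw, fun h => hne (Subtype.ext (Subtype.ext h)), congrArg Subtype.val hfw⟩
  -- `dim R s ≤ 1`
  have h2 : R (en Q y) ⊔ Submodule.span F {w} ≤ K (en Q s) := by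
    refine sup_le (fun u hu => mem_K.2 (htriv u hu)) ?_
    rw [Submodule.span_singleton_le_iff_mem]
    exact mem_K.2 hsw
  have h3 : R (en Q y) ⊓ Submodule.span F {w} = ⊥ := by
    rw [eq_bot_iff]
    rintro x ⟨hx, hx'⟩
    obtain ⟨c, rfl⟩ := Submodule.mem_span_singleton.1 hx'
    exact eq_zero_of_mem hy' hlF (mem_K.1 (Submodule.smul_mem _ c hw)) hx
  have h4 := Submodule.finrank_sup_add_finrank_inf_eq (R (en Q y)) (Submodule.span F {w})
  rw [h3, finrank_bot, finrank_span_singleton hw0] at h4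
  have h5 := Submodule.finrank_mono h2
  have h6 := finrank_add (en Q s)
  have h7 := finrank_add (en Q y)
  have h8 := hpar s
  have h9 : finrank F (R (en Q s)) = 0 := by
    rw [Nat.even_iff] at h8
    omega
  rw [Submodule.finrank_eq_zero, R_eq_bot] at h9
  exact en_injective (h9.trans (map_one _).symm)

/-- `R y` irreducible -/
theorem triv_irr [Finite F] {y : ↥(E Q)} (hirr : Irr (en Q y) (R (en Q y))) {p k : ℕ} [hp : Fact p.Prime]
    (hpF : (p : F) = 0) {s : ↥(E Q)} (hs : s ^ p ^ k = 1) (hsy : s * y = y * s) :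
    ∀ w ∈ R (en Q y), en Q s w = w := by
  refine triv_of_irr (y := en Q y) (k := k) (fun w hw => R_inv rfl hw) hirr
    (fun w hw => R_inv (by rw [← map_mul, hsy, map_mul]) hw) (fun w _ => ?_) hpF (fun w _ => ?_)
  · rw [← Module.End.mul_apply, ← Module.End.mul_apply, ← map_mul, ← map_mul, hsy]
  · rw [← map_pow, hs, map_one]
    rfl

/-- `R y = U ⊕ U'` -/
theorem triv_split [Finite F] (hG : Good Q) {l d : ℕ} [hl : Fact l.Prime] (hl2 : l ≠ 2) (hlF : (l : F) ≠ 0)
    {y : ↥(E Q)} (hy : y ^ l = 1) (hd : Ordd l (Nat.card F) d) (hdo : Odd d) {U U' : Submodule F V}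
    (h : Split Q y d U U') {p k : ℕ} [hp : Fact p.Prime]
    (hpF : (p : F) = 0) {s : ↥(E Q)} (hs : s ^ p ^ k = 1) (hsy : s * y = y * s) :
    ∀ w ∈ R (en Q y), en Q s w = w := by
  have hd0 := hdo.pos
  have hy' : en Q y ^ l = 1 := by rw [← map_pow, hy, map_one]
  have key : ∀ U U' : Submodule F V, Split Q y d U U' → ∀ w ∈ U, en Q s w = w := by
    intro U U' h
    refine triv_of_irr (y := en Q y) (k := k) h.inv (irr_of_lt hd hlF hy' h.le h.inv (by rw [h.dim]; omega))
      (h.comm_inv hG hl2 hlF hy hd hdo hsy) (fun w _ => ?_) hpF (fun w _ => ?_)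
    · rw [← Module.End.mul_apply, ← Module.End.mul_apply, ← map_mul, ← map_mul, hsy]
    · rw [← map_pow, hs, map_one]
      rfl
  intro w hw
  rw [← h.sup] at hw
  obtain ⟨a, ha, c, hc, rfl⟩ := Submodule.mem_sup.1 hw
  rw [map_add, key U U' h a ha, key U' U h.symm c hc]

/-- no `p`-element in the centraliser -/
theorem v_centralizer_zero (hG : Good Q) {l : ℕ} [hl : Fact l.Prime] (hl2 : l ≠ 2) {y : ↥(E Q)} (hy : y ^ l = 1)
    {p : ℕ} [hp : Fact p.Prime] (hpF : (p : F) = 0) (h : ∀ s : ↥(E Q), s ^ p = 1 → s * y = y * s → s = 1) :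
    v p (Subgroup.centralizer ({(QuotientGroup.mk y : P Q)} : Set (P Q))) = 0 := by
  have hfin : Finite ↥(E Q) := finite_E
  apply v_eq_zero
  intro hd
  obtain ⟨⟨x, hxc⟩, hx⟩ := exists_prime_orderOf_dvd_card' p hd
  rw [Subgroup.orderOf_mk] at hx
  obtain ⟨s, hs, rfl⟩ := lift_char hG (two_or_of_char hpF) (by rw [← hx, pow_orderOf_eq_one] : x ^ p = 1)
  have h1 := (comm_of_mk hG (hl.out.odd_of_ne_two hl2) hy ((Subgroup.mem_centralizer_singleton_iff).1 hxc).symm).symm
  rw [h s hs h1, QuotientGroup.mk_one, orderOf_one] at hx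
  exact hp.out.one_lt.ne hx

/-- **`NoOdd` from `pcent`.** -/
theorem noOdd_of_comm (hG : Good Q) {r s : ℕ} [hr : Fact r.Prime] [hs : Fact s.Prime] (hr2 : r ≠ 2) (hs2 : s ≠ 2)
    (hrs : r ≠ s) (hrF : (r : F) ≠ 0) (hsF : (s : F) ≠ 0) (hVr : finrank F V < 2 * r) (hVs : finrank F V < 2 * s)
    (h : ∀ y z : ↥(E Q), y ^ r = 1 → y ≠ 1 → z ^ s = 1 → z ≠ 1 → z * y ≠ y * z) : NoOdd (P Q) r s := by
  have hfin : Finite ↥(E Q) := finite_E
  have key : ∀ {r s : ℕ} [hr : Fact r.Prime] [hs : Fact s.Prime], r ≠ 2 → s ≠ 2 → r ≠ s → (r : F) ≠ 0 →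
      finrank F V < 2 * s → (∀ y z : ↥(E Q), y ^ r = 1 → y ≠ 1 → z ^ s = 1 → z ≠ 1 → z * y ≠ y * z) →
      ∀ X : Subgroup (P Q), IsPGroup r X → X ≠ ⊥ → ¬ s ∣ Nat.card (Subgroup.normalizer (X : Set (P Q))) := by
    intro r s hr hs hr2 hs2 hrs hrF hVs h X hX hX1 hd
    obtain ⟨⟨x, hxn⟩, hx⟩ := exists_prime_orderOf_dvd_card' s hd
    rw [Subgroup.orderOf_mk] at hx
    obtain ⟨z, hz, rfl⟩ := lift_pow hG x (hs.out.odd_of_ne_two hs2) (by rw [← hx, pow_orderOf_eq_one])
    have hz1 : z ≠ 1 := by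
      rintro rfl
      rw [QuotientGroup.mk_one, orderOf_one] at hx
      exact hs.out.one_lt.ne hx
    have hpc : PCent r (QuotientGroup.mk z : P Q) := pcent hG hr2 hs2 hrs.symm hrF hz hVs
    -- an element of order `r` in `X`
    have : Nontrivial X := (Subgroup.nontrivial_iff_ne_bot X).2 hX1
    obtain ⟨k, hk⟩ := IsPGroup.iff_card.1 hX
    have hrd : r ∣ Nat.card X := by
      have h1 : 1 < Nat.card X := Finite.one_lt_card_iff_nontrivial.2 this
      rw [hk] at h1 ⊢
      apply dvd_pow_self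
      rintro rfl
      simp at h1
    obtain ⟨⟨x', hx'X⟩, hx'⟩ := exists_prime_orderOf_dvd_card' r hrd
    rw [Subgroup.orderOf_mk] at hx'
    obtain ⟨y, hy, rfl⟩ := lift_pow hG x' (hr.out.odd_of_ne_two hr2) (by rw [← hx', pow_orderOf_eq_one])
    have hy1 : y ≠ 1 := by
      rintro rfl
      rw [QuotientGroup.mk_one, orderOf_one] at hx'
      exact hr.out.one_lt.ne hx'
    refine h y z hy hy1 hz hz1 ?_
    exact comm_of_mk hG (hs.out.odd_of_ne_two hs2) hz (hpc X hX hxn _ hx'X)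
  refine noOdd_of hr.out hs.out hrs (key hr2 hs2 hrs hrF hVs h) (key hs2 hr2 hrs.symm hsF hVr
    fun y z hy hy1 hz hz1 hc => h z y hz hz1 hy hy1 hc.symm)

end fin

end Cfsg.Agent.H14.PD
end

-- part: H14/PD/Norm
section
/-!
# S4246, rows of the orthogonal groups: normalisers (helper14)

* `norm_pow` : `z` normalises `⟨y⟩` and an irreducible subspace `W` of dimension `e`: `z ^ e` centralises `y`;
* `mem_powers_on` : elements of the same prime order commuting with `y` irreducible on `W` are powers of `y` on `W`.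
-/

set_option autoImplicit false
set_option linter.unusedSectionVars false

namespace Cfsg.Agent.H14.PD

open QuadraticMap Module Polynomial Cfsg.Agent.LieClassical.OrthCore Cfsg.Agent.LieClassical.OrthTrans
open Cfsg.Agent.ClassicalGeometry.OrthSemi Cfsg.Agent.ClassicalGeometry.OrthAut1
open Cfsg.Agent.H200.LinFix Cfsg.Agent.H200.RowOrth Cfsg.Agent.H568
open Cfsg.Agent.H160.PD (v v_mono v_eq_zero v_pos Fx mem_Fx Uniq card_normalizer_dvd)

section lin

variable {F V : Type*} [Field F] [AddCommGroup V] [Module F V]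

theorem conj_pow_end {z zi g : Module.End F V} (hz : zi * z = 1) (hz' : z * zi = 1) (n : ℕ) :
    (z * g * zi) ^ n = z * g ^ n * zi := by
  induction n with
  | zero => rw [pow_zero, pow_zero, mul_one, hz']
  | succ n ih =>
    rw [pow_succ, ih, pow_succ]
    calc z * g ^ n * zi * (z * g * zi) = z * g ^ n * (zi * z) * g * zi := by noncomm_ring
      _ = z * (g ^ n * g) * zi := by rw [hz]; noncomm_ring

theorem aeval_conj {z zi g : Module.End F V} (hz : zi * z = 1) (hz' : z * zi = 1) (P : F[X]) :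
    aeval (z * g * zi) P = z * aeval g P * zi := by
  induction P using Polynomial.induction_on' with
  | add P Q hP hQ => rw [map_add, map_add, hP, hQ, mul_add, add_mul]
  | monomial n a =>
    rw [aeval_monomial, aeval_monomial, conj_pow_end hz hz', ← mul_assoc, ← mul_assoc, Algebra.commutes a z]
    noncomm_ring

theorem norm_pow_top [Finite F] [Finite V] [Nontrivial V] {g : Module.End F V}
    (hirr : ∀ U : Submodule F V, (∀ u ∈ U, g u ∈ U) → U = ⊥ ∨ U = ⊤) {z zi : Module.End F V} (hz : zi * z = 1)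
    (hz' : z * zi = 1) {k : ℕ} (hk : z * g * zi = g ^ k) : g ^ (k ^ finrank F V) = g := by
  have hP : Fact (Irreducible (minpoly F g)) := ⟨irreducible_minpoly hirr⟩
  have hfd : FiniteDimensional F V := finiteDimensional_of_finite
  have hint : IsIntegral F g := Algebra.IsIntegral.isIntegral g
  obtain ⟨w, hw⟩ := _root_.exists_ne (0 : V)
  have hfin : Finite (KK g) := Finite.of_injective _ (phi_bijective hirr w hw).1
  have hnt : Nontrivial (Module.End F V) := Module.End.instNontrivial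
  have hinj : Function.Injective (phi g) := (phi g).toRingHom.injective
  set! x : KK g := AdjoinRoot.root _ with hx
  have hxg : phi g x = g := phi_root
  have hmin : minpoly F x = minpoly F g := by
    rw [hx, AdjoinRoot.minpoly_root (minpoly.ne_zero hint), (minpoly.monic hint).leadingCoeff, inv_one, C_1, mul_one]
  have hroot : aeval (x ^ k) (minpoly F x) = 0 := by
    apply hinj
    rw [map_zero, ← aeval_algHom_apply, map_pow, hxg, hmin, ← hk, aeval_conj hz hz', minpoly.aeval, mul_zero, zero_mul]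
  obtain ⟨σ, hσ⟩ := _root_.minpoly.exists_algEquiv_of_root' (K := F) (L := KK g)
    (Algebra.IsAlgebraic.isAlgebraic x) hroot
  have hσi : ∀ i : ℕ, (σ ^ i) x = x ^ (k ^ i) := by
    intro i
    induction i with
    | zero => rw [pow_zero, pow_zero, pow_one]; rfl
    | succ i ih =>
      rw [pow_succ', AlgEquiv.mul_apply, ih, map_pow, hσ, ← pow_mul, ← pow_succ']
  have hcard : Nat.card Gal(KK g/F) = finrank F V := by
    rw [IsGalois.card_aut_eq_finrank, finrank_KK hirr]
  have h1 : σ ^ finrank F V = 1 := by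
    rw [← hcard]
    exact pow_card_eq_one'
  have h2 := hσi (finrank F V)
  rw [h1] at h2
  change x = _ at h2
  rw [← hxg, ← map_pow, ← h2]

theorem mem_powers_top [Finite F] [Finite V] [Nontrivial V] {g : Module.End F V}
    (hirr : ∀ U : Submodule F V, (∀ u ∈ U, g u ∈ U) → U = ⊥ ∨ U = ⊤) {l : ℕ} [hl : Fact l.Prime] (hg : g ^ l = 1)
    (hg1 : g ≠ 1) {s : Module.End F V} (hs : s * g = g * s) (hsl : s ^ l = 1) : ∃ i : ℕ, s = g ^ i := by
  have hP : Fact (Irreducible (minpoly F g)) := ⟨irreducible_minpoly hirr⟩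
  have hfd : FiniteDimensional F V := finiteDimensional_of_finite
  have hnt : Nontrivial (Module.End F V) := Module.End.instNontrivial
  have hinj : Function.Injective (phi g) := (phi g).toRingHom.injective
  set! x : KK g := AdjoinRoot.root _ with hx
  have hxg : phi g x = g := phi_root
  obtain ⟨t, rfl⟩ := exists_phi hirr hs
  have hxl : x ^ l = 1 := hinj (by rw [map_pow, hxg, hg, map_one])
  have htl : t ^ l = 1 := hinj (by rw [map_pow, hsl, map_one])
  have hx1 : x ≠ 1 := by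
    intro h
    apply hg1
    rw [← hxg, h, map_one]
  have hprim : IsPrimitiveRoot x l := by
    have := IsPrimitiveRoot.orderOf x
    rwa [orderOf_eq_prime hxl hx1] at this
  obtain ⟨i, -, hi⟩ := hprim.eq_pow_of_pow_eq_one htl
  exact ⟨i, by rw [← hi, map_pow, hxg]⟩

end lin

variable {F V : Type*} [Field F] [AddCommGroup V] [Module F V] {Q : QuadraticForm F V}

section fin

variable [Finite V]

theorem restrict_pow_apply {s : Module.End F V} {W : Submodule F V} (hsW : ∀ w ∈ W, s w ∈ W) (n : ℕ) (w : W) :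
    ((((s.restrict hsW) ^ n) w : W) : V) = (s ^ n) w := by
  induction n generalizing w with
  | zero => rfl
  | succ n ih => rw [pow_succ, pow_succ, Module.End.mul_apply, Module.End.mul_apply, ih]; rfl

theorem inv_of_map {z : ↥(E Q)} {W : Submodule F V} (hzW : ∀ w ∈ W, en Q z w ∈ W) : ∀ w ∈ W, en Q z⁻¹ w ∈ W := by
  have hfd : FiniteDimensional F V := inferInstance
  have h1 : W.map (en Q z) = W := by
    apply Submodule.eq_of_le_of_finrank_eq
    · rintro _ ⟨w, hw, rfl⟩
      exact hzW w hw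
    · exact (Submodule.equivMapOfInjective (en Q z) (z : V ≃ₗ[F] V).injective W).symm.finrank_eq
  intro w hw
  rw [← h1] at hw
  obtain ⟨w', hw', rfl⟩ := hw
  rw [← Module.End.mul_apply, ← map_mul, inv_mul_cancel, map_one]
  exact hw'

/-- an element trivial on a nonzero subspace of `R y` is no power `≠ 1` of `y` -/
theorem pow_eq_self_of {l : ℕ} [hl : Fact l.Prime] (hlF : (l : F) ≠ 0) {y : ↥(E Q)} (hy : y ^ l = 1)
    {W : Submodule F V} (hW : W ≤ R (en Q y)) (hW0 : W ≠ ⊥) {m : ℕ} (hm : ∀ w ∈ W, en Q (y ^ m) w = en Q y w) :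
    y ^ m = y := by
  by_cases hy1 : y = 1
  · rw [hy1, one_pow]
  have ho : orderOf y = l := orderOf_eq_prime hy hy1
  have hy' : en Q y ^ l = 1 := by rw [← map_pow, hy, map_one]
  have h1 : m ≡ 1 [MOD l] := by
    by_contra hne
    obtain ⟨w, hw, hw0⟩ := Submodule.exists_mem_ne_zero_of_ne_bot hW0
    apply hw0
    -- `y ^ j w = w` with `j` prime to `l`
    obtain ⟨j, hj, hjw⟩ : ∃ j : ℕ, ¬ l ∣ j ∧ (en Q y ^ j) w = w := by
      have h2 : (en Q y ^ m) w = (en Q y ^ 1) w := by rw [← map_pow, hm w hw, pow_one]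
      have hinj : ∀ i : ℕ, Function.Injective ⇑(en Q y ^ i) := fun i => by
        rw [← map_pow]
        exact ((y ^ i : ↥(E Q)) : V ≃ₗ[F] V).injective
      rcases le_total 1 m with h | h
      · refine ⟨m - 1, fun hd => hne ((Nat.modEq_iff_dvd' h).2 hd).symm, ?_⟩
        apply hinj 1
        rw [← Module.End.mul_apply, ← pow_add, Nat.add_sub_cancel' h, h2]
      · refine ⟨1 - m, fun hd => hne ((Nat.modEq_iff_dvd' h).2 hd), ?_⟩
        apply hinj m
        rw [← Module.End.mul_apply, ← pow_add, Nat.add_sub_cancel' h, h2]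
    refine eq_zero_of_mem hy' hlF ?_ (hW hw)
    exact fix_of_coprime hjw (by rw [hy']; rfl) ((Nat.Prime.coprime_iff_not_dvd hl.out).2 hj).symm
  have h2 := (pow_eq_pow_iff_modEq (x := y) (n := m) (m := 1)).2 (by rw [ho]; exact h1)
  rwa [pow_one] at h2

/-- **A power of an element normalising `⟨y⟩` centralises `y`.** -/
theorem norm_pow [Finite F] {l : ℕ} [hl : Fact l.Prime] (hlF : (l : F) ≠ 0) {y z : ↥(E Q)} (hy : y ^ l = 1) {k : ℕ}
    (hk : z * y * z⁻¹ = y ^ k) {W : Submodule F V} (hW : W ≤ R (en Q y)) (hW0 : W ≠ ⊥)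
    (hyW : ∀ w ∈ W, en Q y w ∈ W) (hirr : Irr (en Q y) W) (hzW : ∀ w ∈ W, en Q z w ∈ W) :
    z ^ finrank F W * y = y * z ^ finrank F W := by
  have hfd : FiniteDimensional F V := inferInstance
  have hn : Nontrivial W := Submodule.nontrivial_iff_ne_bot.2 hW0
  have hziW := inv_of_map hzW
  have hmul : ∀ a b : ↥(E Q), ∀ w : V, en Q a (en Q b w) = en Q (a * b) w := fun a b w => by
    rw [map_mul, Module.End.mul_apply]
  have h1 : (en Q z⁻¹).restrict hziW * (en Q z).restrict hzW = 1 := by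
    ext ⟨w, hw⟩
    change en Q z⁻¹ (en Q z w) = w
    rw [hmul, inv_mul_cancel, map_one]; rfl
  have h2 : (en Q z).restrict hzW * (en Q z⁻¹).restrict hziW = 1 := by
    ext ⟨w, hw⟩
    change en Q z (en Q z⁻¹ w) = w
    rw [hmul, mul_inv_cancel, map_one]; rfl
  have h3 : (en Q z).restrict hzW * (en Q y).restrict hyW * (en Q z⁻¹).restrict hziW = ((en Q y).restrict hyW) ^ k := by
    ext ⟨w, hw⟩
    rw [restrict_pow_apply, ← map_pow, ← hk]
    change en Q z (en Q y (en Q z⁻¹ w)) = _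
    rw [hmul, hmul, mul_assoc]
  have h4 := norm_pow_top (hirr.restrict hyW) h1 h2 h3
  have h5 : y ^ (k ^ finrank F W) = y := by
    refine pow_eq_self_of hlF hy hW hW0 fun w hw => ?_
    have h6 := congrArg Subtype.val (LinearMap.congr_fun h4 ⟨w, hw⟩)
    rw [restrict_pow_apply, ← map_pow] at h6
    exact h6
  have h6 : ∀ i : ℕ, z ^ i * y = y ^ (k ^ i) * z ^ i := by
    have h0 : ∀ n, z * y ^ n = y ^ (k * n) * z := by
      intro n
      rw [pow_mul, ← hk, conj_pow, mul_assoc, mul_assoc, inv_mul_cancel, mul_one]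
    intro i
    induction i with
    | zero => rw [pow_zero, pow_zero, one_mul, mul_one, pow_one]
    | succ i ih => rw [pow_succ', mul_assoc, ih, ← mul_assoc, h0, ← pow_succ', mul_assoc]
  rw [h6, h5]

/-- elements of order `l` commuting with `y` -/
theorem mem_powers_on [Finite F] {l : ℕ} [hl : Fact l.Prime] (hlF : (l : F) ≠ 0) {y s : ↥(E Q)} (hy : y ^ l = 1)
    {W : Submodule F V} (hW : W ≤ R (en Q y)) (hW0 : W ≠ ⊥)
    (hyW : ∀ w ∈ W, en Q y w ∈ W) (hirr : Irr (en Q y) W) (hsW : ∀ w ∈ W, en Q s w ∈ W) (hs : s * y = y * s)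
    (hsl : s ^ l = 1) : ∃ i : ℕ, ∀ w ∈ W, en Q s w = en Q (y ^ i) w := by
  have hfd : FiniteDimensional F V := inferInstance
  have hn : Nontrivial W := Submodule.nontrivial_iff_ne_bot.2 hW0
  have hmul : ∀ a b : ↥(E Q), ∀ w : V, en Q a (en Q b w) = en Q (a * b) w := fun a b w => by
    rw [map_mul, Module.End.mul_apply]
  have hpow : ∀ (a : ↥(E Q)) (haW : ∀ w ∈ W, en Q a w ∈ W), a ^ l = 1 → ((en Q a).restrict haW) ^ l = 1 := by
    intro a haW ha
    ext ⟨w, hw⟩
    rw [restrict_pow_apply, ← map_pow, ha, map_one]; rfl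
  have hy' : en Q y ^ l = 1 := by rw [← map_pow, hy, map_one]
  have hne : (en Q y).restrict hyW ≠ 1 := by
    intro h
    obtain ⟨w, hw, hw0⟩ := Submodule.exists_mem_ne_zero_of_ne_bot hW0
    apply hw0
    refine eq_zero_of_mem hy' hlF ?_ (hW hw)
    exact congrArg Subtype.val (LinearMap.congr_fun h ⟨w, hw⟩)
  obtain ⟨i, hi⟩ := mem_powers_top (hirr.restrict hyW) (hpow y hyW hy) hne (s := (en Q s).restrict hsW) (by
    ext ⟨w, hw⟩
    change en Q s (en Q y w) = en Q y (en Q s w)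
    rw [hmul, hmul, hs]) (hpow s hsW hsl)
  refine ⟨i, fun w hw => ?_⟩
  have h6 := congrArg Subtype.val (LinearMap.congr_fun hi ⟨w, hw⟩)
  rw [restrict_pow_apply, ← map_pow] at h6
  exact h6

/-- normalising elements of `P Q` -/
theorem exists_conj_pow (hG : Good Q) {l : ℕ} [hl : Fact l.Prime] (hl2 : l ≠ 2) {y : ↥(E Q)} (hy : y ^ l = 1)
    {z : ↥(E Q)} (hz : (QuotientGroup.mk z : P Q) ∈
      Subgroup.normalizer ((Subgroup.zpowers (QuotientGroup.mk y : P Q) : Subgroup (P Q)) : Set (P Q))) :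
    ∃ k : ℕ, z * y * z⁻¹ = y ^ k := by
  have hlo := hl.out.odd_of_ne_two hl2
  have hfin : Finite ↥(E Q) := finite_E
  have h1 : (QuotientGroup.mk z : P Q) * QuotientGroup.mk y * (QuotientGroup.mk z)⁻¹ ∈
      Subgroup.zpowers (QuotientGroup.mk y : P Q) :=
    (Subgroup.mem_normalizer_iff.1 hz _).1 (Subgroup.mem_zpowers _)
  obtain ⟨k, hk⟩ := (mem_powers_iff_mem_zpowers (x := (QuotientGroup.mk y : P Q))).2 h1
  refine ⟨k, ?_⟩
  have h2 : (y ^ k)⁻¹ * (z * y * z⁻¹) ∈ Subgroup.center ↥(E Q) := by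
    rw [← QuotientGroup.eq]
    exact hk
  set! c := (y ^ k)⁻¹ * (z * y * z⁻¹) with hc; rewrite [← hc] at h2
  have h3 : z * y * z⁻¹ = y ^ k * c := by rw [hc]; group
  have h4 : c ^ l = 1 := by
    have h5 : (y ^ k * c) ^ l = 1 := by rw [← h3, conj_pow, hy, mul_one, mul_inv_cancel]
    have h6 : Commute (y ^ k) c := Subgroup.mem_center_iff.1 h2 (y ^ k)
    rwa [h6.mul_pow, ← pow_mul, mul_comm k l, pow_mul, hy, one_pow, one_mul] at h5
  rw [h3, center_pow_odd hG h2 hlo h4, mul_one]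

/-- the normaliser of a subgroup of prime order of `P Q` -/
theorem v_normalizer_le (hG : Good Q) {l : ℕ} [hl : Fact l.Prime] (hl2 : l ≠ 2) {y : ↥(E Q)} (hy : y ^ l = 1)
    (hy1 : y ≠ 1) {n : ℕ} (hn : n ≠ 0) (h : ∀ z : ↥(E Q), ∀ k : ℕ, z * y * z⁻¹ = y ^ k → z ^ n * y = y * z ^ n) (p : ℕ) :
    v p (Subgroup.normalizer ((Subgroup.zpowers (QuotientGroup.mk y : P Q) : Subgroup (P Q)) : Set (P Q))) ≤
      v p (Subgroup.centralizer ({(QuotientGroup.mk y : P Q)} : Set (P Q))) + n.factorization p := by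
  have hfin : Finite ↥(E Q) := finite_E
  have hlo := hl.out.odd_of_ne_two hl2
  have h1 := card_normalizer_dvd hl.out (x := (QuotientGroup.mk y : P Q)) (orderOf_mk hG hlo hy hy1) (n := n) (by
    intro x hx
    obtain ⟨z, rfl⟩ := QuotientGroup.mk_surjective x
    obtain ⟨k, hk⟩ := exists_conj_pow hG hl2 hy hx
    rw [Subgroup.mem_centralizer_singleton_iff]
    exact congrArg (QuotientGroup.mk' (Subgroup.center ↥(E Q))) (h z k hk))
  have h2 := (Nat.factorization_le_iff_dvd Nat.card_pos.ne' (mul_ne_zero Nat.card_pos.ne' hn)).2 h1 p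
  rwa [Nat.factorization_mul Nat.card_pos.ne' hn, Finsupp.add_apply] at h2

theorem R_norm {y z : ↥(E Q)} {k : ℕ} (hk : z * y * z⁻¹ = y ^ k) : ∀ w ∈ R (en Q y), en Q z w ∈ R (en Q y) := by
  rintro _ ⟨w, rfl⟩
  have h1 : en Q z (en Q y w) = en Q (y ^ k) (en Q z w) := by
    rw [← Module.End.mul_apply, ← Module.End.mul_apply, ← map_mul, ← map_mul, ← hk, mul_assoc (z * y), inv_mul_cancel,
      mul_one]
  have h2 : ∀ (i : ℕ) (u : V), en Q (y ^ i) u - u ∈ R (en Q y) := by
    intro i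
    induction i with
    | zero =>
      intro u
      rw [pow_zero, map_one, Module.End.one_apply, sub_self]
      exact Submodule.zero_mem _
    | succ i ih =>
      intro u
      have h3 : en Q (y ^ (i + 1)) u - u = (en Q (y ^ i) (en Q y u) - en Q y u) + (en Q y u - u) := by
        rw [pow_succ, map_mul, Module.End.mul_apply]
        abel
      rw [h3]
      exact Submodule.add_mem _ (ih _) (sub_mem_R (en Q y) u)
  change en Q z (en Q y w - w) ∈ _
  rw [map_sub, h1]
  exact h2 k _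

/-- `R y` irreducible of dimension `e` -/
theorem norm_pow_irr [Finite F] {l : ℕ} [hl : Fact l.Prime] (hlF : (l : F) ≠ 0) {y z : ↥(E Q)} (hy : y ^ l = 1)
    (hy1 : y ≠ 1) {k : ℕ} (hk : z * y * z⁻¹ = y ^ k) (hirr : Irr (en Q y) (R (en Q y))) :
    z ^ finrank F (R (en Q y)) * y = y * z ^ finrank F (R (en Q y)) := by
  refine norm_pow hlF hy hk le_rfl ?_ (fun w hw => R_inv rfl hw) hirr (R_norm hk)
  intro h
  rw [R_eq_bot] at h
  exact hy1 (en_injective (h.trans (map_one _).symm))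

/-- `R y = U ⊕ U'` -/
theorem norm_pow_split [Finite F] {l d : ℕ} [hl : Fact l.Prime] (hlF : (l : F) ≠ 0) {y z : ↥(E Q)} (hy : y ^ l = 1)
    (hd : Ordd l (Nat.card F) d) (hd0 : 0 < d) {U U' : Submodule F V}
    (h : Split Q y d U U') {k : ℕ} (hk : z * y * z⁻¹ = y ^ k) : z ^ (2 * d) * y = y * z ^ (2 * d) := by
  have hfd : FiniteDimensional F V := inferInstance
  have hy' : en Q y ^ l = 1 := by rw [← map_pow, hy, map_one]
  have hU0 : ∀ U U' : Submodule F V, Split Q y d U U' → U ≠ ⊥ := by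
    rintro U U' h rfl
    have := h.dim
    rw [finrank_bot] at this
    omega
  have hinj : Function.Injective (en Q z) := (z : V ≃ₗ[F] V).injective
  have hfr : finrank F (R (en Q y)) = 2 * d := by
    have h1 := Submodule.finrank_sup_add_finrank_inf_eq U U'
    rw [h.sup, h.inf, finrank_bot, h.dim, h.dim'] at h1
    omega
  by_cases hl1 : y = 1
  · rw [hl1, mul_one, one_mul]
  have ho : orderOf y = l := orderOf_eq_prime hy hl1
  -- `y` is a power of `y ^ k`
  obtain ⟨j, hj⟩ : ∃ j : ℕ, (y ^ k) ^ j = y := by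
    have h1 : y ^ k ≠ 1 := by
      rw [← hk]
      intro h0
      apply hl1
      have h2 : y = z⁻¹ * (z * y * z⁻¹) * z := by group
      rw [h2, h0]
      group
    have h2 : k.Coprime l := by
      rw [Nat.coprime_comm, Nat.Prime.coprime_iff_not_dvd hl.out]
      intro h0
      exact h1 (orderOf_dvd_iff_pow_eq_one.1 (ho ▸ h0))
    obtain ⟨j, -, hj⟩ := Nat.exists_mul_mod_eq_one_of_coprime h2 hl.out.one_lt
    refine ⟨j, ?_⟩
    rw [← pow_mul]
    have h3 := (pow_eq_pow_iff_modEq (x := y) (n := k * j) (m := 1)).2 (by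
      rw [ho]
      unfold Nat.ModEq
      rw [hj, Nat.mod_eq_of_lt hl.out.one_lt])
    rwa [pow_one] at h3
  have hmap : ∀ U : Submodule F V, U ≤ R (en Q y) → (∀ w ∈ U, en Q y w ∈ U) →
      U.map (en Q z) ≤ R (en Q y) ∧ (∀ w ∈ U.map (en Q z), en Q y w ∈ U.map (en Q z)) := by
    intro U hU hyU
    constructor
    · rintro _ ⟨w, hw, rfl⟩
      exact R_norm hk w (hU hw)
    · rintro _ ⟨w, hw, rfl⟩
      refine ⟨en Q (y ^ j) w, ?_, ?_⟩
      · rw [map_pow]
        exact pow_inv_mem hyU j w hw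
      · rw [← Module.End.mul_apply, ← Module.End.mul_apply, ← map_mul, ← map_mul]
        congr 2
        have h1 : z * y ^ j = (z * y * z⁻¹) ^ j * z := by rw [conj_pow]; group
        rw [h1, hk, hj]
  have hdimm : ∀ U : Submodule F V, finrank F (U.map (en Q z)) = finrank F U := fun U =>
    (Submodule.equivMapOfInjective (en Q z) hinj U).symm.finrank_eq
  have hcases : ∀ U U' : Submodule F V, Split Q y d U U' → U.map (en Q z) = U ∨ U.map (en Q z) = U' := by
    intro U U' h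
    obtain ⟨h1, h2⟩ := hmap U h.le h.inv
    have h3 := hdimm U
    rw [h.dim] at h3
    rcases h.all _ h1 h2 with h4 | h4 | h4 | h4
    · rw [h4, finrank_bot] at h3
      omega
    · exact Or.inl h4
    · exact Or.inr h4
    · rw [h4, hfr] at h3
      omega
  have hzz : ∀ w ∈ U, en Q (z ^ 2) w ∈ U := by
    have h1 : (U.map (en Q z)).map (en Q z) = U := by
      rcases hcases U U' h with h2 | h2
      · rw [h2, h2]
      · rcases hcases U' U h.symm with h3 | h3
        · exfalso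
          have h4 : U = U' := Submodule.map_injective_of_injective hinj (h2.trans h3.symm)
          have h5 := h.inf
          rw [← h4, inf_idem] at h5
          exact hU0 U U' h h5
        · rw [h2, h3]
    intro w hw
    rw [pow_two, map_mul, Module.End.mul_apply, ← h1]
    exact ⟨_, ⟨w, hw, rfl⟩, rfl⟩
  have hk2 : z ^ 2 * y * (z ^ 2)⁻¹ = y ^ (k * k) := by
    have h1 : z ^ 2 * y * (z ^ 2)⁻¹ = z * (z * y * z⁻¹) * z⁻¹ := by
      simp only [pow_two, mul_inv_rev, mul_assoc]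
    rw [h1, hk, ← conj_pow, hk, ← pow_mul]
  have h1 := norm_pow hlF hy hk2 h.le (hU0 U U' h) h.inv (irr_of_lt hd hlF hy' h.le h.inv (by rw [h.dim]; omega)) hzz
  rw [h.dim, ← pow_mul] at h1
  exact h1

end fin

end Cfsg.Agent.H14.PD
end

-- part: H14/PD/Plus
section
/-!
# S4246, row of `POmega^+_{2n}(q)`: the elements of order `r₀` and `r₁` (helper14)

`Plus Q n p f` : a nondegenerate quadratic form of dimension `2 n ≥ 8` and plus type over the field with `p ^ f`
elements. `Odg n d` : `d` is the odd one of `n`, `n - 1`.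
-/

set_option autoImplicit false
set_option linter.unusedSectionVars false

namespace Cfsg.Agent.H14.PD

open QuadraticMap Module Cfsg.Agent.LieClassical.OrthCore Cfsg.Agent.LieClassical.OrthTrans
open Cfsg.Agent.ClassicalGeometry.OrthSemi Cfsg.Agent.ClassicalGeometry.OrthAut1
open Cfsg.Agent.H200.LinFix Cfsg.Agent.H200.RowOrth Cfsg.Agent.H568
open Cfsg.Agent.H160.PD (v v_mono v_eq_zero v_pos Fx mem_Fx NoOdd noOdd_of)

variable {F V : Type*} [Field F] [AddCommGroup V] [Module F V] {Q : QuadraticForm F V}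

/-- the data of the plus type -/
structure Plus (Q : QuadraticForm F V) (n p f : ℕ) : Prop where
  good : Good Q
  hn : 4 ≤ n
  hV : finrank F V = 2 * n
  hsing : Nat.card {v : V // Q v = 0} = (Nat.card F ^ n - 1) * (Nat.card F ^ (n - 1) + 1) + 1
  hpar : ∀ g : ↥(E Q), Even (finrank F (R (en Q g)))
  prime : p.Prime
  hf : 1 ≤ f
  hF : Nat.card F = p ^ f
  hpF : (p : F) = 0

/-- `d` is odd and `n` or `n - 1` -/
structure Odg (n d : ℕ) : Prop where
  odd : Odd d
  or : d = n ∨ d = n - 1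

variable {n p f d : ℕ}

theorem Plus.dvd_sing (H : Plus Q n p f) : p ∣ Nat.card {w : V // Q w = 0} := by
  have hq : p ∣ Nat.card F := H.hF ▸ dvd_pow_self p (by have := H.hf; omega)
  have hq1 : 1 ≤ Nat.card F := by rw [H.hF]; exact Nat.one_le_pow _ _ H.prime.pos
  have h1 : 1 ≤ Nat.card F ^ n := Nat.one_le_pow _ _ hq1
  have h2 : (Nat.card F ^ n - 1) * (Nat.card F ^ (n - 1) + 1) + 1 + Nat.card F ^ (n - 1) =
      Nat.card F ^ n * (Nat.card F ^ (n - 1) + 1) := by
    obtain ⟨a, ha⟩ : ∃ a, Nat.card F ^ n = a + 1 := ⟨_, (Nat.sub_add_cancel h1).symm⟩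
    rw [ha, Nat.add_sub_cancel]
    ring
  have hn := H.hn
  have h3 : p ∣ Nat.card F ^ (n - 1) := dvd_pow hq (by omega)
  rw [H.hsing]
  refine (Nat.dvd_add_left h3).1 ?_
  rw [h2]
  exact Dvd.dvd.mul_right (dvd_pow hq (by omega)) _

theorem Plus.cast_ne (H : Plus Q n p f) {l e : ℕ} (hl : l.Prime) (he : 1 ≤ e) (h : l ∣ Nat.card F ^ e - 1) : (l : F) ≠ 0 := by
  have := Fact.mk H.prime
  have := Fact.mk hl
  have hc : CharP F p := (CharP.charP_iff_prime_eq_zero H.prime).2 H.hpF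
  refine natCast_ne_of_not_dvd H.prime fun h1 => ?_
  have h2 : l = p := (Nat.prime_dvd_prime_iff_eq hl H.prime).1 h1
  subst h2
  rw [H.hF] at h
  exact Cfsg.Agent.H311.PD.not_dvd_pow_sub_one hl H.hf he h

section fin

variable [Finite V] [Finite F]

/-- an element of order `r₀`: `dim R y` -/
theorem Plus.dim_first (H : Plus Q n p f) {l : ℕ} [hl : Fact l.Prime] (hlF : (l : F) ≠ 0)
    (hd : Ordd l (Nat.card F) (2 * (n - 1))) {y : ↥(E Q)} (hy : y ^ l = 1) (hy1 : y ≠ 1) :
    finrank F (R (en Q y)) = 2 * (n - 1) ∧ finrank F (K (en Q y)) = 2 := by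
  have hfd : FiniteDimensional F V := inferInstance
  have hn := H.hn
  have h1 := finrank_R_eq hd hlF (by rw [H.hV]; omega) hy hy1
  have h2 := finrank_add (en Q y)
  rw [h1, H.hV] at h2
  exact ⟨h1, by omega⟩

theorem Plus.irr_first (H : Plus Q n p f) {l : ℕ} [hl : Fact l.Prime] (hlF : (l : F) ≠ 0)
    (hd : Ordd l (Nat.card F) (2 * (n - 1))) {y : ↥(E Q)} (hy : y ^ l = 1) : Irr (en Q y) (R (en Q y)) := by
  have hn := H.hn
  exact irr_R hd hlF (by rw [H.hV]; omega) hy

theorem Plus.dim_second (H : Plus Q n p f) (hO : Odg n d) {l : ℕ} [hl : Fact l.Prime] (hl2 : l ≠ 2) (hlF : (l : F) ≠ 0)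
    (hd : Ordd l (Nat.card F) d) {y : ↥(E Q)} (hy : y ^ l = 1) (hy1 : y ≠ 1) :
    finrank F (R (en Q y)) = 2 * d ∧ finrank F (K (en Q y)) ≤ 2 := by
  have hfd : FiniteDimensional F V := inferInstance
  have hn := H.hn
  have ho := hO.or
  have h1 := finrank_R_odd H.good hl2 hlF hd hO.odd (by rw [H.hV]; omega) hy hy1
  have h2 := finrank_add (en Q y)
  rw [h1, H.hV] at h2
  exact ⟨h1, by omega⟩

/-- elements of `p`-power order commuting with an element of order `r₀` -/
theorem Plus.comm_first (H : Plus Q n p f) {l : ℕ} [hl : Fact l.Prime] (hlF : (l : F) ≠ 0)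
    (hd : Ordd l (Nat.card F) (2 * (n - 1))) {y : ↥(E Q)} (hy : y ^ l = 1) (hy1 : y ≠ 1) {s : ↥(E Q)} {k : ℕ}
    (hs : s ^ p ^ k = 1) (hsy : s * y = y * s) : s = 1 := by
  have := Fact.mk H.prime
  exact eq_one_of_triv H.hpar hlF hy (H.dim_first hlF hd hy hy1).2.le H.hpF hs hsy
    (triv_irr (H.irr_first hlF hd hy) H.hpF hs hsy)

/-- elements of `p`-power order commuting with an element of order `r₁` -/
theorem Plus.comm_second (H : Plus Q n p f) (hO : Odg n d) {l : ℕ} [hl : Fact l.Prime] (hl2 : l ≠ 2) (hlF : (l : F) ≠ 0)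
    (hd : Ordd l (Nat.card F) d) (hld : l ∣ Nat.card F ^ d - 1) {y : ↥(E Q)} (hy : y ^ l = 1) (hy1 : y ≠ 1)
    {s : ↥(E Q)} {k : ℕ} (hs : s ^ p ^ k = 1) (hsy : s * y = y * s) : s = 1 := by
  have := Fact.mk H.prime
  obtain ⟨h1, h2⟩ := H.dim_second hO hl2 hlF hd hy hy1
  obtain ⟨U, U', hU⟩ := exists_split H.good hl2 hlF hy hd hld hO.odd h1
  exact eq_one_of_triv H.hpar hlF hy h2 H.hpF hs hsy (triv_split H.good hl2 hlF hy hd hO.odd hU H.hpF hs hsy)

theorem Plus.exists_lift (H : Plus Q n p f) {l : ℕ} (hl : l.Prime) (hl2 : l ≠ 2) {x : P Q} (hx : orderOf x = l) :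
    ∃ y : ↥(E Q), y ^ l = 1 ∧ y ≠ 1 ∧ (QuotientGroup.mk y : P Q) = x := by
  obtain ⟨y, hy, rfl⟩ := lift_pow H.good x (hl.odd_of_ne_two hl2) (by rw [← hx, pow_orderOf_eq_one])
  refine ⟨y, hy, ?_, rfl⟩
  rintro rfl
  rw [QuotientGroup.mk_one, orderOf_one] at hx
  exact hl.one_lt.ne hx

theorem Plus.cent_first (H : Plus Q n p f) {l : ℕ} (hl : l.Prime) (hl2 : l ≠ 2) (hlF : (l : F) ≠ 0)
    (hd : Ordd l (Nat.card F) (2 * (n - 1))) {x : P Q} (hx : orderOf x = l) :
    v p (Subgroup.centralizer ({x} : Set (P Q))) = 0 := by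
  have := Fact.mk hl
  have := Fact.mk H.prime
  obtain ⟨y, hy, hy1, rfl⟩ := H.exists_lift hl hl2 hx
  exact v_centralizer_zero H.good hl2 hy H.hpF fun s hs hsy =>
    H.comm_first hlF hd hy hy1 (k := 1) (by rwa [pow_one]) hsy

theorem Plus.cent_second (H : Plus Q n p f) (hO : Odg n d) {l : ℕ} (hl : l.Prime) (hl2 : l ≠ 2) (hlF : (l : F) ≠ 0)
    (hd : Ordd l (Nat.card F) d) (hld : l ∣ Nat.card F ^ d - 1) {x : P Q} (hx : orderOf x = l) :
    v p (Subgroup.centralizer ({x} : Set (P Q))) = 0 := by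
  have := Fact.mk hl
  have := Fact.mk H.prime
  obtain ⟨y, hy, hy1, rfl⟩ := H.exists_lift hl hl2 hx
  exact v_centralizer_zero H.good hl2 hy H.hpF fun s hs hsy =>
    H.comm_second hO hl2 hlF hd hld hy hy1 (k := 1) (by rwa [pow_one]) hsy

/-- **`NoOdd`** -/
theorem Plus.noOdd (H : Plus Q n p f) (hO : Odg n d) {l₀ l₁ : ℕ} (h₀ : l₀.Prime) (h₀2 : l₀ ≠ 2) (h₀F : (l₀ : F) ≠ 0)
    (hd₀ : Ordd l₀ (Nat.card F) (2 * (n - 1))) (hld₀ : l₀ ∣ Nat.card F ^ (n - 1) + 1) (hle₀ : finrank F V < 2 * l₀)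
    (h₁ : l₁.Prime) (h₁2 : l₁ ≠ 2) (h₁F : (l₁ : F) ≠ 0)
    (hd₁ : Ordd l₁ (Nat.card F) d) (hld₁ : l₁ ∣ Nat.card F ^ d - 1) (hle₁ : finrank F V < 2 * l₁) :
    NoOdd (P Q) l₀ l₁ := by
  have := Fact.mk h₀
  have := Fact.mk h₁
  have hn := H.hn
  have ho := hO.or
  have hne : l₀ ≠ l₁ := by
    rintro rfl
    exact arith_plus h₀2 (by omega) Nat.card_pos hO.odd hO.or hld₀ hld₁
  refine noOdd_of_comm H.good h₀2 h₁2 hne h₀F h₁F hle₀ hle₁ fun y z hy hy1 hz hz1 hzy => ?_
  rcases plus_first H.good h₁2 h₁F hn H.hV h₀2 h₀F hd₀ hy hy1 hz hz1 hzy with ⟨-, h1⟩ | ⟨-, h1⟩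
  · have h2 := (H.dim_second hO h₁2 h₁F hd₁ hz hz1).1
    omega
  · exact arith_plus h₁2 (by omega) Nat.card_pos hO.odd hO.or h1 hld₁

/-- **`Inc`** for inner automorphisms -/
theorem Plus.inc_inner (H : Plus Q n p f) (hO : Odg n d) {l₀ l₁ : ℕ} [h₀ : Fact l₀.Prime] (h₀2 : l₀ ≠ 2)
    (h₀F : (l₀ : F) ≠ 0)
    (hd₀ : Ordd l₀ (Nat.card F) (2 * (n - 1))) (hld₀ : l₀ ∣ Nat.card F ^ (n - 1) + 1)
    [h₁ : Fact l₁.Prime] (h₁2 : l₁ ≠ 2) (h₁F : (l₁ : F) ≠ 0)
    (hd₁ : Ordd l₁ (Nat.card F) d) (hld₁ : l₁ ∣ Nat.card F ^ d - 1) {y z s : ↥(E Q)} (hy : y ^ l₀ = 1) (hy1 : y ≠ 1)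
    (hz : z ^ l₁ = 1) (hz1 : z ≠ 1) {t : ℕ} (ht : t.Prime) (ht2 : t ≠ 2) (hs : s ^ t = 1) (hs1 : s ≠ 1)
    (hsy : s * y = y * s) (hsz : s * z = z * s) : False := by
  have htF := Fact.mk ht
  have hn := H.hn
  have ho := hO.or
  by_cases htc : (t : F) = 0
  · have := Fact.mk H.prime
    have hc : CharP F p := (CharP.charP_iff_prime_eq_zero H.prime).2 H.hpF
    have htp : t = p := by
      rw [CharP.cast_eq_zero_iff F p] at htc
      exact ((Nat.prime_dvd_prime_iff_eq H.prime ht).1 htc).symm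
    subst htp
    exact hs1 (H.comm_first h₀F hd₀ hy hy1 (k := 1) (by rwa [pow_one]) hsy)
  rcases plus_first H.good ht2 htc hn H.hV h₀2 h₀F hd₀ hy hy1 hs hs1 hsy with ⟨e1, e2⟩ | ⟨e1, e2⟩ <;>
  rcases plus_second H.good ht2 htc hn H.hV hO.odd hO.or h₁2 h₁F hd₁ hld₁ hz hz1 hs hs1 hsz with
    ⟨g1, g2, g3⟩ | ⟨g1, g2⟩
  · subst g3
    obtain ⟨w, hw, hw0, hQw⟩ := sing_K (by omega) H.hsing h₁2 hd₁ hld₁ hz
    rw [← g1, e1] at hw
    exact hw0 (no_sing_K H.good (by omega) H.hV H.hsing h₀2 h₀F hd₀ hld₀ hy hy1 hw hQw)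
  · have h3 : 3 ≤ d := by omega
    omega
  · omega
  · exact arith_plus ht2 (by omega) Nat.card_pos hO.odd hO.or e2 g2

end fin

end Cfsg.Agent.H14.PD
end

-- part: H14/PD/Fix
section
/-!
# S4246, rows of the orthogonal groups: `p`-subgroups commuting with or normalised by an element of prime order
(helper14)
-/

set_option autoImplicit false
set_option linter.unusedSectionVars false

namespace Cfsg.Agent.H14.PD

open QuadraticMap Module Cfsg.Agent.LieClassical.OrthCore Cfsg.Agent.LieClassical.OrthTrans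
open Cfsg.Agent.ClassicalGeometry.OrthSemi Cfsg.Agent.ClassicalGeometry.OrthAut1
open Cfsg.Agent.H200.LinFix Cfsg.Agent.H200.RowOrth Cfsg.Agent.H568
open Cfsg.Agent.H160.PD (v v_mono v_eq_zero v_pos Fx mem_Fx NoOdd noOdd_of)

variable {F V : Type*} [Field F] [AddCommGroup V] [Module F V] {Q : QuadraticForm F V}

/-- the fixed vectors -/
def fixS (X : Subgroup ↥(E Q)) : Submodule F V where
  carrier := {w | ∀ g ∈ X, en Q g w = w}
  add_mem' := fun {a b} ha hb g hg => by rw [map_add, ha g hg, hb g hg]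
  zero_mem' := fun g _ => map_zero _
  smul_mem' := fun c v hv g hg => by rw [map_smul, hv g hg]

theorem fixS_inv {X : Subgroup ↥(E Q)} {y : ↥(E Q)} (hy : ∀ g ∈ X, y⁻¹ * g * y ∈ X) {w : V} (hw : w ∈ fixS X) :
    en Q y w ∈ fixS X := by
  intro g hg
  have h3 := hw _ (hy g hg)
  have h4 : g * y = y * (y⁻¹ * g * y) := by group
  rw [← Module.End.mul_apply, ← map_mul, h4, map_mul, Module.End.mul_apply, h3]

section fin

variable [Finite V]

/-- a `p`-group has a nonzero fixed vector in each invariant subspace -/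
theorem exists_fix {p : ℕ} [hp : Fact p.Prime] [Finite F] (hpF : (p : F) = 0) {X : Subgroup ↥(E Q)}
    (hX : IsPGroup p X) {W : Submodule F V} (hW : W ≠ ⊥) (hXW : ∀ g ∈ X, ∀ w ∈ W, en Q g w ∈ W) :
    ∃ w ∈ W, w ≠ 0 ∧ w ∈ fixS X := by
  classical
  have hfd : FiniteDimensional F V := inferInstance
  let act : MulAction ↥X W :=
    { smul := fun g w => ⟨en Q (g : ↥(E Q)) w, hXW g g.2 w w.2⟩
      one_smul := fun w => Subtype.ext rfl
      mul_smul := fun g h w => Subtype.ext rfl }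
  have h1 := hX.card_modEq_card_fixedPoints W
  have hpW : p ∣ Nat.card W := by
    rw [Module.natCard_eq_pow_finrank (K := F)]
    refine dvd_pow (dvd_card_F hpF) fun h0 => hW (Submodule.finrank_eq_zero.1 h0)
  have h2 : p ∣ Nat.card (MulAction.fixedPoints ↥X W) :=
    Nat.modEq_zero_iff_dvd.1 (h1.symm.trans (Nat.modEq_zero_iff_dvd.2 hpW))
  have h0 : (0 : W) ∈ MulAction.fixedPoints ↥X W := fun g => Subtype.ext (map_zero (en Q (g : ↥(E Q))))
  have h3 : 0 < Nat.card (MulAction.fixedPoints ↥X W) := Nat.card_pos_iff.2 ⟨⟨⟨_, h0⟩⟩, inferInstance⟩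
  have h4 : 1 < Nat.card (MulAction.fixedPoints ↥X W) := lt_of_lt_of_le hp.out.one_lt (Nat.le_of_dvd h3 h2)
  have h5 : Nontrivial (MulAction.fixedPoints ↥X W) := Finite.one_lt_card_iff_nontrivial.1 h4
  obtain ⟨⟨⟨u, hu⟩, hfix⟩, hne⟩ := _root_.exists_ne (⟨_, h0⟩ : MulAction.fixedPoints ↥X W)
  refine ⟨u, hu, fun h => hne (Subtype.ext (Subtype.ext h)), fun g hg => ?_⟩
  exact congrArg Subtype.val (hfix ⟨g, hg⟩)

theorem finrank_perp [FiniteDimensional F V] (hG : Good Q) (D : Submodule F V) :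
    finrank F (LinearMap.BilinForm.orthogonal (polarBilin Q) D) + finrank F D = finrank F V := by
  have hnd : (polarBilin Q).Nondegenerate := by
    constructor
    · intro v h
      exact polar_nondeg hG v fun u => by rw [polarBilin_apply_apply, polar_comm]; exact h u
    · intro v h
      exact polar_nondeg hG v fun u => h u
  have h1 := LinearMap.BilinForm.finrank_orthogonal hnd D
  have h5 : finrank F D ≤ finrank F V := Submodule.finrank_le _
  omega

/-- `p`-subgroups fixing `u` and acting trivially on `D` modulo a subspace not containing `u` -/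
theorem v_le_of_D (hG : Good Q) {p f : ℕ} [hp : Fact p.Prime] (hF : Nat.card F = p ^ f) (hpF : (p : F) = 0)
    {X : Subgroup ↥(E Q)} (hX : IsPGroup p X) {u : V} (hu : Q u = 0) (hu0 : u ≠ 0)
    (hfix : ∀ g ∈ X, (g : V ≃ₗ[F] V) u = u) {D S₀ : Submodule F V} (huS : u ∉ S₀) (hDu : ∀ w ∈ D, polar Q u w = 0)
    (hD : ∀ g ∈ X, ∀ w ∈ D, (g : V ≃ₗ[F] V) w - w ∈ S₀) : v p X + f * finrank F D ≤ v p ↥(E Q) + f := by
  have hfd : FiniteDimensional F V := inferInstance
  have h1 := enlarge hG hF hpF hX hu hu0 hfix (C := LinearMap.BilinForm.orthogonal (polarBilin Q) D) fun w hw hwX d hd => by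
    have h2 := hD _ hwX d hd
    rw [sg_apply, hDu d hd, mul_zero, zero_smul, zero_smul, add_zero, sub_zero, sub_sub_cancel_left] at h2
    by_contra hne
    apply huS
    have h3 : polar Q w d ≠ 0 := fun h0 => hne (by
      change polar Q d w = 0
      rw [polar_comm]; exact h0)
    have h4 := S₀.smul_mem (-(polar Q w d)⁻¹) h2
    rw [smul_neg, neg_smul, neg_neg, smul_smul, inv_mul_cancel₀ h3, one_smul] at h4
    exact h4
  have h2 := finrank_perp hG D
  rw [← h2, mul_add] at h1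
  omega

/-- **The `p`-part of the centraliser of an element of large degree.** -/
theorem pbound_big [Finite F] (hG : Good Q) {p f : ℕ} [hp : Fact p.Prime] (hF : Nat.card F = p ^ f) (hpF : (p : F) = 0)
    {l e : ℕ} [hl : Fact l.Prime] (hlF : (l : F) ≠ 0) (hd : Ordd l (Nat.card F) e) (he : 3 ≤ e)
    {y : ↥(E Q)} (hy : y ^ l = 1) (hy1 : y ≠ 1) {X : Subgroup ↥(E Q)} (hX : IsPGroup p X)
    (hXs : ∀ g ∈ X, g * y = y * g) : v p X + f * finrank F V ≤ v p ↥(E Q) + 3 * f := by
  have hfd : FiniteDimensional F V := inferInstance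
  have hy' : en Q y ^ l = 1 := by rw [← map_pow, hy, map_one]
  have hR0 : R (en Q y) ≠ ⊥ := by
    intro h
    rw [R_eq_bot] at h
    exact hy1 (en_injective (h.trans (map_one _).symm))
  obtain ⟨w, hw, hw0, hwX⟩ := exists_fix hpF hX hR0 (fun g hg w hw => R_inv (by rw [← map_mul, hXs g hg, map_mul]) hw)
  have hW : ∀ w ∈ R (en Q y) ⊓ fixS X, en Q y w ∈ R (en Q y) ⊓ fixS X := fun w hw => ⟨R_inv rfl hw.1, by
    refine fixS_inv (fun g hg => ?_) hw.2
    rw [mul_assoc, hXs g hg, ← mul_assoc, inv_mul_cancel, one_mul]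
    exact hg⟩
  obtain ⟨c, hc⟩ := dvd_finrank_le hd hlF hy' (W := R (en Q y) ⊓ fixS X) inf_le_left hW
  have hne : finrank F ↥(R (en Q y) ⊓ fixS X) ≠ 0 := by
    intro h0
    rw [Submodule.finrank_eq_zero] at h0
    have h1 : w ∈ R (en Q y) ⊓ fixS X := ⟨hw, hwX⟩
    rw [h0, Submodule.mem_bot] at h1
    exact hw0 h1
  have h3 : 3 ≤ finrank F ↥(R (en Q y) ⊓ fixS X) := by
    have hc0 : c ≠ 0 := by rintro rfl; exact hne hc
    have : e * 1 ≤ e * c := Nat.mul_le_mul_left _ (by omega)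
    omega
  obtain ⟨u, hu, hu0, hQu⟩ := Cfsg.Agent.LieClassical.OrthFinite.exists_sing_mem (Q := Q) _ h3
  have huy : ∀ c : F, (y : V ≃ₗ[F] V) u ≠ c • u := by
    intro c hcu
    have h4 : ∀ w ∈ Submodule.span F {u}, en Q y w ∈ Submodule.span F {u} := by
      intro w hw
      obtain ⟨a, rfl⟩ := Submodule.mem_span_singleton.1 hw
      rw [map_smul]
      refine Submodule.smul_mem _ _ ?_
      rw [en_apply, hcu]
      exact Submodule.smul_mem _ _ (Submodule.mem_span_singleton_self u)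
    have h5 := dvd_finrank_le hd hlF hy' (W := Submodule.span F {u})
      ((Submodule.span_singleton_le_iff_mem _ _).2 hu.1) h4
    rw [finrank_span_singleton hu0] at h5
    have := Nat.le_of_dvd one_pos h5
    omega
  have h1 := enlarge hG hF hpF hX hQu hu0 (fun g hg => hu.2 g hg) (C := Submodule.span F {u, (y : V ≃ₗ[F] V) u})
    fun w hw hwX => mem_span_of_comm hG hQu hu0 huy hw (hXs _ hwX)
  have h2 : finrank F (Submodule.span F {u, (y : V ≃ₗ[F] V) u}) ≤ 2 := by
    classical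
    have h3 := finrank_span_finset_le_card (R := F) ({u, (y : V ≃ₗ[F] V) u} : Finset V)
    rw [Finset.coe_pair] at h3
    exact h3.trans Finset.card_le_two
  have h6 : f * finrank F (Submodule.span F {u, (y : V ≃ₗ[F] V) u}) ≤ f * 2 := Nat.mul_le_mul_left _ h2
  omega

/-- the stabiliser of `u`, if the orbit lies in `u + ⟨k⟩` -/
theorem exists_stab [Finite F] {p f : ℕ} [hp : Fact p.Prime] (hF : Nat.card F = p ^ f) {X : Subgroup ↥(E Q)}
    (hX : IsPGroup p X) {u k : V} (h : ∀ g ∈ X, (g : V ≃ₗ[F] V) u - u ∈ Submodule.span F {k}) :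
    ∃ X₁ ≤ X, (∀ g ∈ X₁, (g : V ≃ₗ[F] V) u = u) ∧ v p X ≤ v p X₁ + f := by
  classical
  have hfinE : Finite ↥(E Q) := finite_E
  let act : MulAction ↥X V :=
    { smul := fun g w => (g : ↥(E Q)).1 w
      one_smul := fun w => rfl
      mul_smul := fun g h w => rfl }
  have h1 := (MulAction.stabilizer ↥X u).index_mul_card
  rw [MulAction.index_stabilizer] at h1
  have h2 : (MulAction.orbit ↥X u).ncard ≤ Nat.card F := by
    have h3 : MulAction.orbit ↥X u ⊆ Set.range fun c : F => u + c • k := by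
      rintro _ ⟨g, rfl⟩
      obtain ⟨c, hc⟩ := Submodule.mem_span_singleton.1 (h g g.2)
      refine ⟨c, ?_⟩
      change u + c • k = (g : ↥(E Q)).1 u
      rw [hc]
      abel
    refine (Set.ncard_le_ncard h3 (Set.toFinite _)).trans ?_
    rw [← Set.image_univ]
    refine (Set.ncard_image_le (Set.toFinite _)).trans ?_
    rw [Set.ncard_univ]
  refine ⟨(MulAction.stabilizer ↥X u).map X.subtype, Subgroup.map_subtype_le _, ?_, ?_⟩
  · rintro _ ⟨g, hg, rfl⟩
    exact hg
  · have h3 : Nat.card X ≤ Nat.card F * Nat.card ↥((MulAction.stabilizer ↥X u).map X.subtype) := by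
      rw [Cfsg.Agent.H160.PD.card_map_subtype, ← h1]
      exact Nat.mul_le_mul_right _ h2
    have hX1 : IsPGroup p ↥((MulAction.stabilizer ↥X u).map X.subtype) :=
      hX.to_le (Subgroup.map_subtype_le _)
    rw [card_pgroup hX, card_pgroup hX1, hF, ← pow_add] at h3
    have h4 := (Nat.pow_le_pow_iff_right hp.out.one_lt).1 h3
    omega

variable {n p f d : ℕ}

/-- **`p`-subgroups normalised by an element of order `r₁`.** -/
theorem Plus.v_norm_second [Finite F] (H : Plus Q n p f) (hO : Odg n d) (hp2 : p ≠ 2) {l : ℕ} [hl : Fact l.Prime]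
    (hl2 : l ≠ 2) (hlF : (l : F) ≠ 0)
    (hd : Ordd l (Nat.card F) d) (hld : l ∣ Nat.card F ^ d - 1) {y : ↥(E Q)} (hy : y ^ l = 1) (hy1 : y ≠ 1)
    {X : Subgroup ↥(E Q)} (hX : IsPGroup p X) (hyX : ∀ g ∈ X, y⁻¹ * g * y ∈ X) :
    v p X + f * d ≤ v p ↥(E Q) + f := by
  have hG := H.good
  have hpF := H.hpF
  have hF := H.hF
  have hfd : FiniteDimensional F V := inferInstance
  have := Fact.mk H.prime
  have hn := H.hn
  have hd3 : 3 ≤ d := by
    have h1 := hO.odd
    have h2 := hO.or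
    rw [Nat.odd_iff] at h1
    omega
  have h2F : (2 : F) ≠ 0 := by
    intro h
    have hc : CharP F p := (CharP.charP_iff_prime_eq_zero H.prime).2 H.hpF
    have h3 : ((2 : ℕ) : F) = 0 := by exact_mod_cast h
    rw [CharP.cast_eq_zero_iff F p] at h3
    exact hp2 ((Nat.prime_dvd_prime_iff_eq H.prime Nat.prime_two).1 h3)
  have hsing : ∀ w : V, polarBilin Q w w = 0 → Q w = 0 := by
    intro w hw
    rw [polarBilin_apply_apply, polar_self'] at hw
    exact (mul_eq_zero.1 hw).resolve_left h2F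
  have hy' : en Q y ^ l = 1 := by rw [← map_pow, hy, map_one]
  obtain ⟨h1, h2⟩ := H.dim_second hO hl2 hlF hd hy hy1
  obtain ⟨U, U', hU⟩ := exists_split H.good hl2 hlF hy hd hld hO.odd h1
  have hU0 : ∀ U U' : Submodule F V, Split Q y d U U' → U ≠ ⊥ := by
    rintro U U' h rfl
    have := h.dim
    rw [finrank_bot] at this
    omega
  -- invariant subspaces of `R y`
  have hsub : ∀ W : Submodule F V, (∀ w ∈ W, en Q y w ∈ W) → R (en Q y) ⊓ W ≠ ⊥ →
      ∃ U₁ U₂ : Submodule F V, Split Q y d U₁ U₂ ∧ U₁ ≤ W := by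
    intro W hW hne
    rcases hU.all (R (en Q y) ⊓ W) inf_le_left (fun w hw => ⟨R_inv rfl hw.1, hW w hw.2⟩) with h | h | h | h
    · exact absurd h hne
    · exact ⟨U, U', hU, h ▸ inf_le_right⟩
    · exact ⟨U', U, hU.symm, h ▸ inf_le_right⟩
    · exact ⟨U, U', hU, hU.le.trans (h ▸ inf_le_right)⟩
  have hfixy : ∀ w ∈ fixS X, en Q y w ∈ fixS X := fun w hw => fixS_inv hyX hw
  by_cases hZ : R (en Q y) ⊓ fixS X = ⊥
  · -- the fixed vectors are in `K y`
    obtain ⟨k, hk0, hQk, hkX⟩ := exists_fix_sing H.dvd_sing hX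
    have hkZ : k ∈ fixS X := fun g hg => hkX g hg
    have hkK : k ∈ K (en Q y) := by
      obtain ⟨a, ha, r, hr, hkr⟩ := decomp_mem hy' hlF hfixy hkZ
      rw [hZ, Submodule.mem_bot] at hr
      rw [hkr, hr, add_zero]
      exact ha.1
    obtain ⟨w, hkw, hwk, hwX⟩ := Cfsg.Agent.H311.PD.exists_fixed_mod hG H.hf hF hX hQk hk0 hkX
    let W : Submodule F V :=
      { carrier := {w | polar Q k w = 0 ∧ ∀ g ∈ X, en Q g w - w ∈ Submodule.span F {k}}
        add_mem' := fun {a b} ha hb => ⟨by rw [polar_add_right, ha.1, hb.1, add_zero], fun g hg => by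
          rw [map_add, add_sub_add_comm]
          exact Submodule.add_mem _ (ha.2 g hg) (hb.2 g hg)⟩
        zero_mem' := ⟨polar_zero_right Q k, fun g _ => by rw [map_zero, sub_zero]; exact Submodule.zero_mem _⟩
        smul_mem' := fun c v hv => ⟨by rw [polar_smul_right, hv.1, smul_zero], fun g hg => by
          rw [map_smul, ← smul_sub]
          exact Submodule.smul_mem _ _ (hv.2 g hg)⟩ }
    have hyk : en Q y k = k := mem_K.1 hkK
    have hyW : ∀ w ∈ W, en Q y w ∈ W := by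
      rintro w ⟨hw1, hw2⟩
      refine ⟨?_, fun g hg => ?_⟩
      · have h3 := isom_en y k w
        rw [hyk, polarBilin_apply_apply, polarBilin_apply_apply, hw1] at h3
        exact h3
      · have h4 : g * y = y * (y⁻¹ * g * y) := by group
        obtain ⟨c, hc⟩ := Submodule.mem_span_singleton.1 (hw2 _ (hyX g hg))
        rw [← Module.End.mul_apply, ← map_mul, h4, map_mul, Module.End.mul_apply, ← map_sub, ← hc, map_smul, hyk]
        exact Submodule.smul_mem _ _ (Submodule.mem_span_singleton_self k)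
    -- `W ⊓ K y` is spanned by `k`
    have hWK : ∀ a ∈ K (en Q y), polar Q k a = 0 → a ∈ Submodule.span F {k} := by
      intro a ha hka
      by_contra hne
      apply hk0
      refine nondeg_K (isom_en y) (polar_nondeg hG) hy' hlF hkK fun b hb => ?_
      have h3 : K (en Q y) = Submodule.span F {k, a} := by
        symm
        apply Submodule.eq_of_le_of_finrank_le
        · rw [Submodule.span_le]
          rintro _ (rfl | rfl)
          · exact hkK
          · exact ha
        · refine h2.trans ?_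
          have h4 : LinearIndependent F ![k, a] := by
            rw [LinearIndependent.pair_iff' hk0]
            intro c hc
            exact hne (Submodule.mem_span_singleton.2 ⟨c, hc⟩)
          have h5 := finrank_span_eq_card h4
          rw [Matrix.range_cons, Matrix.range_cons, Matrix.range_empty, Set.union_empty,
            Set.singleton_union, Fintype.card_fin] at h5
          exact h5.ge
      rw [h3, Submodule.mem_span_pair] at hb
      obtain ⟨c, c', rfl⟩ := hb
      rw [polarBilin_apply_apply, polar_add_left, polar_smul_left, polar_smul_left, polar_self_of_sing hQk,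
        polar_comm (⇑Q) a k, hka, smul_zero, smul_zero, add_zero]
    have hRW : R (en Q y) ⊓ W ≠ ⊥ := by
      intro h0
      obtain ⟨a, ha, r, hr, hwr⟩ := decomp_mem hy' hlF hyW (v := w) ⟨hkw, fun g hg => hwX g hg⟩
      rw [h0, Submodule.mem_bot] at hr
      apply hwk
      rw [hwr, hr, add_zero]
      exact hWK a ha.1 ha.2.1
    obtain ⟨U₁, U₂, hU₁, hUW⟩ := hsub W hyW hRW
    obtain ⟨u, hu, hu0⟩ := Submodule.exists_mem_ne_zero_of_ne_bot (hU0 _ _ hU₁)
    obtain ⟨X₁, hX₁, hX₁u, hv⟩ := exists_stab hF hX (u := u) (k := k) fun g hg => (hUW hu).2 g hg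
    have hdisj : ∀ w ∈ Submodule.span F {k}, w ∈ R (en Q y) → w = 0 := by
      intro w hw hwR
      obtain ⟨c, rfl⟩ := Submodule.mem_span_singleton.1 hw
      exact eq_zero_of_mem hy' hlF (by rw [map_smul, hyk]) hwR
    have h3 := v_le_of_D hG hF hpF (hX.to_le hX₁) (hsing u (hU₁.ti u hu u hu)) hu0 hX₁u (D := U₁ ⊔ Submodule.span F {k})
      (S₀ := Submodule.span F {k}) (fun h => hu0 (hdisj u h (hU₁.le hu))) (by
        intro w hw
        obtain ⟨a, ha, b, hb, rfl⟩ := Submodule.mem_sup.1 hw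
        obtain ⟨c, rfl⟩ := Submodule.mem_span_singleton.1 hb
        rw [polar_add_right, polar_smul_right]
        have e1 : polar Q u a = 0 := hU₁.ti u hu a ha
        have e2 : polar Q u k = 0 := perp_RK (isom_en y) (hU₁.le hu) hkK
        rw [e1, e2, smul_zero, add_zero]) (by
        intro g hg w hw
        obtain ⟨a, ha, b, hb, rfl⟩ := Submodule.mem_sup.1 hw
        obtain ⟨c, rfl⟩ := Submodule.mem_span_singleton.1 hb
        rw [map_add, map_smul, hkX g (hX₁ hg), add_sub_add_right_eq_sub]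
        exact (hUW ha).2 g (hX₁ hg))
    have h4 : finrank F ↥(U₁ ⊔ Submodule.span F {k}) = d + 1 := by
      have h5 := Submodule.finrank_sup_add_finrank_inf_eq U₁ (Submodule.span F {k})
      have h6 : U₁ ⊓ Submodule.span F {k} = ⊥ := by
        rw [eq_bot_iff]
        rintro w ⟨hw, hw'⟩
        exact hdisj w hw' (hU₁.le hw)
      rw [h6, finrank_bot, finrank_span_singleton hk0, hU₁.dim] at h5
      omega
    rw [h4, mul_add, mul_one] at h3
    omega
  · obtain ⟨U₁, U₂, hU₁, hUX⟩ := hsub (fixS X) hfixy hZ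
    obtain ⟨u, hu, hu0⟩ := Submodule.exists_mem_ne_zero_of_ne_bot (hU0 _ _ hU₁)
    have h3 := v_le_of_D hG hF hpF hX (hsing u (hU₁.ti u hu u hu)) hu0 (fun g hg => hUX hu g hg) (D := U₁)
      (S₀ := ⊥) (fun h => hu0 ((Submodule.mem_bot F).1 h)) (fun w hw => hU₁.ti u hu w hw) (fun g hg w hw => by
        rw [Submodule.mem_bot, sub_eq_zero]
        exact hUX hw g hg)
    rw [hU₁.dim] at h3
    exact h3

end fin

end Cfsg.Agent.H14.PD
end

private theorem dce_7f638767a5eb : _root_.True := by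
  try have : _root_.True := by simp only [_root_.Cfsg.Agent.H160.PD.v.eq_1]
  exact _root_.True.intro
end

-- part: H14/DP/Orth
section
prune_inst 0x2050200406c000000000000440201c52b2000400004b0000000002000680082200822e20a020011602a0000500310040000000100040000004000000011c008000001400a1080008000010000000000000000000000000000000000000000000000000000
set_option linter.all false
open scoped Cfsg.Agent.FastGrp

-- part: H160/DP/Polarity
section
/-!
# A polarity of `PG(2, q)` has absolute points (helper160)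

`no_polarity` : there is no injective map `δ` from the points to the lines of a projective plane over a finite field
with `x ∈ δ y ↔ y ∈ δ x` and `x ∉ δ x` (Baer). Proof with the trace of the incidence matrix over `ZMod p`.
-/

set_option autoImplicit false

namespace Cfsg.Agent.H160.DP

open Module Matrix

variable {F V : Type*} [Field F] [AddCommGroup V] [Module F V]

/-- the points -/
abbrev Pt (F V : Type*) [Field F] [AddCommGroup V] [Module F V] := {c : Submodule F V // finrank F c = 1}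

theorem card_pt [Finite F] {n : ℕ} (h : finrank F V = n) :
    Nat.card (Pt F V) = ∑ i ∈ Finset.range n, Nat.card F ^ i := by
  rw [← Projectivization.card_of_finrank F V h]
  exact (Nat.card_congr (Projectivization.equivSubmodule F V)).symm

/-- the points of a subspace -/
theorem card_pt_le [Finite F] (W : Submodule F V) {n : ℕ} (h : finrank F W = n) :
    Nat.card {c : Pt F V // c.1 ≤ W} = ∑ i ∈ Finset.range n, Nat.card F ^ i := by
  rw [← card_pt (F := F) (V := W) h]
  refine Nat.card_congr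
    { toFun := fun c => ⟨c.1.1.comap W.subtype, ?_⟩
      invFun := fun d => ⟨⟨d.1.map W.subtype, ?_⟩, ?_⟩
      left_inv := ?_
      right_inv := ?_ }
  · have h1 := c.1.2
    have h2 : finrank F ↥((c.1.1.comap W.subtype).map W.subtype) = finrank F ↥(c.1.1.comap W.subtype) :=
      (Submodule.equivMapOfInjective W.subtype W.injective_subtype _).finrank_eq.symm
    rw [Submodule.map_comap_subtype, inf_eq_right.2 c.2, h1] at h2
    exact h2.symm
  · rw [← (Submodule.equivMapOfInjective W.subtype W.injective_subtype d.1).finrank_eq]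
    exact d.2
  · exact Submodule.map_subtype_le W d.1
  · intro c
    apply Subtype.ext
    apply Subtype.ext
    show (c.1.1.comap W.subtype).map W.subtype = c.1.1
    rw [Submodule.map_comap_subtype, inf_eq_right.2 c.2]
  · intro d
    apply Subtype.ext
    exact Submodule.comap_map_eq_of_injective W.injective_subtype d.1

theorem no_polarity [Finite F] (hV : finrank F V = 3) (δ : Pt F V → Submodule F V)
    (h2 : ∀ c, finrank F (δ c) = 2) (hsym : ∀ c c' : Pt F V, c'.1 ≤ δ c → c.1 ≤ δ c')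
    (habs : ∀ c : Pt F V, ¬ c.1 ≤ δ c) : False := by
  classical
  obtain ⟨p, hp⟩ := CharP.exists F
  have : Fintype F := Fintype.ofFinite F
  obtain ⟨n, hpp, hq⟩ := FiniteField.card F p
  have hpF : Fact p.Prime := ⟨hpp⟩
  have hVf : Module.Finite F V := Module.finite_of_finrank_pos (by omega)
  have hVfin : Finite V := Module.finite_of_finite F
  have hfin : Finite (Pt F V) := by
    have : Finite (Submodule F V) := inferInstance
    infer_instance
  have : Fintype (Pt F V) := Fintype.ofFinite _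
  have hq0 : ((Nat.card F : ℕ) : ZMod p) = 0 := by
    rw [Nat.card_eq_fintype_card, hq, Nat.cast_pow, CharP.cast_eq_zero, zero_pow n.ne_zero]
  have hcnt : ∀ (W : Submodule F V) {k : ℕ}, 1 ≤ k → finrank F W = k →
      ((Nat.card {c : Pt F V // c.1 ≤ W} : ℕ) : ZMod p) = 1 := by
    intro W k hk hW
    obtain ⟨j, rfl⟩ : ∃ j, k = j + 1 := ⟨k - 1, by omega⟩
    rw [card_pt_le W hW, Finset.sum_range_succ', Nat.cast_add, Nat.cast_sum, Finset.sum_eq_zero]
    · rw [pow_zero, Nat.cast_one, zero_add]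
    · intro i _
      rw [Nat.cast_pow, hq0, zero_pow (Nat.succ_ne_zero i)]
  let M : Matrix (Pt F V) (Pt F V) (ZMod p) := Matrix.of fun c c' => if c'.1 ≤ δ c then 1 else 0
  let J : Matrix (Pt F V) (Pt F V) (ZMod p) := Matrix.of fun _ _ => 1
  have hMJ : M * J = J := by
    ext c c''
    simp only [Matrix.mul_apply, M, J, mul_one, Matrix.of_apply]
    rw [Finset.sum_boole, ← hcnt (δ c) (by norm_num) (h2 c), Nat.card_eq_fintype_card, Fintype.card_subtype]
  have hMM : M * M = J := by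
    ext c c''
    simp only [Matrix.mul_apply, M, J, Matrix.of_apply]
    have h1 : ∀ x : Pt F V, ((if x.1 ≤ δ c then (1 : ZMod p) else 0) * if c''.1 ≤ δ x then 1 else 0) =
        if x.1 ≤ δ c ⊓ δ c'' then 1 else 0 := by
      intro x
      have h3 : c''.1 ≤ δ x ↔ x.1 ≤ δ c'' := ⟨hsym x c'', hsym c'' x⟩
      by_cases h4 : x.1 ≤ δ c <;> by_cases h5 : x.1 ≤ δ c'' <;> simp only [h3, h4, h5, le_inf_iff, ↓ _root_.reduceIte, _root_.mul_one, _root_.and_self, _root_.MulZeroClass.mul_zero, _root_.and_false, _root_.and_true]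
    simp only [h1]
    rw [Finset.sum_boole]
    obtain ⟨k, hk1, hk⟩ : ∃ k, 1 ≤ k ∧ finrank F ↥(δ c ⊓ δ c'') = k := by
      refine ⟨_, ?_, rfl⟩
      have h3 := Submodule.finrank_sup_add_finrank_inf_eq (δ c) (δ c'')
      rw [h2, h2] at h3
      have h4 : finrank F ↥(δ c ⊔ δ c'') ≤ 3 := hV ▸ Submodule.finrank_le _
      omega
    rw [← hcnt (δ c ⊓ δ c'') hk1 hk, Nat.card_eq_fintype_card, Fintype.card_subtype]
  have hpow : ∀ k, M ^ (k + 2) = J := by
    intro k
    induction k with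
    | zero => rw [zero_add, pow_two, hMM]
    | succ k ih => rw [show k + 1 + 2 = (k + 2) + 1 by ring, pow_succ', ih, hMJ]
  have htr : Matrix.trace M = 0 := by
    rw [Matrix.trace]
    apply Finset.sum_eq_zero
    intro c _
    simp [M, Matrix.diag, habs c]
  have h3 := ZMod.trace_pow_card M
  rw [htr, zero_pow hpp.ne_zero] at h3
  have h6 : M ^ p = J := by
    have := hpow (p - 2)
    rwa [Nat.sub_add_cancel hpp.two_le] at this
  have h4 : Matrix.trace (M ^ p) = 1 := by
    rw [h6]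
    have h5 : (Nat.card (Pt F V) : ZMod p) = 1 := by
      rw [card_pt hV, Finset.sum_range_succ', Nat.cast_add, Nat.cast_sum, Finset.sum_eq_zero]
      · rw [pow_zero, Nat.cast_one, zero_add]
      · intro i _
        rw [Nat.cast_pow, hq0, zero_pow (Nat.succ_ne_zero i)]
    simp only [Matrix.trace, J, Matrix.diag_apply, Matrix.of_apply, Finset.sum_const, Finset.card_univ, nsmul_eq_mul,
      mul_one]
    rw [← h5, Nat.card_eq_fintype_card]
  rw [h4] at h3
  exact one_ne_zero h3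

end Cfsg.Agent.H160.DP
end

-- part: H160/DP/Flag
section
/-!
# No `p'`-group of linear maps is transitive on the flags of a projective plane of odd order (helper160)

`no_flag_trans` : `V` of dimension 3 over a finite field `F` of odd characteristic `p`, `K` a finite group of linear
maps of order prime to `p`: `K` is not transitive on the incident point-line pairs.

The involutory homologies in `K` (after adjoining the scalars) define a polarity without absolute points.
-/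

set_option autoImplicit false

namespace Cfsg.Agent.H160.DP

open Module

variable {F V : Type*} [Field F] [AddCommGroup V] [Module F V]

/-- `σ` is the involutory homology with centre `c` and axis `W` -/
def IsHom (c W : Submodule F V) (σ : V ≃ₗ[F] V) : Prop :=
  (∀ v ∈ c, σ v = -v) ∧ ∀ v ∈ W, σ v = v

/-- elements `1 + N`, `N ^ 2 = 0`, in a `p'`-group are trivial -/
theorem eq_one_of_sq {p : ℕ} [hp : Fact p.Prime] [CharP F p] {K : Subgroup (V ≃ₗ[F] V)} [Finite K]
    (hpK : ¬ p ∣ Nat.card K) {τ : V ≃ₗ[F] V} (hτ : τ ∈ K) (h : ∀ v, τ (τ v - v) = τ v - v) : τ = 1 := by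
  have h1 : ∀ (k : ℕ) (v : V), (τ ^ k) v = v + k • (τ v - v) := by
    intro k
    induction k with
    | zero => intro v; simp
    | succ k ih =>
      intro v
      rw [pow_succ', LinearEquiv.mul_apply, ih, map_add, map_nsmul, h, succ_nsmul]
      abel
  have h2 : τ ^ p = 1 := by
    ext v
    rw [h1, LinearEquiv.coe_one, id, ← Nat.cast_smul_eq_nsmul F, CharP.cast_eq_zero, zero_smul, add_zero]
  have h3 : orderOf τ ∣ Nat.card K := by
    rw [← Subgroup.orderOf_mk τ hτ]
    exact orderOf_dvd_natCard _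
  rcases (Nat.dvd_prime hp.out).1 (orderOf_dvd_of_pow_eq_one h2) with h4 | h4
  · exact orderOf_eq_one_iff.1 h4
  · exact absurd (h4 ▸ h3) hpK

theorem two_smul_eq_zero {p : ℕ} [hp : Fact p.Prime] [CharP F p] (hp2 : p ≠ 2) {v : V} (h : v + v = 0) : v = 0 := by
  have h2 : (2 : F) ≠ 0 := by
    intro h3
    have h4 : ((2 : ℕ) : F) = 0 := by exact_mod_cast h3
    rw [CharP.cast_eq_zero_iff F p] at h4
    exact hp2 ((Nat.prime_dvd_prime_iff_eq hp.out Nat.prime_two).1 h4)
  rw [← two_smul F v] at h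
  exact (smul_eq_zero.1 h).resolve_left h2

section

variable {p : ℕ} [hp : Fact p.Prime] [CharP F p] (hp2 : p ≠ 2) (hV : finrank F V = 3)
include hp2

theorem IsHom.inf {c W : Submodule F V} {σ : V ≃ₗ[F] V} (h : IsHom c W σ) : c ⊓ W = ⊥ := by
  rw [Submodule.eq_bot_iff]
  intro v hv
  have h1 := h.1 v hv.1
  rw [h.2 v hv.2] at h1
  exact two_smul_eq_zero (F := F) hp2 (by rw [← sub_neg_eq_add, ← h1, sub_self])

include hV

theorem IsHom.exists_add {c W : Submodule F V} {σ : V ≃ₗ[F] V} (h : IsHom c W σ) (hc : finrank F c = 1)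
    (hW : finrank F W = 2) (v : V) : ∃ x ∈ c, ∃ w ∈ W, x + w = v := by
  have hVf : Module.Finite F V := Module.finite_of_finrank_pos (by omega)
  have h1 := Submodule.finrank_sup_add_finrank_inf_eq c W
  rw [h.inf hp2, finrank_bot, hc, hW] at h1
  have h2 : c ⊔ W = ⊤ := Submodule.eq_top_of_finrank_eq (by rw [hV]; omega)
  have h3 : v ∈ c ⊔ W := by rw [h2]; trivial
  exact Submodule.mem_sup.1 h3

theorem IsHom.uniq_axis {K : Subgroup (V ≃ₗ[F] V)} [Finite K] (hpK : ¬ p ∣ Nat.card K) {c W W' : Submodule F V}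
    (hc : finrank F c = 1) (hW : finrank F W = 2) (hW' : finrank F W' = 2) {σ σ' : V ≃ₗ[F] V} (hσ : σ ∈ K)
    (hσ' : σ' ∈ K) (h : IsHom c W σ) (h' : IsHom c W' σ') : W' = W := by
  have hVf : Module.Finite F V := Module.finite_of_finrank_pos (by omega)
  have key : σ * σ' = 1 := by
    apply eq_one_of_sq (F := F) hpK (mul_mem hσ hσ')
    intro v
    obtain ⟨x, hx, w, hw, rfl⟩ := h.exists_add hp2 hV hc hW v
    obtain ⟨x', hx', w', hw', e⟩ := h'.exists_add hp2 hV hc hW' (x + w)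
    have h1 : σ' (x + w) = (x + w) - (x' + x') := by
      rw [← e, map_add, h'.1 x' hx', h'.2 w' hw']; abel
    have h2 : (σ * σ') (x + w) - (x + w) = (x' + x') - (x + x) := by
      rw [LinearEquiv.mul_apply, h1, map_sub, map_add, map_add, h.1 x hx, h.2 w hw, h.1 x' hx']; abel
    have h3 : ∀ y ∈ c, (σ * σ') y = y := by
      intro y hy
      rw [LinearEquiv.mul_apply, h'.1 y hy, map_neg, h.1 y hy, neg_neg]
    rw [h2]
    exact h3 _ (c.sub_mem (c.add_mem hx' hx') (c.add_mem hx hx))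
  apply Submodule.eq_of_le_of_finrank_le ?_ (by rw [hW, hW'])
  intro w' hw'
  have h1 : σ w' = w' := by
    have h2 : (σ * σ') w' = w' := by rw [key]; rfl
    rwa [LinearEquiv.mul_apply, h'.2 w' hw'] at h2
  obtain ⟨x, hx, w, hw, rfl⟩ := h.exists_add hp2 hV hc hW w'
  rw [map_add, h.1 x hx, h.2 w hw] at h1
  have h2 : x = 0 := two_smul_eq_zero (F := F) hp2 (by
    rw [show x + x = (x + w) - (-x + w) by abel, h1, sub_self])
  rw [h2, zero_add]
  exact hw

theorem IsHom.uniq_centre {K : Subgroup (V ≃ₗ[F] V)} [Finite K] (hpK : ¬ p ∣ Nat.card K) {c c' W : Submodule F V}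
    (hc : finrank F c = 1) (hc' : finrank F c' = 1) (hW : finrank F W = 2) {σ σ' : V ≃ₗ[F] V} (hσ : σ ∈ K)
    (hσ' : σ' ∈ K) (h : IsHom c W σ) (h' : IsHom c' W σ') : c' = c := by
  have hVf : Module.Finite F V := Module.finite_of_finrank_pos (by omega)
  have key : σ * σ' = 1 := by
    apply eq_one_of_sq (F := F) hpK (mul_mem hσ hσ')
    intro v
    obtain ⟨x, hx, w, hw, rfl⟩ := h.exists_add hp2 hV hc hW v
    obtain ⟨x', hx', w', hw', e⟩ := h'.exists_add hp2 hV hc' hW (x + w)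
    have h1 : σ' (x + w) = -(x + w) + (w' + w') := by
      rw [← e, map_add, h'.1 x' hx', h'.2 w' hw']; abel
    have h2 : (σ * σ') (x + w) - (x + w) = (w' + w') - (w + w) := by
      rw [LinearEquiv.mul_apply, h1, map_add, map_neg, map_add, map_add, h.1 x hx, h.2 w hw, h.2 w' hw']; abel
    have h3 : ∀ y ∈ W, (σ * σ') y = y := by
      intro y hy
      rw [LinearEquiv.mul_apply, h'.2 y hy, h.2 y hy]
    rw [h2]
    exact h3 _ (W.sub_mem (W.add_mem hw' hw') (W.add_mem hw hw))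
  apply Submodule.eq_of_le_of_finrank_le ?_ (by rw [hc, hc'])
  intro x' hx'
  have h1 : σ x' = -x' := by
    have h2 : (σ * σ') x' = x' := by rw [key]; rfl
    rw [LinearEquiv.mul_apply, h'.1 x' hx', map_neg] at h2
    exact neg_eq_iff_eq_neg.1 h2
  obtain ⟨x, hx, w, hw, rfl⟩ := h.exists_add hp2 hV hc hW x'
  rw [map_add, h.1 x hx, h.2 w hw] at h1
  have h2 : w = 0 := two_smul_eq_zero (F := F) hp2 (by
    rw [show w + w = (-x + w) - (-(x + w)) by abel, h1, sub_self])
  rw [h2, add_zero]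
  exact hx

/-- a `p'`-group of linear maps containing the scalars and an involution modulo scalars in each flag stabiliser
orbit is not transitive on the flags -/
theorem no_flag_trans_of {K : Subgroup (V ≃ₗ[F] V)} [Finite F] [Finite K] (hpK : ¬ p ∣ Nat.card K)
    (htr : ∀ c c' W W' : Submodule F V, finrank F c = 1 → finrank F c' = 1 → finrank F W = 2 → finrank F W' = 2 →
      c ≤ W → c' ≤ W' → ∃ k ∈ K, c.map (k : V →ₗ[F] V) = c' ∧ W.map (k : V →ₗ[F] V) = W')
    (hex : ∃ σ ∈ K, ∃ c W : Submodule F V, finrank F c = 1 ∧ finrank F W = 2 ∧ IsHom c W σ) : False := by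
  classical
  have hVf : Module.Finite F V := Module.finite_of_finrank_pos (by omega)
  -- every point is on a line
  have hline : ∀ c : Submodule F V, finrank F c = 1 → ∃ W : Submodule F V, finrank F W = 2 ∧ c ≤ W := by
    intro c hc
    obtain ⟨v, hv⟩ : ∃ v, v ∉ c := by
      by_contra hcon
      push Not at hcon
      have h1 : c = ⊤ := by rw [eq_top_iff]; intro x _; exact hcon x
      rw [h1, finrank_top, hV] at hc
      omega
    refine ⟨c ⊔ Submodule.span F {v}, ?_, le_sup_left⟩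
    have h1 := Submodule.finrank_sup_add_finrank_inf_eq c (Submodule.span F {v})
    have hv0 : v ≠ 0 := fun h0 => hv (h0 ▸ c.zero_mem)
    have h2 : c ⊓ Submodule.span F {v} = ⊥ := by
      rw [Submodule.eq_bot_iff]
      rintro x ⟨hx1, hx2⟩
      obtain ⟨a, rfl⟩ := Submodule.mem_span_singleton.1 hx2
      by_cases ha : a = 0
      · rw [ha, zero_smul]
      · exact absurd ((c.smul_mem_iff ha).1 hx1) hv
    rw [h2, finrank_bot, hc, finrank_span_singleton hv0] at h1
    omega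
  -- homologies
  have hmap : ∀ (c W : Submodule F V) (σ k : V ≃ₗ[F] V), σ ∈ K → k ∈ K → IsHom c W σ →
      IsHom (c.map (k : V →ₗ[F] V)) (W.map (k : V →ₗ[F] V)) (k * σ * k⁻¹) := by
    intro c W σ k hσ hk h
    constructor
    · rintro _ ⟨v, hv, rfl⟩
      rw [LinearEquiv.mul_apply, LinearEquiv.mul_apply, LinearEquiv.coe_coe]
      have : k⁻¹ (k v) = v := LinearEquiv.symm_apply_apply k v
      rw [this, h.1 v hv, map_neg]
    · rintro _ ⟨v, hv, rfl⟩
      rw [LinearEquiv.mul_apply, LinearEquiv.mul_apply, LinearEquiv.coe_coe]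
      have : k⁻¹ (k v) = v := LinearEquiv.symm_apply_apply k v
      rw [this, h.2 v hv]
  have hfr : ∀ (U : Submodule F V) (k : V ≃ₗ[F] V), finrank F ↥(U.map (k : V →ₗ[F] V)) = finrank F U := fun U k =>
    LinearEquiv.finrank_map_eq k U
  have hall : ∀ c : Pt F V, ∃ W : Submodule F V, finrank F W = 2 ∧ ∃ σ ∈ K, IsHom c.1 W σ := by
    rintro ⟨c, hc⟩
    obtain ⟨σ, hσ, c0, W0, hc0, hW0, h0⟩ := hex
    obtain ⟨W, hW, hcW⟩ := hline c hc
    obtain ⟨W1, hW1, hcW1⟩ := hline c0 hc0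
    obtain ⟨k, hk, h1, -⟩ := htr c0 c W1 W hc0 hc hW1 hW hcW1 hcW
    refine ⟨W0.map (k : V →ₗ[F] V), by rw [hfr, hW0], k * σ * k⁻¹, mul_mem (mul_mem hk hσ) (inv_mem hk), ?_⟩
    show IsHom c _ _
    rw [← h1]
    exact hmap c0 W0 σ k hσ hk h0
  choose δ h2 hδ using hall
  refine no_polarity hV δ h2 ?_ ?_
  · intro c c' hle
    obtain ⟨σ, hσ, h⟩ := hδ c
    obtain ⟨σ', hσ', h'⟩ := hδ c'
    -- `σ` fixes `c'`, hence the axis of `σ'`
    have hc' : c'.1.map (σ : V →ₗ[F] V) = c'.1 := by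
      apply Submodule.eq_of_le_of_finrank_eq
      · rintro _ ⟨v, hv, rfl⟩
        rw [LinearEquiv.coe_coe, h.2 v (hle hv)]
        exact hv
      · rw [hfr]
    have h3 := hmap c'.1 (δ c') σ' σ hσ' hσ h'
    rw [hc'] at h3
    have h4 := h'.uniq_axis hp2 hV hpK c'.2 (h2 c') (by rw [hfr, h2]) hσ' (mul_mem (mul_mem hσ hσ') (inv_mem hσ)) h3
    by_contra hcon
    have h5 : δ c' ≤ δ c := by
      intro w hw
      obtain ⟨x, hx, u, hu, e⟩ := h.exists_add hp2 hV c.2 (h2 c) w
      have h6 : σ w ∈ δ c' := by rw [← h4]; exact ⟨w, hw, rfl⟩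
      have h7 : w - σ w = x + x := by rw [← e, map_add, h.1 x hx, h.2 u hu]; abel
      have h8 : x + x ∈ δ c' := h7 ▸ (δ c').sub_mem hw h6
      by_cases hx0 : x = 0
      · rw [hx0, zero_add] at e; rw [← e]; exact hu
      · exfalso
        apply hcon
        have h9 : x ∈ δ c' := by
          have h2F : (2 : F) ≠ 0 := by
            intro h3
            exact hx0 (two_smul_eq_zero (F := F) hp2 (by rw [← two_smul F x, h3, zero_smul]))
          rw [← two_smul F x] at h8
          exact ((δ c').smul_mem_iff h2F).1 h8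
        have h10 : Submodule.span F {x} = c.1 := by
          apply Submodule.eq_of_le_of_finrank_eq
          · rw [Submodule.span_singleton_le_iff_mem]; exact hx
          · rw [finrank_span_singleton hx0, c.2]
        rw [← h10, Submodule.span_singleton_le_iff_mem]
        exact h9
    have h6 : δ c' = δ c := Submodule.eq_of_le_of_finrank_eq h5 (by rw [h2, h2])
    rw [h6] at h'
    have h7 := h.uniq_centre hp2 hV hpK c.2 c'.2 (h2 c) hσ hσ' h'
    have h8 : c.1 ⊓ δ c = ⊥ := h.inf hp2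
    rw [h7] at hle
    have h9 : c.1 = ⊥ := by rw [← h8]; exact (inf_eq_left.2 hle).symm
    have h10 := c.2
    rw [h9, finrank_bot] at h10
    omega
  · intro c hle
    obtain ⟨σ, hσ, h⟩ := hδ c
    have h8 : c.1 ⊓ δ c = ⊥ := h.inf hp2
    have h9 : c.1 = ⊥ := by rw [← h8]; exact (inf_eq_left.2 hle).symm
    have h10 := c.2
    rw [h9, finrank_bot] at h10
    omega

end

end Cfsg.Agent.H160.DP
end

-- part: H160/DP/FlagB
section
/-!
# No `p'`-group of linear maps is transitive on the flags of a projective plane of odd order, II (helper160)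
-/

set_option autoImplicit false

namespace Cfsg.Agent.H160.DP

open Module

variable {F V : Type*} [Field F] [AddCommGroup V] [Module F V]

/-- the scalar maps -/
def scal (F V : Type*) [Field F] [AddCommGroup V] [Module F V] : Fˣ →* (V ≃ₗ[F] V) where
  toFun μ := LinearEquiv.smulOfUnit μ
  map_one' := by ext v; simp only [LinearEquiv.smulOfUnit, _root_.DistribMulAction.toLinearEquiv_apply, _root_.one_smul, _root_.LinearEquiv.coe_one, _root_.id_eq]
  map_mul' a b := by ext v; simp only [LinearEquiv.smulOfUnit, mul_smul, _root_.DistribMulAction.toLinearEquiv_apply, _root_.LinearEquiv.mul_apply]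

@[simp] theorem scal_apply (μ : Fˣ) (v : V) : scal F V μ v = (μ : F) • v := rfl

theorem scal_comm (μ : Fˣ) (k : V ≃ₗ[F] V) : scal F V μ * k = k * scal F V μ := by
  ext v; simp

/-- adjoin the scalars -/
def withScal (K : Subgroup (V ≃ₗ[F] V)) : Subgroup (V ≃ₗ[F] V) where
  carrier := {g | ∃ k ∈ K, ∃ μ : Fˣ, g = k * scal F V μ}
  one_mem' := ⟨1, K.one_mem, 1, by rw [map_one, mul_one]⟩
  mul_mem' := by
    rintro _ _ ⟨k, hk, μ, rfl⟩ ⟨k', hk', μ', rfl⟩
    refine ⟨k * k', mul_mem hk hk', μ * μ', ?_⟩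
    rw [map_mul, mul_assoc, ← mul_assoc (scal F V μ), scal_comm, mul_assoc, mul_assoc]
  inv_mem' := by
    rintro _ ⟨k, hk, μ, rfl⟩
    refine ⟨k⁻¹, inv_mem hk, μ⁻¹, ?_⟩
    rw [mul_inv_rev, ← map_inv, scal_comm]

theorem le_withScal (K : Subgroup (V ≃ₗ[F] V)) : K ≤ withScal K := fun k hk =>
  ⟨k, hk, 1, by rw [map_one, mul_one]⟩

theorem scal_mem_withScal (K : Subgroup (V ≃ₗ[F] V)) (μ : Fˣ) : scal F V μ ∈ withScal K :=
  ⟨1, K.one_mem, μ, by rw [one_mul]⟩

theorem finite_withScal (K : Subgroup (V ≃ₗ[F] V)) [Finite K] [Finite F] : Finite (withScal K) := by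
  have h : ((withScal K : Subgroup (V ≃ₗ[F] V)) : Set (V ≃ₗ[F] V)) ⊆
      Set.range fun x : K × Fˣ => (x.1 : V ≃ₗ[F] V) * scal F V x.2 := by
    rintro _ ⟨k, hk, μ, rfl⟩
    exact ⟨(⟨k, hk⟩, μ), rfl⟩
  exact (Set.finite_range _).subset h

theorem not_dvd_withScal {p : ℕ} [hp : Fact p.Prime] [CharP F p] {K : Subgroup (V ≃ₗ[F] V)} [Finite K] [Finite F]
    (hpK : ¬ p ∣ Nat.card K) : ¬ p ∣ Nat.card (withScal K) := by
  have := finite_withScal K
  intro hd
  obtain ⟨⟨g, hgK⟩, hg⟩ := exists_prime_orderOf_dvd_card' p hd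
  rw [Subgroup.orderOf_mk] at hg
  obtain ⟨k, hk, μ, rfl⟩ := hgK
  have hcomm : Commute k (scal F V μ) := (scal_comm μ k).symm
  have : Fintype F := Fintype.ofFinite F
  obtain ⟨n, -, hq⟩ := FiniteField.card F p
  have hμ : μ ^ (Fintype.card F - 1) = 1 := by
    apply Units.ext
    rw [Units.val_pow_eq_pow_val, Units.val_one]
    exact FiniteField.pow_card_sub_one_eq_one (μ : F) μ.ne_zero
  have h1 : (k * scal F V μ) ^ (Fintype.card F - 1) = k ^ (Fintype.card F - 1) := by
    rw [hcomm.mul_pow, ← map_pow, hμ, map_one, mul_one]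
  have hco : p.Coprime (Fintype.card F - 1) := by
    have h2 : 1 ≤ Fintype.card F := Fintype.card_pos
    rw [Nat.Prime.coprime_iff_not_dvd hp.out]
    intro h3
    have h4 : p ∣ Fintype.card F := by rw [hq]; exact dvd_pow_self p n.ne_zero
    have h5 := (Nat.dvd_sub h4 h3)
    rw [Nat.sub_sub_self h2] at h5
    exact hp.out.one_lt.ne' (Nat.dvd_one.1 h5)
  have h2 : orderOf ((k * scal F V μ) ^ (Fintype.card F - 1)) = p := by
    rw [Nat.Coprime.orderOf_pow (by rw [hg]; exact hco), hg]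
  rw [h1] at h2
  apply hpK
  rw [← h2, ← Subgroup.orderOf_mk (k ^ (Fintype.card F - 1)) (K.pow_mem hk _)]
  exact orderOf_dvd_natCard _

/-- an involution `σ ≠ ± 1` gives a homology -/
theorem exists_isHom {p : ℕ} [hp : Fact p.Prime] [CharP F p] (hp2 : p ≠ 2) (hV : finrank F V = 3)
    {K : Subgroup (V ≃ₗ[F] V)} (hK : ∀ μ, scal F V μ ∈ K) {σ : V ≃ₗ[F] V} (hσ : σ ∈ K) (h2 : σ * σ = 1)
    (hns : ∀ μ, σ ≠ scal F V μ) :
    ∃ σ ∈ K, ∃ c W : Submodule F V, finrank F c = 1 ∧ finrank F W = 2 ∧ IsHom c W σ := by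
  have hVf : Module.Finite F V := Module.finite_of_finrank_pos (by omega)
  have h2F : (2 : F) ≠ 0 := by
    intro h3
    have h4 : ((2 : ℕ) : F) = 0 := by exact_mod_cast h3
    rw [CharP.cast_eq_zero_iff F p] at h4
    exact hp2 ((Nat.prime_dvd_prime_iff_eq hp.out Nat.prime_two).1 h4)
  have hσσ : ∀ v, σ (σ v) = v := fun v => by
    rw [← LinearEquiv.mul_apply, h2]; rfl
  let Ep : Submodule F V := LinearMap.ker ((σ : V →ₗ[F] V) - LinearMap.id)
  let Em : Submodule F V := LinearMap.ker ((σ : V →ₗ[F] V) + LinearMap.id)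
  have hEp : ∀ v, v ∈ Ep ↔ σ v = v := fun v => by
    simp only [Ep, LinearMap.mem_ker, LinearMap.sub_apply, LinearMap.id_apply, LinearEquiv.coe_coe, sub_eq_zero]
  have hEm : ∀ v, v ∈ Em ↔ σ v = -v := fun v => by
    simp only [Em, LinearMap.mem_ker, LinearMap.add_apply, LinearMap.id_apply, LinearEquiv.coe_coe,
      add_eq_zero_iff_eq_neg]
  have hinf : Em ⊓ Ep = ⊥ := by
    rw [Submodule.eq_bot_iff]
    rintro v ⟨h3, h4⟩
    have h3' := (hEm v).1 h3
    rw [(hEp v).1 h4] at h3'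
    exact two_smul_eq_zero (F := F) hp2 (by rw [← sub_neg_eq_add, ← h3', sub_self])
  have hsup : Em ⊔ Ep = ⊤ := by
    rw [eq_top_iff]
    intro v _
    have h3 : v = (2 : F)⁻¹ • (v - σ v) + (2 : F)⁻¹ • (v + σ v) := by
      rw [← smul_add, show v - σ v + (v + σ v) = v + v by abel, ← two_smul F v, smul_smul, inv_mul_cancel₀ h2F,
        one_smul]
    rw [h3]
    refine Submodule.add_mem_sup (Em.smul_mem _ ?_) (Ep.smul_mem _ ?_)
    · rw [hEm, map_sub, hσσ]; abel
    · rw [hEp, map_add, hσσ]; abel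
  have hdim := Submodule.finrank_sup_add_finrank_inf_eq Em Ep
  rw [hsup, hinf, finrank_bot, finrank_top, hV] at hdim
  have h1m : finrank F Em ≠ 0 := by
    intro h3
    have h4 : Em = ⊥ := Submodule.finrank_eq_zero.1 h3
    rw [h4, bot_sup_eq] at hsup
    apply hns 1
    rw [map_one]
    ext v
    exact (hEp v).1 (by rw [hsup]; trivial)
  have h1p : finrank F Ep ≠ 0 := by
    intro h3
    have h4 : Ep = ⊥ := Submodule.finrank_eq_zero.1 h3
    rw [h4, sup_bot_eq] at hsup
    apply hns (-1)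
    ext v
    rw [(hEm v).1 (by rw [hsup]; trivial), scal_apply]
    simp
  rcases (show finrank F Em = 1 ∧ finrank F Ep = 2 ∨ finrank F Em = 2 ∧ finrank F Ep = 1 by omega) with h3 | h3
  · exact ⟨σ, hσ, Em, Ep, h3.1, h3.2, fun v hv => (hEm v).1 hv, fun v hv => (hEp v).1 hv⟩
  · refine ⟨scal F V (-1) * σ, mul_mem (hK _) hσ, Ep, Em, h3.2, h3.1, fun v hv => ?_, fun v hv => ?_⟩
    · rw [LinearEquiv.mul_apply, (hEp v).1 hv, scal_apply]; simp
    · rw [LinearEquiv.mul_apply, (hEm v).1 hv, scal_apply]; simp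

/-- a nonscalar map whose square is scalar gives a homology in dimension 3 -/
theorem exists_isHom' {p : ℕ} [hp : Fact p.Prime] [CharP F p] (hp2 : p ≠ 2) (hV : finrank F V = 3)
    {K : Subgroup (V ≃ₗ[F] V)} (hK : ∀ μ, scal F V μ ∈ K) {k : V ≃ₗ[F] V} (hk : k ∈ K) {μ : Fˣ}
    (h2 : k * k = scal F V μ) (hns : ∀ μ, k ≠ scal F V μ) :
    ∃ σ ∈ K, ∃ c W : Submodule F V, finrank F c = 1 ∧ finrank F W = 2 ∧ IsHom c W σ := by
  have hVf : Module.Finite F V := Module.finite_of_finrank_pos (by omega)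
  set d : F := LinearMap.det (k : V →ₗ[F] V) with hd
  have hd0 : d ≠ 0 := (LinearEquiv.isUnit_det' k).ne_zero
  have h3 : d * d = (μ : F) ^ 3 := by
    rw [hd, ← map_mul]
    have h4 : (k : V →ₗ[F] V) * (k : V →ₗ[F] V) = (μ : F) • LinearMap.id := by
      ext v
      have := congrArg (fun g : V ≃ₗ[F] V => g v) h2
      simpa only [_root_.Module.End.mul_apply, _root_.LinearEquiv.coe_coe, _root_.LinearMap.smul_apply, _root_.LinearMap.id_coe, _root_.id_eq, _root_.LinearEquiv.mul_apply, _root_.Cfsg.Agent.H160.DP.scal_apply] using this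
    rw [h4, LinearMap.det_smul, LinearMap.det_id, mul_one, hV]
  let ν : Fˣ := Units.mk0 d hd0 * μ⁻¹
  have hν : ν * ν = μ := by
    apply Units.ext
    simp only [ν, Units.val_mul, Units.val_mk0, Units.val_inv_eq_inv_val]
    have hμ0 : (μ : F) ≠ 0 := μ.ne_zero
    field_simp
    rw [pow_two, h3]
    try ring
  refine exists_isHom hp2 hV hK (σ := scal F V ν⁻¹ * k) (mul_mem (hK _) hk) ?_ ?_
  · rw [mul_assoc, ← mul_assoc k, ← scal_comm, mul_assoc, ← mul_assoc, h2, ← map_mul, ← map_mul, ← hν]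
    rw [show ν⁻¹ * ν⁻¹ * (ν * ν) = 1 by group]
    exact map_one _
  · intro μ' h4
    apply hns (ν * μ')
    rw [map_mul, ← h4, ← mul_assoc, ← map_mul, mul_inv_cancel, map_one, one_mul]

theorem exists_sub {n : ℕ} (h : n ≤ finrank F V) : ∃ W : Submodule F V, finrank F W = n := by
  obtain ⟨b, hb⟩ := exists_linearIndependent_of_le_finrank h
  exact ⟨Submodule.span F (Set.range b), by rw [finrank_span_eq_card hb, Fintype.card_fin]⟩

/-- the action on the subspaces -/
@[reducible] def actSub (F V : Type*) [Field F] [AddCommGroup V] [Module F V] :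
    MulAction (V ≃ₗ[F] V) (Submodule F V) where
  smul g U := U.map (g : V →ₗ[F] V)
  one_smul U := Submodule.map_id U
  mul_smul g h U := by
    show U.map ((g * h : V ≃ₗ[F] V) : V →ₗ[F] V) = (U.map (h : V →ₗ[F] V)).map (g : V →ₗ[F] V)
    rw [← Submodule.map_comp]
    rfl

theorem map_scal (U : Submodule F V) (μ : Fˣ) : U.map (scal F V μ : V →ₗ[F] V) = U := by
  apply le_antisymm
  · rintro _ ⟨v, hv, rfl⟩
    exact U.smul_mem _ hv
  · intro v hv
    exact ⟨(μ⁻¹ : Fˣ) • v, U.smul_mem _ hv, by simp [Units.smul_def]⟩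

/-- **No `p'`-group is transitive on the flags of a projective plane of odd order.** -/
theorem no_flag_trans {p : ℕ} [hp : Fact p.Prime] [CharP F p] (hp2 : p ≠ 2) [Finite F] (hV : finrank F V = 3)
    (K : Subgroup (V ≃ₗ[F] V)) [Finite K] (hpK : ¬ p ∣ Nat.card K)
    (htr : ∀ c c' W W' : Submodule F V, finrank F c = 1 → finrank F c' = 1 → finrank F W = 2 → finrank F W' = 2 →
      c ≤ W → c' ≤ W' → ∃ k ∈ K, c.map (k : V →ₗ[F] V) = c' ∧ W.map (k : V →ₗ[F] V) = W') : False := by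
  classical
  have hVf : Module.Finite F V := Module.finite_of_finrank_pos (by omega)
  have hfinK := finite_withScal K
  have htr' : ∀ c c' W W' : Submodule F V, finrank F c = 1 → finrank F c' = 1 → finrank F W = 2 → finrank F W' = 2 →
      c ≤ W → c' ≤ W' → ∃ k ∈ withScal K, c.map (k : V →ₗ[F] V) = c' ∧ W.map (k : V →ₗ[F] V) = W' := by
    intro c c' W W' h1 h2 h3 h4 h5 h6
    obtain ⟨k, hk, h⟩ := htr c c' W W' h1 h2 h3 h4 h5 h6
    exact ⟨k, le_withScal K hk, h⟩
  refine no_flag_trans_of hp2 hV (not_dvd_withScal hpK) htr' ?_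
  -- a flag
  obtain ⟨W0, hW0⟩ : ∃ W : Submodule F V, finrank F W = 2 := exists_sub (by omega)
  obtain ⟨c0', hc0'⟩ : ∃ c : Submodule F W0, finrank F c = 1 := exists_sub (by omega)
  obtain ⟨c0, hc0, hcW⟩ : ∃ c : Submodule F V, finrank F c = 1 ∧ c ≤ W0 :=
    ⟨c0'.map W0.subtype, by
      rw [← (Submodule.equivMapOfInjective W0.subtype W0.injective_subtype c0').finrank_eq, hc0'],
      Submodule.map_subtype_le _ _⟩
  let _ := actSub F V
  let G1 : Subgroup (V ≃ₗ[F] V) := withScal K ⊓ MulAction.stabilizer (V ≃ₗ[F] V) W0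
  have hG1fin : Finite G1 := Finite.of_injective _ (Subgroup.inclusion_injective (inf_le_left : G1 ≤ withScal K))
  have hfr : ∀ (U : Submodule F V) (k : V ≃ₗ[F] V), finrank F ↥(U.map (k : V →ₗ[F] V)) = finrank F U := fun U k =>
    LinearEquiv.finrank_map_eq k U
  have horb : MulAction.orbit G1 c0 = {c : Submodule F V | finrank F c = 1 ∧ c ≤ W0} := by
    ext c
    constructor
    · rintro ⟨g, rfl⟩
      refine ⟨(hfr c0 g.1).trans hc0, ?_⟩
      have h1 : W0.map ((g.1 : V ≃ₗ[F] V) : V →ₗ[F] V) = W0 := g.2.2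
      calc c0.map ((g.1 : V ≃ₗ[F] V) : V →ₗ[F] V) ≤ W0.map ((g.1 : V ≃ₗ[F] V) : V →ₗ[F] V) := Submodule.map_mono hcW
        _ = W0 := h1
    · rintro ⟨h1, h2⟩
      obtain ⟨k, hk, h3, h4⟩ := htr' c0 c W0 W0 hc0 h1 hW0 hW0 hcW h2
      exact ⟨⟨k, hk, h4⟩, h3⟩
  have hcard : (MulAction.stabilizer G1 c0).index = Nat.card F + 1 := by
    rw [MulAction.index_stabilizer, horb]
    have h1 := card_pt_le (F := F) W0 hW0
    have h2 : Nat.card {c : Pt F V // c.1 ≤ W0} = Nat.card {c : Submodule F V // finrank F c = 1 ∧ c ≤ W0} :=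
      Nat.card_congr (Equiv.subtypeSubtypeEquivSubtypeInter (fun c : Submodule F V => finrank F c = 1)
        (fun c : Submodule F V => c ≤ W0))
    rw [h2] at h1
    rw [← Nat.card_coe_set_eq]
    refine h1.trans ?_
    rw [Finset.sum_range_succ, Finset.sum_range_one, pow_zero, pow_one, add_comm]
  have hodd : Odd (Nat.card F) := by
    have : Fintype F := Fintype.ofFinite F
    obtain ⟨n, -, hq⟩ := FiniteField.card F p
    rw [Nat.card_eq_fintype_card, hq]
    exact (hp.out.odd_of_ne_two hp2).pow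
  -- a nonscalar element of 2-power order
  obtain ⟨g, hg, m, hgm, hgs⟩ : ∃ g ∈ withScal K, ∃ m : ℕ, g ^ 2 ^ m = 1 ∧ ∀ μ, g ≠ scal F V μ := by
    by_contra hcon
    push Not at hcon
    obtain ⟨Q⟩ : Nonempty (Sylow 2 G1) := inferInstance
    have h1 : (Q : Subgroup G1) ≤ MulAction.stabilizer G1 c0 := by
      intro x hx
      obtain ⟨j, hj⟩ := Q.2 ⟨x, hx⟩
      have hj' : (x : V ≃ₗ[F] V) ^ 2 ^ j = 1 := by
        have h2 := congrArg (fun y : Q => ((y : G1) : V ≃ₗ[F] V)) hj
        simpa only [_root_.SubmonoidClass.mk_pow, _root_.SubmonoidClass.coe_pow, _root_.OneMemClass.coe_one] using h2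
      obtain ⟨μ, hμ⟩ := hcon x x.2.1 j hj'
      rw [MulAction.mem_stabilizer_iff]
      show c0.map ((x.1 : V ≃ₗ[F] V) : V →ₗ[F] V) = c0
      rw [hμ]
      exact map_scal c0 μ
    have h2 := Subgroup.index_dvd_of_le h1
    rw [hcard] at h2
    exact Q.not_dvd_index ((even_iff_two_dvd.1 hodd.add_one).trans h2)
  have hex : ∃ j, ∃ μ, g ^ 2 ^ j = scal F V μ := ⟨m, 1, by rw [hgm, map_one]⟩
  obtain ⟨μ, hμ⟩ := Nat.find_spec hex
  obtain ⟨j, hj⟩ : ∃ j, Nat.find hex = j + 1 := by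
    refine ⟨Nat.find hex - 1, ?_⟩
    have h1 : Nat.find hex ≠ 0 := by
      intro h2
      rw [h2, pow_zero, pow_one] at hμ
      exact hgs μ hμ
    omega
  refine exists_isHom' hp2 hV (scal_mem_withScal K) (k := g ^ 2 ^ j) (Subgroup.pow_mem _ hg _) (μ := μ) ?_ ?_
  · rw [← hμ, hj, ← pow_add, pow_succ, mul_two]
  · intro μ' h1
    exact Nat.find_min hex (m := j) (by omega) ⟨μ', h1⟩

end Cfsg.Agent.H160.DP
end

-- part: H14/DP/Orth
section
/-!
# S4247, orthogonal groups in odd characteristic `p`: no factorization `S = H P` with `P` of odd order containing a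
Sylow `p`-subgroup and `H` a `p'`-group (helper14)
-/

set_option autoImplicit false
set_option linter.unusedSectionVars false

namespace Cfsg.Agent.H14.DP

open QuadraticMap Module Cfsg.Agent.LieClassical.OrthCore Cfsg.Agent.LieClassical.OrthTrans
open Cfsg.Agent.ClassicalGeometry.OrthSemi Cfsg.Agent.ClassicalGeometry.OrthAut1
open Cfsg.Agent.H200.LinFix Cfsg.Agent.H200.RowOrth Cfsg.Agent.H568
open Cfsg.Agent.H14.PD
open Cfsg.Agent.H160.PD (v v_mono v_eq_zero v_pos)

variable {F V : Type*} [Field F] [AddCommGroup V] [Module F V] {Q : QuadraticForm F V}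

/-! ### separation -/

theorem exists_sep_sub [FiniteDimensional F V] (hQ : Nondeg Q) {B : Submodule F V} {y : V} (hy : y ∉ B) :
    ∃ w, (∀ b ∈ B, polar Q b w = 0) ∧ polar Q w y = 1 := by
  obtain ⟨f, hf, hfB⟩ := Submodule.exists_dual_map_eq_bot_of_notMem hy inferInstance
  have hinj : Function.Injective (polarBilin Q) := by
    rw [← LinearMap.ker_eq_bot, Submodule.eq_bot_iff]
    intro x hx
    apply hQ
    intro z
    exact congrArg (fun g : V →ₗ[F] F => g z) (LinearMap.mem_ker.1 hx)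
  have hsurj : Function.Surjective (polarBilin Q) :=
    (LinearMap.injective_iff_surjective_of_finrank_eq_finrank
      (by rw [Subspace.dual_finrank_eq])).1 hinj
  obtain ⟨w, hw⟩ := hsurj ((f y)⁻¹ • f)
  have hw' : ∀ z, polar Q w z = (f y)⁻¹ * f z := fun z => congrArg (fun g : V →ₗ[F] F => g z) hw
  refine ⟨w, fun b hb => ?_, ?_⟩
  · have h1 : f b ∈ B.map f := ⟨b, hb, rfl⟩
    rw [hfB, Submodule.mem_bot] at h1
    rw [polar_comm, hw', h1, mul_zero]
  · rw [hw', inv_mul_cancel₀ hf]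

/-- swapping two points: even order -/
theorem no_swap [Finite V] (hG : Good Q) {P₀ : Subgroup (P Q)} (hP : Odd (Nat.card P₀)) {s : ↥(E Q)}
    (hs : (QuotientGroup.mk s : P Q) ∈ P₀) {x y : V} {c d : F} (hc : c ≠ 0) (hx : (s : V ≃ₗ[F] V) x = c • y)
    (hy : (s : V ≃ₗ[F] V) y = d • x) : y ∈ Submodule.span F {x} := by
  have hfin : Finite ↥(E Q) := finite_E
  obtain ⟨i, hi⟩ := hP
  have h1 : (QuotientGroup.mk s : P Q) ^ (2 * i + 1) = 1 := by
    have h2 : (⟨QuotientGroup.mk s, hs⟩ : P₀) ^ Nat.card P₀ = 1 := pow_card_eq_one'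
    rw [hi] at h2
    exact congrArg Subtype.val h2
  have h3 : (s ^ 2) ^ i * s ∈ Subgroup.center ↥(E Q) := by
    rw [← pow_mul, ← pow_succ]
    rw [← QuotientGroup.eq_one_iff]
    exact h1
  obtain ⟨e, he⟩ := center_scalar hG h3
  have h4 : ∀ j : ℕ, (((s ^ 2) ^ j : ↥(E Q)) : V ≃ₗ[F] V) (c • y) = (c * d) ^ j • c • y := by
    intro j
    induction j with
    | zero => rw [pow_zero, pow_zero, one_smul]; rfl
    | succ j ih =>
      have e1 : (((s ^ 2) ^ (j + 1) : ↥(E Q)) : V ≃ₗ[F] V) (c • y) =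
          (((s ^ 2) ^ j : ↥(E Q)) : V ≃ₗ[F] V) ((s : V ≃ₗ[F] V) ((s : V ≃ₗ[F] V) (c • y))) := by
        rw [pow_succ, pow_two]
        rfl
      have e2 : (s : V ≃ₗ[F] V) ((s : V ≃ₗ[F] V) (c • y)) = (c * d) • c • y := by
        rw [map_smul, hy, map_smul, map_smul, hx, smul_smul]
      rw [e1, e2, map_smul, ih, smul_smul, pow_succ, mul_comm ((c * d) ^ j)]
  have h5 : (((s ^ 2) ^ i * s : ↥(E Q)) : V ≃ₗ[F] V) x = (c * d) ^ i • c • y := by
    rw [← h4, ← hx]
    rfl
  rw [he, smul_smul] at h5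
  by_cases hd : d = 0
  · rw [hd, zero_smul] at hy
    rw [(s : V ≃ₗ[F] V).map_eq_zero_iff.1 hy]
    exact zero_mem _
  rw [Submodule.mem_span_singleton]
  refine ⟨((c * d) ^ i * c)⁻¹ * e, ?_⟩
  rw [mul_smul, h5, smul_smul, inv_mul_cancel₀ (mul_ne_zero (pow_ne_zero _ (mul_ne_zero hc hd)) hc), one_smul]

/-- conjugation of Siegel transformations -/
theorem conj_sg' {u w : V} (hu : Q u = 0) (hw : w ∈ pp Q u) (g : ↥(E Q)) (hgu : Q ((g : V ≃ₗ[F] V) u) = 0)
    (hgw : (g : V ≃ₗ[F] V) w ∈ pp Q ((g : V ≃ₗ[F] V) u)) :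
    g * sg hu (Multiplicative.ofAdd ⟨w, hw⟩) * g⁻¹ = sg hgu (Multiplicative.ofAdd ⟨(g : V ≃ₗ[F] V) w, hgw⟩) := by
  apply Subtype.ext
  exact siegel_conj (E_le_O g.2) hu hw hgu hgw

/-- the first swap: `x ⊥ y` -/
theorem swap_one {x y w w' : V} (hx : Q x = 0) (hy : Q y = 0) (hw : w ∈ pp Q x) (hw' : w' ∈ pp Q y)
    (hxy : polar Q x y = 0) (h1 : polar Q w y = 1) (h2 : polar Q w' x = -1) :
    ((sg hx (Multiplicative.ofAdd ⟨w, hw⟩) * sg hy (Multiplicative.ofAdd ⟨w', hw'⟩) *
      sg hx (Multiplicative.ofAdd ⟨w, hw⟩) : ↥(E Q)) : V ≃ₗ[F] V) x = (1 : F) • y ∧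
    ((sg hx (Multiplicative.ofAdd ⟨w, hw⟩) * sg hy (Multiplicative.ofAdd ⟨w', hw'⟩) *
      sg hx (Multiplicative.ofAdd ⟨w, hw⟩) : ↥(E Q)) : V ≃ₗ[F] V) y = (-1 : F) • x := by
  have hyx : polar Q y x = 0 := by rw [polar_comm, hxy]
  have hxw : polar Q w x = 0 := by rw [polar_comm]; exact hw
  have hyw : polar Q w' y = 0 := by rw [polar_comm]; exact hw'
  have hxx : polar Q x x = 0 := polar_self_of_sing hx
  have hyy : polar Q y y = 0 := polar_self_of_sing hy
  have a1 : ((sg hx (Multiplicative.ofAdd ⟨w, hw⟩) : ↥(E Q)) : V ≃ₗ[F] V) x = x := by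
    rw [sg_apply, hxx, hxw]; simp
  have a2 : ((sg hx (Multiplicative.ofAdd ⟨w, hw⟩) : ↥(E Q)) : V ≃ₗ[F] V) y = y - x := by
    rw [sg_apply, hxy, h1]; simp
  have a3 : ((sg hy (Multiplicative.ofAdd ⟨w', hw'⟩) : ↥(E Q)) : V ≃ₗ[F] V) x = x + y := by
    rw [sg_apply, hyx, h2]; simp
  have a4 : ((sg hy (Multiplicative.ofAdd ⟨w', hw'⟩) : ↥(E Q)) : V ≃ₗ[F] V) y = y := by
    rw [sg_apply, hyy, hyw]; simp
  constructor
  · change ((sg hx (Multiplicative.ofAdd ⟨w, hw⟩) : ↥(E Q)) : V ≃ₗ[F] V)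
      (((sg hy (Multiplicative.ofAdd ⟨w', hw'⟩) : ↥(E Q)) : V ≃ₗ[F] V)
        (((sg hx (Multiplicative.ofAdd ⟨w, hw⟩) : ↥(E Q)) : V ≃ₗ[F] V) x)) = _
    rw [a1, a3, map_add, a1, a2, one_smul]
    abel
  · change ((sg hx (Multiplicative.ofAdd ⟨w, hw⟩) : ↥(E Q)) : V ≃ₗ[F] V)
      (((sg hy (Multiplicative.ofAdd ⟨w', hw'⟩) : ↥(E Q)) : V ≃ₗ[F] V)
        (((sg hx (Multiplicative.ofAdd ⟨w, hw⟩) : ↥(E Q)) : V ≃ₗ[F] V) y)) = _
    rw [a2, map_sub, a3, a4, map_sub, map_add, a1, a2, neg_one_smul]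
    abel

/-- the second swap: `(x, y) = β ≠ 0` -/
theorem swap_two {x y w : V} (hx : Q x = 0) (hy : Q y = 0) (hw : w ∈ pp Q x) {b : F} (hw' : b • w ∈ pp Q y)
    (hwy : polar Q w y = 0) (hb : Q w * polar Q x y * b = 1) :
    ((sg hx (Multiplicative.ofAdd ⟨w, hw⟩) * sg hy (Multiplicative.ofAdd ⟨b • w, hw'⟩) *
      sg hx (Multiplicative.ofAdd ⟨w, hw⟩) : ↥(E Q)) : V ≃ₗ[F] V) x = (-b) • y ∧
    ((sg hx (Multiplicative.ofAdd ⟨w, hw⟩) * sg hy (Multiplicative.ofAdd ⟨b • w, hw'⟩) *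
      sg hx (Multiplicative.ofAdd ⟨w, hw⟩) : ↥(E Q)) : V ≃ₗ[F] V) y = (-(Q w * polar Q x y)) • x := by
  have hyx : polar Q y x = polar Q x y := by rw [polar_comm]
  have hxw : polar Q w x = 0 := by rw [polar_comm]; exact hw
  have hyw : polar Q y w = 0 := by rw [polar_comm]; exact hwy
  have hxx : polar Q x x = 0 := polar_self_of_sing hx
  have hyy : polar Q y y = 0 := polar_self_of_sing hy
  have hww : polar Q w w = Q w + Q w := by rw [polar_self]; simp [two_smul]
  have hxw' : polar Q x w = 0 := hw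
  set κ := Q w
  set β := polar Q x y
  have a1 : ((sg hx (Multiplicative.ofAdd ⟨w, hw⟩) : ↥(E Q)) : V ≃ₗ[F] V) x = x := by
    rw [sg_apply, hxx, hxw]; simp
  have a2 : ((sg hx (Multiplicative.ofAdd ⟨w, hw⟩) : ↥(E Q)) : V ≃ₗ[F] V) y = y + β • w - (κ * β) • x := by
    rw [sg_apply, hwy]; simp only [κ, β, _root_.zero_smul, _root_.sub_zero]
  have a3 : ((sg hx (Multiplicative.ofAdd ⟨w, hw⟩) : ↥(E Q)) : V ≃ₗ[F] V) w = w - (κ + κ) • x := by
    rw [sg_apply, hww, hxw']; simp [κ]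
  have a4 : ((sg hy (Multiplicative.ofAdd ⟨b • w, hw'⟩) : ↥(E Q)) : V ≃ₗ[F] V) x =
      x + (β * b) • w - (b * b * κ * β) • y := by
    rw [sg_apply, hyx, polar_smul_left, hxw, QuadraticMap.map_smul]; simp only [κ, β, smul_smul, _root_.smul_eq_mul, _root_.MulZeroClass.mul_zero, _root_.zero_smul, _root_.sub_zero]
  have a5 : ((sg hy (Multiplicative.ofAdd ⟨b • w, hw'⟩) : ↥(E Q)) : V ≃ₗ[F] V) y = y := by
    rw [sg_apply, hyy, polar_smul_left, hwy]; simp only [_root_.zero_smul, _root_.add_zero, _root_.smul_eq_mul, _root_.MulZeroClass.mul_zero, _root_.sub_zero]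
  have a6 : ((sg hy (Multiplicative.ofAdd ⟨b • w, hw'⟩) : ↥(E Q)) : V ≃ₗ[F] V) w = w - (b * (κ + κ)) • y := by
    rw [sg_apply, hyw, polar_smul_left, hww]; simp only [κ, _root_.zero_smul, _root_.add_zero, _root_.smul_eq_mul, _root_.MulZeroClass.mul_zero, _root_.sub_zero]
  have hb' : b * κ * β = 1 := by rw [← hb]; ring
  constructor
  · change ((sg hx (Multiplicative.ofAdd ⟨w, hw⟩) : ↥(E Q)) : V ≃ₗ[F] V)
      (((sg hy (Multiplicative.ofAdd ⟨b • w, hw'⟩) : ↥(E Q)) : V ≃ₗ[F] V)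
        (((sg hx (Multiplicative.ofAdd ⟨w, hw⟩) : ↥(E Q)) : V ≃ₗ[F] V) x)) = _
    rw [a1, a4, map_sub, map_add, map_smul, map_smul, a1, a2, a3]
    have e1 : b * b * κ * β = b := by
      have : b * b * κ * β = b * (b * κ * β) := by ring
      rw [this, hb', mul_one]
    rw [e1]
    have e2 : x + (β * b) • (w - (κ + κ) • x) - b • (y + β • w - (κ * β) • x) =
        (1 - b * κ * β) • x + (-b) • y := by module
    rw [e2, hb', sub_self, zero_smul, zero_add]
  · change ((sg hx (Multiplicative.ofAdd ⟨w, hw⟩) : ↥(E Q)) : V ≃ₗ[F] V)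
      (((sg hy (Multiplicative.ofAdd ⟨b • w, hw'⟩) : ↥(E Q)) : V ≃ₗ[F] V)
        (((sg hx (Multiplicative.ofAdd ⟨w, hw⟩) : ↥(E Q)) : V ≃ₗ[F] V) y)) = _
    rw [a2, map_sub, map_add, map_smul, map_smul, a4, a5, a6]
    have e2 : y + β • (w - (b * (κ + κ)) • y) - (κ * β) • (x + (β * b) • w - (b * b * κ * β) • y) =
        (1 - 2 * (b * κ * β) + (b * κ * β) * (b * κ * β)) • y + (β * (1 - b * κ * β)) • w + (-(κ * β)) • x := by module
    rw [e2, hb', map_add, map_add, map_smul, map_smul, map_smul, a1]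
    norm_num

/-- **The step.** -/
theorem step [Finite V] (hG : Good Q) {P₀ : Subgroup (P Q)} (hP : Odd (Nat.card P₀)) {A : Submodule F V}
    (hA : ∀ g : ↥(E Q), (QuotientGroup.mk g : P Q) ∈ P₀ → ∀ a ∈ A, (g : V ≃ₗ[F] V) a ∈ A) {x : V}
    (hx : Q x = 0) (hxA : x ∉ A) (hAx : ∀ a ∈ A, polar Q x a = 0)
    (hN : 2 * finrank F A + 3 ≤ finrank F V)
    (hS : ∀ (w : V) (hw : w ∈ pp Q x), (∀ a ∈ A, polar Q w a = 0) →
      (QuotientGroup.mk (sg hx (Multiplicative.ofAdd ⟨w, hw⟩)) : P Q) ∈ P₀) :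
    ∀ g : ↥(E Q), (QuotientGroup.mk g : P Q) ∈ P₀ → ∀ a ∈ A ⊔ Submodule.span F {x},
      (g : V ≃ₗ[F] V) a ∈ A ⊔ Submodule.span F {x} := by
  have hfd : FiniteDimensional F V := inferInstance
  intro g hg
  have hgi : (QuotientGroup.mk g⁻¹ : P Q) ∈ P₀ := P₀.inv_mem hg
  suffices hgx : (g : V ≃ₗ[F] V) x ∈ A ⊔ Submodule.span F {x} by
    intro a ha
    obtain ⟨a1, ha1, a2, ha2, rfl⟩ := Submodule.mem_sup.1 ha
    obtain ⟨c, rfl⟩ := Submodule.mem_span_singleton.1 ha2
    rw [map_add, map_smul]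
    exact add_mem (Submodule.mem_sup_left (hA g hg a1 ha1)) (Submodule.smul_mem _ _ hgx)
  obtain ⟨y, hy⟩ : ∃ y, y = (g : V ≃ₗ[F] V) x := ⟨_, rfl⟩
  rw [← hy]
  have hQy : Q y = 0 := by rw [hy, mem_O.1 (E_le_O g.2), hx]
  have hAy : ∀ a ∈ A, polar Q y a = 0 := by
    intro a ha
    have h1 := hA g⁻¹ hgi a ha
    have h2 : (g : V ≃ₗ[F] V) (((g⁻¹ : ↥(E Q)) : V ≃ₗ[F] V) a) = a := (g : V ≃ₗ[F] V).apply_symm_apply a
    rw [hy, ← h2, polar_map (E_le_O g.2)]
    exact hAx _ h1
  have hyA : y ∉ A := by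
    intro h
    have h1 := hA g⁻¹ hgi y h
    have h2 : ((g⁻¹ : ↥(E Q)) : V ≃ₗ[F] V) y = x := by
      rw [hy]
      exact (g : V ≃ₗ[F] V).symm_apply_apply x
    rw [h2] at h1
    exact hxA h1
  have hSy : ∀ (w : V) (hw : w ∈ pp Q y), (∀ a ∈ A, polar Q w a = 0) →
      (QuotientGroup.mk (sg hQy (Multiplicative.ofAdd ⟨w, hw⟩)) : P Q) ∈ P₀ := by
    intro w hw hwA
    obtain ⟨w₀, hw₀⟩ : ∃ w₀, w₀ = ((g⁻¹ : ↥(E Q)) : V ≃ₗ[F] V) w := ⟨_, rfl⟩
    have h1 : (g : V ≃ₗ[F] V) w₀ = w := by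
      rw [hw₀]
      exact (g : V ≃ₗ[F] V).apply_symm_apply w
    have h2 : w₀ ∈ pp Q x := by
      rw [mem_pp] at hw ⊢
      rw [← polar_map (E_le_O g.2), h1, ← hy]
      exact hw
    have h3 : ∀ a ∈ A, polar Q w₀ a = 0 := by
      intro a ha
      rw [← polar_map (E_le_O g.2), h1]
      exact hwA _ (hA g hg a ha)
    have h4 := hS w₀ h2 h3
    have h5 : Q ((g : V ≃ₗ[F] V) x) = 0 := by rw [← hy]; exact hQy
    have h6 : (g : V ≃ₗ[F] V) w₀ ∈ pp Q ((g : V ≃ₗ[F] V) x) := by
      rw [h1, ← hy]; exact hw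
    have h7 := conj_sg' hx h2 g h5 h6
    have h8 : sg hQy (Multiplicative.ofAdd ⟨w, hw⟩) = sg h5 (Multiplicative.ofAdd ⟨(g : V ≃ₗ[F] V) w₀, h6⟩) := by
      apply Subtype.ext
      rw [sg_coe, sg_coe]
      congr 1
      exact h1.symm
    rw [h8, ← h7]
    exact P₀.mul_mem (P₀.mul_mem hg h4) hgi
  by_contra hcon
  have hx0 : x ≠ 0 := fun h => hxA (h ▸ A.zero_mem)
  have hyx : y ∉ Submodule.span F {x} := fun h => hcon (Submodule.mem_sup_right h)
  by_cases hxy : polar Q x y = 0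
  · obtain ⟨w, hwB, hwy⟩ := exists_sep_sub hG.nondeg hcon
    have hwx : w ∈ pp Q x := by
      rw [mem_pp]
      exact hwB x (Submodule.mem_sup_right (Submodule.mem_span_singleton_self x))
    have hwA : ∀ a ∈ A, polar Q w a = 0 := fun a ha => by
      rw [polar_comm]
      exact hwB a (Submodule.mem_sup_left ha)
    have hcon' : x ∉ A ⊔ Submodule.span F {y} := by
      intro h
      obtain ⟨a, ha, b, hb, hab⟩ := Submodule.mem_sup.1 h
      obtain ⟨c, rfl⟩ := Submodule.mem_span_singleton.1 hb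
      by_cases hc : c = 0
      · rw [hc, zero_smul, add_zero] at hab
        exact hxA (hab ▸ ha)
      · apply hcon
        have h1 : y = -(c⁻¹ • a) + c⁻¹ • x := by
          rw [← hab, smul_add, smul_smul, inv_mul_cancel₀ hc, one_smul]
          abel
        rw [h1]
        exact add_mem (neg_mem (Submodule.smul_mem _ _ (Submodule.mem_sup_left ha)))
          (Submodule.smul_mem _ _ (Submodule.mem_sup_right (Submodule.mem_span_singleton_self x)))
    obtain ⟨w', hwB', hwx'⟩ := exists_sep_sub hG.nondeg hcon'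
    have hwy' : -w' ∈ pp Q y := by
      apply neg_mem
      rw [mem_pp]
      exact hwB' y (Submodule.mem_sup_right (Submodule.mem_span_singleton_self y))
    have hwA' : ∀ a ∈ A, polar Q (-w') a = 0 := fun a ha => by
      rw [polar_neg_left, polar_comm, hwB' a (Submodule.mem_sup_left ha), neg_zero]
    obtain ⟨h1, h2⟩ := swap_one hx hQy hwx hwy' hxy hwy (by rw [polar_neg_left, hwx'])
    refine hyx (no_swap hG hP ?_ one_ne_zero h1 h2)
    exact P₀.mul_mem (P₀.mul_mem (hS _ _ hwA) (hSy _ _ hwA')) (hS _ _ hwA)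
  · -- the hyperbolic case
    have key : ∃ w, Q w ≠ 0 ∧ ∀ b ∈ A ⊔ Submodule.span F {x} ⊔ Submodule.span F {y}, polar Q b w = 0 := by
      by_contra hno
      push Not at hno
      obtain ⟨C, hC⟩ : ∃ C, C = A ⊔ Submodule.span F {x} ⊔ Submodule.span F {y} := ⟨_, rfl⟩
      rw [← hC] at hno
      have hxC : x ∈ C := by
        rw [hC]
        exact Submodule.mem_sup_left (Submodule.mem_sup_right (Submodule.mem_span_singleton_self x))
      have hyC : y ∈ C := by
        rw [hC]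
        exact Submodule.mem_sup_right (Submodule.mem_span_singleton_self y)
      have hAC : A ≤ C := by
        rw [hC]
        exact le_sup_left.trans le_sup_left
      -- singular vectors
      have hsing : ∀ w, (∀ b ∈ C, polar Q b w = 0) → Q w = 0 := by
        intro w hw
        by_contra hne
        obtain ⟨b, hb, hbw⟩ := hno w hne
        exact hbw (hw b hb)
      have hBC : ∀ w, (∀ b ∈ C, polar Q b w = 0) → w ∈ C := by
        intro w hw
        by_contra hwC
        obtain ⟨w', hw', hww'⟩ := exists_sep_sub hG.nondeg hwC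
        have h1 := hsing w hw
        have h2 := hsing w' hw'
        have h3 := hsing (w' + w) (fun b hb => by rw [polar_add_right, hw' b hb, hw b hb, add_zero])
        have h4 : polar Q w' w = Q (w' + w) - Q w' - Q w := rfl
        rw [h1, h2, h3] at h4
        rw [h4] at hww'
        simp at hww'
      have hBA : ∀ w, (∀ b ∈ C, polar Q b w = 0) → w ∈ A := by
        intro w hw
        have h1 := hBC w hw
        rw [hC] at h1
        obtain ⟨z, hz, b, hb, rfl⟩ := Submodule.mem_sup.1 h1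
        obtain ⟨a, ha, c, hc, rfl⟩ := Submodule.mem_sup.1 hz
        obtain ⟨α, rfl⟩ := Submodule.mem_span_singleton.1 hc
        obtain ⟨β, rfl⟩ := Submodule.mem_span_singleton.1 hb
        have h2 := hw x hxC
        have h3 := hw y hyC
        rw [polar_add_right, polar_add_right, polar_smul_right, polar_smul_right, hAx a ha,
          polar_self_of_sing hx] at h2
        rw [polar_add_right, polar_add_right, polar_smul_right, polar_smul_right, hAy a ha,
          polar_self_of_sing hQy, polar_comm Q y x] at h3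
        have h4 : β = 0 := by
          simpa [hxy] using h2
        have h5 : α = 0 := by
          simpa [hxy] using h3
        rw [h4, h5]
        simpa using ha
      have h1 := finrank_perp hG C
      have h2 : LinearMap.BilinForm.orthogonal (polarBilin Q) C ≤ A := by
        intro w hw
        exact hBA w (fun b hb => hw b hb)
      have h3 := Submodule.finrank_mono h2
      have h4 : finrank F C ≤ finrank F A + 2 := by
        rw [hC]
        have e1 := Submodule.finrank_add_le_finrank_add_finrank (A ⊔ Submodule.span F {x}) (Submodule.span F {y})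
        have e2 := Submodule.finrank_add_le_finrank_add_finrank A (Submodule.span F {x})
        have e3 := finrank_span_singleton (K := F) hx0
        have e4 : finrank F (Submodule.span F {y}) ≤ 1 := by
          simpa using finrank_span_le_card (R := F) ({y} : Set V)
        omega
      omega
    obtain ⟨w, hw0, hwB⟩ := key
    have hwx : w ∈ pp Q x := by
      rw [mem_pp]
      exact hwB x (Submodule.mem_sup_left (Submodule.mem_sup_right (Submodule.mem_span_singleton_self x)))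
    have hyw : polar Q y w = 0 := hwB y (Submodule.mem_sup_right (Submodule.mem_span_singleton_self y))
    have hwA : ∀ a ∈ A, polar Q w a = 0 := fun a ha => by
      rw [polar_comm]
      exact hwB a (Submodule.mem_sup_left (Submodule.mem_sup_left ha))
    obtain ⟨b, hb⟩ : ∃ b, b = (Q w * polar Q x y)⁻¹ := ⟨_, rfl⟩
    have hb0 : b ≠ 0 := by rw [hb]; exact inv_ne_zero (mul_ne_zero hw0 hxy)
    have hb1 : Q w * polar Q x y * b = 1 := by rw [hb]; exact mul_inv_cancel₀ (mul_ne_zero hw0 hxy)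
    have hbw : b • w ∈ pp Q y := (pp Q y).smul_mem b hyw
    have hbA : ∀ a ∈ A, polar Q (b • w) a = 0 := fun a ha => by rw [polar_smul_left, hwA a ha, smul_zero]
    obtain ⟨h1, h2⟩ := swap_two hx hQy hwx hbw (by rw [polar_comm]; exact hyw) hb1
    refine hyx (no_swap hG hP ?_ (neg_ne_zero.2 hb0) h1 h2)
    exact P₀.mul_mem (P₀.mul_mem (hS _ _ hwA) (hSy _ _ hbA)) (hS _ _ hwA)

/-! ### the group induced on a totally singular subspace -/

theorem exists_transv [FiniteDimensional F V] (hG : Good Q) {W : Submodule F V} (hW : TS Q W) {B : Submodule F V}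
    (hB : B ≤ W) {u z : V} (hu : u ∈ W) (hz : z ∈ W) (huB : u ∉ B) (hzB : z ∉ B ⊔ Submodule.span F {u}) :
    ∃ g : ↥(E Q), (∀ w ∈ W, (g : V ≃ₗ[F] V) w ∈ W) ∧ (∀ b ∈ B, (g : V ≃ₗ[F] V) b = b) ∧
      (g : V ≃ₗ[F] V) u = z := by
  obtain ⟨t, ht⟩ : ∃ t, t = z - u := ⟨_, rfl⟩
  have htW : t ∈ W := by rw [ht]; exact W.sub_mem hz hu
  have hQt : Q t = 0 := hW t htW
  have huB' : u ∉ B ⊔ Submodule.span F {t} := by
    intro h
    obtain ⟨b, hb, c', hc', hbc⟩ := Submodule.mem_sup.1 h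
    obtain ⟨c, rfl⟩ := Submodule.mem_span_singleton.1 hc'
    by_cases hc : c = 0
    · rw [hc, zero_smul, add_zero] at hbc
      exact huB (hbc ▸ hb)
    · apply hzB
      have h1 : z = -(c⁻¹ • b) + (c⁻¹ + 1) • u := by
        have h2 : c • z = (1 + c) • u - b := by
          have h3 : u = b + c • (z - u) := by rw [← ht]; exact hbc.symm
          have h4 : c • (z - u) = u - b := by
            nth_rewrite 2 [h3]
            abel
          have h5 : (1 + c) • u - b = c • u + (u - b) := by module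
          rw [h5, ← h4, smul_sub]
          abel
        have h3 : z = c⁻¹ • c • z := by rw [smul_smul, inv_mul_cancel₀ hc, one_smul]
        rw [h3, h2, smul_sub, smul_smul, mul_add, mul_one, inv_mul_cancel₀ hc]
        abel
      rw [h1]
      exact add_mem (neg_mem (Submodule.smul_mem _ _ (Submodule.mem_sup_left hb)))
        (Submodule.smul_mem _ _ (Submodule.mem_sup_right (Submodule.mem_span_singleton_self u)))
  obtain ⟨w, hwB, hwu⟩ := exists_sep_sub hG.nondeg huB'
  have hwt : -w ∈ pp Q t := by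
    apply neg_mem
    rw [mem_pp]
    exact hwB t (Submodule.mem_sup_right (Submodule.mem_span_singleton_self t))
  have happ : ∀ v ∈ W, ((sg hQt (Multiplicative.ofAdd ⟨-w, hwt⟩) : ↥(E Q)) : V ≃ₗ[F] V) v = v + polar Q w v • t := by
    intro v hv
    rw [sg_apply, hW.polar htW hv, polar_neg_left]
    simp only [_root_.smul_neg, _root_.zero_smul, _root_.neg_zero, _root_.add_zero, _root_.neg_smul, _root_.sub_neg_eq_add, _root_.QuadraticMap.map_neg, _root_.MulZeroClass.mul_zero, _root_.sub_zero]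
  refine ⟨sg hQt (Multiplicative.ofAdd ⟨-w, hwt⟩), fun v hv => ?_, fun b hb => ?_, ?_⟩
  · rw [happ v hv]
    exact W.add_mem hv (W.smul_mem _ htW)
  · rw [happ b (hB hb), polar_comm, hwB b (Submodule.mem_sup_left hb), zero_smul, add_zero]
  · rw [happ u hu, hwu, one_smul, ht]
    abel

/-- transitivity on the flags -/
theorem exists_flag_map [FiniteDimensional F V] (hG : Good Q) {W : Submodule F V} (hW : TS Q W) {y₁ y₂ z₁ z₂ : V}
    (hy₁ : y₁ ∈ W) (hy₂ : y₂ ∈ W) (hz₁ : z₁ ∈ W) (hz₂ : z₂ ∈ W) (hy0 : y₁ ≠ 0) (hy : y₂ ∉ Submodule.span F {y₁})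
    (hz0 : z₁ ≠ 0) (hz : z₂ ∉ Submodule.span F {z₁}) :
    ∃ g : ↥(E Q), (∀ w ∈ W, (g : V ≃ₗ[F] V) w ∈ W) ∧ (g : V ≃ₗ[F] V) y₁ ∈ Submodule.span F {z₁} ∧
      (g : V ≃ₗ[F] V) y₂ ∈ Submodule.span F {z₁} ⊔ Submodule.span F {z₂} := by
  -- step one
  have h1 : ∃ g : ↥(E Q), (∀ w ∈ W, (g : V ≃ₗ[F] V) w ∈ W) ∧ (g : V ≃ₗ[F] V) y₁ ∈ Submodule.span F {z₁} := by
    by_cases h : z₁ ∈ Submodule.span F {y₁}
    · refine ⟨1, fun w hw => hw, ?_⟩
      obtain ⟨c, hc⟩ := Submodule.mem_span_singleton.1 h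
      have hc0 : c ≠ 0 := by
        rintro rfl
        rw [zero_smul] at hc
        exact hz0 hc.symm
      change y₁ ∈ _
      rw [Submodule.mem_span_singleton]
      exact ⟨c⁻¹, by rw [← hc, smul_smul, inv_mul_cancel₀ hc0, one_smul]⟩
    · obtain ⟨g, hg, -, hgy⟩ := exists_transv hG hW (B := ⊥) bot_le hy₁ hz₁ (by rwa [Submodule.mem_bot])
        (by rwa [bot_sup_eq])
      exact ⟨g, hg, by rw [hgy]; exact Submodule.mem_span_singleton_self _⟩
  obtain ⟨g, hg, hgy⟩ := h1
  obtain ⟨c, hc⟩ := Submodule.mem_span_singleton.1 hgy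
  have hc0 : c ≠ 0 := by
    rintro rfl
    rw [zero_smul] at hc
    exact hy0 ((g : V ≃ₗ[F] V).map_eq_zero_iff.1 hc.symm)
  obtain ⟨u, hu⟩ : ∃ u, u = (g : V ≃ₗ[F] V) y₂ := ⟨_, rfl⟩
  have huW : u ∈ W := by rw [hu]; exact hg _ hy₂
  have huz : u ∉ Submodule.span F {z₁} := by
    intro h
    obtain ⟨d, hd⟩ := Submodule.mem_span_singleton.1 h
    apply hy
    rw [Submodule.mem_span_singleton]
    refine ⟨d * c⁻¹, (g : V ≃ₗ[F] V).injective ?_⟩
    rw [map_smul, ← hc, smul_smul, mul_assoc, inv_mul_cancel₀ hc0, mul_one, hd, hu]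
  by_cases h : z₂ ∈ Submodule.span F {z₁} ⊔ Submodule.span F {u}
  · refine ⟨g, hg, hgy, ?_⟩
    rw [← hu]
    obtain ⟨a, ha, b, hb, hab⟩ := Submodule.mem_sup.1 h
    obtain ⟨d, rfl⟩ := Submodule.mem_span_singleton.1 hb
    have hd0 : d ≠ 0 := by
      rintro rfl
      rw [zero_smul, add_zero] at hab
      exact hz (hab ▸ ha)
    have h2 : u = -(d⁻¹ • a) + d⁻¹ • z₂ := by
      rw [← hab, smul_add, smul_smul, inv_mul_cancel₀ hd0, one_smul]
      abel
    rw [h2]
    exact add_mem (neg_mem (Submodule.smul_mem _ _ (Submodule.mem_sup_left ha)))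
      (Submodule.smul_mem _ _ (Submodule.mem_sup_right (Submodule.mem_span_singleton_self _)))
  · obtain ⟨k, hk, hkz, hku⟩ := exists_transv hG hW (B := Submodule.span F {z₁})
      (by rw [Submodule.span_singleton_le_iff_mem]; exact hz₁) huW hz₂ huz h
    refine ⟨k * g, fun w hw => hk _ (hg w hw), ?_, ?_⟩
    · change (k : V ≃ₗ[F] V) ((g : V ≃ₗ[F] V) y₁) ∈ _
      rw [hkz _ hgy]
      exact hgy
    · change (k : V ≃ₗ[F] V) ((g : V ≃ₗ[F] V) y₂) ∈ _
      rw [← hu, hku]
      exact Submodule.mem_sup_right (Submodule.mem_span_singleton_self _)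

/-! ### the `p`-group -/

/-- the stabilizer of a vector -/
def fixV (Q : QuadraticForm F V) (u : V) : Subgroup ↥(E Q) where
  carrier := {g | (g : V ≃ₗ[F] V) u = u}
  one_mem' := rfl
  mul_mem' := fun {a b} ha hb => by
    change (a : V ≃ₗ[F] V) ((b : V ≃ₗ[F] V) u) = u
    rw [Set.mem_ofPred_eq] at ha hb
    rw [hb, ha]
  inv_mem' := fun {a} ha => by
    change (a : V ≃ₗ[F] V).symm u = u
    rw [Set.mem_ofPred_eq] at ha
    rw [LinearEquiv.symm_apply_eq, ha]

theorem mem_fixV {u : V} {g : ↥(E Q)} : g ∈ fixV Q u ↔ (g : V ≃ₗ[F] V) u = u := Iff.rfl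

theorem sg_mem_fixV {u w x : V} (hu : Q u = 0) (hw : w ∈ pp Q u) (hux : polar Q u x = 0) (hwx : polar Q w x = 0) :
    sg hu (Multiplicative.ofAdd ⟨w, hw⟩) ∈ fixV Q x := by
  rw [mem_fixV, sg_apply, hux, hwx]
  simp

/-- the `p`-group of a flag -/
theorem isPGroup_flag [Finite V] {p : ℕ} [Fact p.Prime] (hpF : (p : F) = 0) {x₁ x₂ x₃ : V} (h₁ : Q x₁ = 0) (h₂ : Q x₂ = 0)
    (h₃ : Q x₃ = 0) :
    IsPGroup p ↥((AA h₃ ⊓ fixV Q x₁ ⊓ fixV Q x₂) ⊔ (AA h₂ ⊓ fixV Q x₁) ⊔ AA h₁) := by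
  have p₁ : IsPGroup p (AA h₁) := isPGroup_AA hpF h₁
  have p₂ : IsPGroup p ↥(AA h₂ ⊓ fixV Q x₁) := (isPGroup_AA hpF h₂).to_le inf_le_left
  have p₃ : IsPGroup p ↥(AA h₃ ⊓ fixV Q x₁ ⊓ fixV Q x₂) :=
    (isPGroup_AA hpF h₃).to_le (inf_le_left.trans inf_le_left)
  have q₂ : IsPGroup p ↥((AA h₃ ⊓ fixV Q x₁ ⊓ fixV Q x₂) ⊔ (AA h₂ ⊓ fixV Q x₁)) := by
    refine p₃.to_sup_of_normal_right' p₂ ?_
    have e1 : AA h₃ ⊓ fixV Q x₁ ⊓ fixV Q x₂ ≤ Subgroup.normalizer ((AA h₂ : Subgroup ↥(E Q)) : Set ↥(E Q)) :=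
      le_normalizer_AA h₂ fun g hg => hg.2
    have e2 : AA h₃ ⊓ fixV Q x₁ ⊓ fixV Q x₂ ≤ Subgroup.normalizer ((fixV Q x₁ : Subgroup ↥(E Q)) : Set ↥(E Q)) :=
      (inf_le_left.trans inf_le_right).trans Subgroup.le_normalizer
    exact (le_inf e1 e2).trans Subgroup.inf_normalizer_le_normalizer_inf
  refine q₂.to_sup_of_normal_right' p₁ ?_
  refine le_normalizer_AA h₁ fun g hg => ?_
  have : (AA h₃ ⊓ fixV Q x₁ ⊓ fixV Q x₂) ⊔ (AA h₂ ⊓ fixV Q x₁) ≤ fixV Q x₁ :=
    sup_le (inf_le_left.trans inf_le_right) inf_le_right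
  exact this hg

/-! ### the main argument -/

theorem notMem_two {y₁ y₂ y₃ : V} (hind' : LinearIndependent F ![y₁, y₂, y₃]) : y₂ ∉ Submodule.span F {y₁} := by
  intro h
  obtain ⟨c, hc⟩ := Submodule.mem_span_singleton.1 h
  have h1 := Fintype.linearIndependent_iff.1 hind' ![c, -1, 0] (by simp [Fin.sum_univ_three, hc]) 1
  simp at h1

theorem notMem_three {y₁ y₂ y₃ : V} (hind' : LinearIndependent F ![y₁, y₂, y₃]) :
    y₃ ∉ Submodule.span F {y₁} ⊔ Submodule.span F {y₂} := by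
  intro h
  obtain ⟨a, ha, b, hb, hab⟩ := Submodule.mem_sup.1 h
  obtain ⟨c, rfl⟩ := Submodule.mem_span_singleton.1 ha
  obtain ⟨d, rfl⟩ := Submodule.mem_span_singleton.1 hb
  have h1 := Fintype.linearIndependent_iff.1 hind' ![c, d, -1] (by simp [Fin.sum_univ_three, hab]) 2
  simp at h1

section main

variable [Finite V] [Finite F]

/-- a `p`-subgroup of `E Q` is conjugate into `P₀` -/
theorem exists_conj {p : ℕ} [hp : Fact p.Prime] {P₀ : Subgroup (P Q)} (hPv : v p P₀ = v p (P Q))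
    {X : Subgroup ↥(E Q)} (hX : IsPGroup p X) :
    ∃ g : ↥(E Q), ∀ s ∈ X, (QuotientGroup.mk (g * s * g⁻¹) : P Q) ∈ P₀ := by
  have hfin : Finite ↥(E Q) := finite_E
  obtain ⟨T⟩ : Nonempty (Sylow p ↥P₀) := inferInstance
  have hT : IsPGroup p ↥((T : Subgroup ↥P₀).map P₀.subtype) := T.isPGroup'.map _
  have hTc : Nat.card ↥((T : Subgroup ↥P₀).map P₀.subtype) = p ^ (Nat.card (P Q)).factorization p := by
    rw [Cfsg.Agent.H160.PD.card_map_subtype, T.card_eq_multiplicity]
    exact congrArg (p ^ ·) hPv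
  obtain ⟨S, hS⟩ := (hX.map (QuotientGroup.mk' (Subgroup.center ↥(E Q)))).exists_le_sylow
  let T' : Sylow p (P Q) := Sylow.ofCard _ hTc
  obtain ⟨x, hx⟩ := MulAction.exists_smul_eq (P Q) S T'
  obtain ⟨g, rfl⟩ := QuotientGroup.mk_surjective x
  refine ⟨g, fun s hs => ?_⟩
  have h1 : (QuotientGroup.mk s : P Q) ∈ S := hS ⟨s, hs, rfl⟩
  have h2 : (QuotientGroup.mk g : P Q) * QuotientGroup.mk s * (QuotientGroup.mk g : P Q)⁻¹ ∈ T' := by
    rw [← hx]
    exact ⟨_, h1, rfl⟩
  have h3 : (QuotientGroup.mk g : P Q) * QuotientGroup.mk s * (QuotientGroup.mk g : P Q)⁻¹ ∈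
      (T : Subgroup ↥P₀).map P₀.subtype := h2
  obtain ⟨w, -, hw⟩ := h3
  change (QuotientGroup.mk g : P Q) * QuotientGroup.mk s * (QuotientGroup.mk g : P Q)⁻¹ ∈ P₀
  rw [← hw]
  exact w.2

set_option maxHeartbeats 1000000 in
/-- `P₀` fixes a flag -/
theorem exists_fixed_flag (hG : Good Q) {p : ℕ} [hp : Fact p.Prime] (hpF : (p : F) = 0) (hN : 7 ≤ finrank F V)
    (hW : ∃ W : Submodule F V, TS Q W ∧ finrank F W = 3) {P₀ : Subgroup (P Q)} (hP : Odd (Nat.card P₀))
    (hPv : v p P₀ = v p (P Q)) :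
    ∃ y₁ y₂ y₃ : V, LinearIndependent F ![y₁, y₂, y₃] ∧
      TS Q ((Submodule.span F {y₁} ⊔ Submodule.span F {y₂}) ⊔ Submodule.span F {y₃}) ∧
      (∀ h : ↥(E Q), (QuotientGroup.mk h : P Q) ∈ P₀ → ∀ a ∈ Submodule.span F {y₁},
        (h : V ≃ₗ[F] V) a ∈ Submodule.span F {y₁}) ∧
      (∀ h : ↥(E Q), (QuotientGroup.mk h : P Q) ∈ P₀ → ∀ a ∈ Submodule.span F {y₁} ⊔ Submodule.span F {y₂},
        (h : V ≃ₗ[F] V) a ∈ Submodule.span F {y₁} ⊔ Submodule.span F {y₂}) ∧
      ∀ h : ↥(E Q), (QuotientGroup.mk h : P Q) ∈ P₀ →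
        ∀ a ∈ (Submodule.span F {y₁} ⊔ Submodule.span F {y₂}) ⊔ Submodule.span F {y₃},
        (h : V ≃ₗ[F] V) a ∈ (Submodule.span F {y₁} ⊔ Submodule.span F {y₂}) ⊔ Submodule.span F {y₃} := by
  have hfin : Finite ↥(E Q) := finite_E
  have hfd : FiniteDimensional F V := inferInstance
  -- the flag
  obtain ⟨W₀, hW₀, hd₀⟩ := hW
  let b := Module.finBasisOfFinrankEq F W₀ hd₀
  obtain ⟨x₁, hx₁⟩ : ∃ x : V, x = b 0 := ⟨_, rfl⟩
  obtain ⟨x₂, hx₂⟩ : ∃ x : V, x = b 1 := ⟨_, rfl⟩
  obtain ⟨x₃, hx₃⟩ : ∃ x : V, x = b 2 := ⟨_, rfl⟩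
  have m₁ : x₁ ∈ W₀ := by rw [hx₁]; exact (b 0).2
  have m₂ : x₂ ∈ W₀ := by rw [hx₂]; exact (b 1).2
  have m₃ : x₃ ∈ W₀ := by rw [hx₃]; exact (b 2).2
  have hind : LinearIndependent F ![x₁, x₂, x₃] := by
    have h1 := b.linearIndependent.map' W₀.subtype (Submodule.ker_subtype _)
    have h2 : (W₀.subtype ∘ b) = ![x₁, x₂, x₃] := by
      ext i
      fin_cases i
      · exact hx₁.symm
      · exact hx₂.symm
      · exact hx₃.symm
    rwa [h2] at h1
  have s₁ : Q x₁ = 0 := hW₀ _ m₁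
  have s₂ : Q x₂ = 0 := hW₀ _ m₂
  have s₃ : Q x₃ = 0 := hW₀ _ m₃
  obtain ⟨g, hg⟩ := exists_conj hPv (isPGroup_flag hpF s₁ s₂ s₃)
  -- the conjugate flag
  obtain ⟨y₁, hy₁⟩ : ∃ y, y = (g : V ≃ₗ[F] V) x₁ := ⟨_, rfl⟩
  obtain ⟨y₂, hy₂⟩ : ∃ y, y = (g : V ≃ₗ[F] V) x₂ := ⟨_, rfl⟩
  obtain ⟨y₃, hy₃⟩ : ∃ y, y = (g : V ≃ₗ[F] V) x₃ := ⟨_, rfl⟩
  have t₁ : Q y₁ = 0 := by rw [hy₁, mem_O.1 (E_le_O g.2), s₁]
  have t₂ : Q y₂ = 0 := by rw [hy₂, mem_O.1 (E_le_O g.2), s₂]
  have t₃ : Q y₃ = 0 := by rw [hy₃, mem_O.1 (E_le_O g.2), s₃]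
  have p₁₂ : polar Q y₁ y₂ = 0 := by rw [hy₁, hy₂, polar_map (E_le_O g.2)]; exact hW₀.polar m₁ m₂
  have p₁₃ : polar Q y₁ y₃ = 0 := by rw [hy₁, hy₃, polar_map (E_le_O g.2)]; exact hW₀.polar m₁ m₃
  have p₂₃ : polar Q y₂ y₃ = 0 := by rw [hy₂, hy₃, polar_map (E_le_O g.2)]; exact hW₀.polar m₂ m₃
  have hind' : LinearIndependent F ![y₁, y₂, y₃] := by
    have h1 := hind.map' ((g : V ≃ₗ[F] V) : V →ₗ[F] V) (LinearMap.ker_eq_bot.2 (g : V ≃ₗ[F] V).injective)
    have h2 : (((g : V ≃ₗ[F] V) : V →ₗ[F] V) ∘ ![x₁, x₂, x₃]) = ![y₁, y₂, y₃] := by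
      ext i
      fin_cases i
      · exact hy₁.symm
      · exact hy₂.symm
      · exact hy₃.symm
    rwa [h2] at h1
  have hmem : ∀ {x y w : V} (hx : Q x = 0) (hy : Q y = 0) (hxy : y = (g : V ≃ₗ[F] V) x) (hw : w ∈ pp Q y)
      (hw' : (g : V ≃ₗ[F] V).symm w ∈ pp Q x),
      (QuotientGroup.mk (g * sg hx (Multiplicative.ofAdd ⟨(g : V ≃ₗ[F] V).symm w, hw'⟩) * g⁻¹) : P Q) ∈ P₀ →
      (QuotientGroup.mk (sg hy (Multiplicative.ofAdd ⟨w, hw⟩)) : P Q) ∈ P₀ := by
    intro x y w hx hy hxy hw hw' h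
    subst hxy
    have h1 : (g : V ≃ₗ[F] V) ((g : V ≃ₗ[F] V).symm w) = w := (g : V ≃ₗ[F] V).apply_symm_apply w
    have h2 : (g : V ≃ₗ[F] V) ((g : V ≃ₗ[F] V).symm w) ∈ pp Q ((g : V ≃ₗ[F] V) x) := by rw [h1]; exact hw
    rw [conj_sg' hx hw' g hy h2] at h
    have h3 : sg hy (Multiplicative.ofAdd ⟨w, hw⟩) =
        sg hy (Multiplicative.ofAdd ⟨(g : V ≃ₗ[F] V) ((g : V ≃ₗ[F] V).symm w), h2⟩) := by
      apply Subtype.ext
      rw [sg_coe, sg_coe]
      congr 1
      exact h1.symm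
    rw [h3]
    exact h
  have hpol : ∀ {x y w : V} (hxy : y = (g : V ≃ₗ[F] V) x), polar Q w y = polar Q ((g : V ≃ₗ[F] V).symm w) x := by
    rintro x _ w rfl
    rw [← polar_map (E_le_O g.2) ((g : V ≃ₗ[F] V).symm w) x, LinearEquiv.apply_symm_apply]
  have hpp : ∀ {x y w : V} (hxy : y = (g : V ≃ₗ[F] V) x), w ∈ pp Q y → (g : V ≃ₗ[F] V).symm w ∈ pp Q x := by
    intro x y w hxy hw
    rw [mem_pp] at hw ⊢
    rw [polar_comm] at hw ⊢
    rw [← hpol hxy]
    exact hw
  have i₁ : y₁ ≠ 0 := hind'.ne_zero 0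
  have i₂ := notMem_two hind'
  have i₃ := notMem_three hind'
  -- `P₀` fixes the flag
  have f₁ : ∀ h : ↥(E Q), (QuotientGroup.mk h : P Q) ∈ P₀ → ∀ a ∈ Submodule.span F {y₁},
      (h : V ≃ₗ[F] V) a ∈ Submodule.span F {y₁} := by
    have h1 := step hG hP (A := ⊥) (fun h _ a ha => by
      rw [Submodule.mem_bot] at ha ⊢
      rw [ha, map_zero]) t₁ (by rwa [Submodule.mem_bot]) (fun a ha => by
      rw [Submodule.mem_bot] at ha
      rw [ha]
      exact polar_zero_right Q _) (by rw [finrank_bot]; omega) (fun w hw _ =>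
        hmem s₁ t₁ hy₁ hw (hpp hy₁ hw) (hg _ (Subgroup.mem_sup_right ⟨_, rfl⟩)))
    rwa [bot_sup_eq] at h1
  have f₂ : ∀ h : ↥(E Q), (QuotientGroup.mk h : P Q) ∈ P₀ → ∀ a ∈ Submodule.span F {y₁} ⊔ Submodule.span F {y₂},
      (h : V ≃ₗ[F] V) a ∈ Submodule.span F {y₁} ⊔ Submodule.span F {y₂} := by
    refine step hG hP f₁ t₂ i₂ (fun a ha => ?_) (by rw [finrank_span_singleton i₁]; omega) (fun w hw hwA => ?_)
    · obtain ⟨c, rfl⟩ := Submodule.mem_span_singleton.1 ha
      rw [polar_smul_right, polar_comm, p₁₂, smul_zero]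
    · refine hmem s₂ t₂ hy₂ hw (hpp hy₂ hw) (hg _ (Subgroup.mem_sup_left (Subgroup.mem_sup_right ⟨⟨_, rfl⟩, ?_⟩)))
      refine sg_mem_fixV s₂ _ (hW₀.polar m₂ m₁) ?_
      rw [← hpol hy₁]
      exact hwA _ (Submodule.mem_span_singleton_self _)
  have f₃ : ∀ h : ↥(E Q), (QuotientGroup.mk h : P Q) ∈ P₀ →
      ∀ a ∈ (Submodule.span F {y₁} ⊔ Submodule.span F {y₂}) ⊔ Submodule.span F {y₃},
      (h : V ≃ₗ[F] V) a ∈ (Submodule.span F {y₁} ⊔ Submodule.span F {y₂}) ⊔ Submodule.span F {y₃} := by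
    refine step hG hP f₂ t₃ i₃ (fun a ha => ?_) ?_ (fun w hw hwA => ?_)
    · obtain ⟨a', ha', b', hb', rfl⟩ := Submodule.mem_sup.1 ha
      obtain ⟨c, rfl⟩ := Submodule.mem_span_singleton.1 ha'
      obtain ⟨d, rfl⟩ := Submodule.mem_span_singleton.1 hb'
      rw [polar_add_right, polar_smul_right, polar_smul_right, polar_comm, p₁₃, polar_comm, p₂₃, smul_zero, smul_zero,
        add_zero]
    · have e1 := Submodule.finrank_add_le_finrank_add_finrank (Submodule.span F {y₁}) (Submodule.span F {y₂})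
      have e2 := finrank_span_singleton (K := F) i₁
      have e3 : finrank F (Submodule.span F {y₂}) ≤ 1 := by
        simpa using finrank_span_le_card (R := F) ({y₂} : Set V)
      omega
    · refine hmem s₃ t₃ hy₃ hw (hpp hy₃ hw)
        (hg _ (Subgroup.mem_sup_left (Subgroup.mem_sup_left ⟨⟨⟨_, rfl⟩, ?_⟩, ?_⟩)))
      · refine sg_mem_fixV s₃ _ (hW₀.polar m₃ m₁) ?_
        rw [← hpol hy₁]
        exact hwA _ (Submodule.mem_sup_left (Submodule.mem_span_singleton_self _))
      · refine sg_mem_fixV s₃ _ (hW₀.polar m₃ m₂) ?_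
        rw [← hpol hy₂]
        exact hwA _ (Submodule.mem_sup_right (Submodule.mem_span_singleton_self _))
  refine ⟨y₁, y₂, y₃, hind', ?_, f₁, f₂, f₃⟩
  intro w hw
  obtain ⟨z, hz, b', hb', rfl⟩ := Submodule.mem_sup.1 hw
  obtain ⟨a, ha, c', hc', rfl⟩ := Submodule.mem_sup.1 hz
  obtain ⟨α, rfl⟩ := Submodule.mem_span_singleton.1 ha
  obtain ⟨β, rfl⟩ := Submodule.mem_span_singleton.1 hc'
  obtain ⟨γ, rfl⟩ := Submodule.mem_span_singleton.1 hb'
  have e1 : α • y₁ + β • y₂ + γ • y₃ = (g : V ≃ₗ[F] V) (α • x₁ + β • x₂ + γ • x₃) := by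
    rw [map_add, map_add, map_smul, map_smul, map_smul, hy₁, hy₂, hy₃]
  rw [e1, mem_O.1 (E_le_O g.2)]
  exact hW₀ _ (W₀.add_mem (W₀.add_mem (W₀.smul_mem _ m₁) (W₀.smul_mem _ m₂)) (W₀.smul_mem _ m₃))

/-- the group induced by `H₀` on `W` -/
def indW (H₀ : Subgroup (P Q)) (W : Submodule F V) : Subgroup (W ≃ₗ[F] W) where
  carrier := {k | ∃ h : ↥(E Q), (QuotientGroup.mk h : P Q) ∈ H₀ ∧ ∀ w : W, ((k w : W) : V) = (h : V ≃ₗ[F] V) w}
  one_mem' := ⟨1, H₀.one_mem, fun _ => rfl⟩
  mul_mem' := by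
    rintro k k' ⟨h, hh, e⟩ ⟨h', hh', e'⟩
    refine ⟨h * h', H₀.mul_mem hh hh', fun w => ?_⟩
    change ((k (k' w) : W) : V) = (h : V ≃ₗ[F] V) ((h' : V ≃ₗ[F] V) w)
    rw [e, e']
  inv_mem' := by
    rintro k ⟨h, hh, e⟩
    refine ⟨h⁻¹, H₀.inv_mem hh, fun w => ?_⟩
    change ((k.symm w : W) : V) = (h : V ≃ₗ[F] V).symm w
    rw [eq_comm, LinearEquiv.symm_apply_eq, ← e, LinearEquiv.apply_symm_apply]

theorem not_dvd_indW (hG : Good Q) {p : ℕ} [hp : Fact p.Prime] (hp2 : p ≠ 2) {H₀ : Subgroup (P Q)}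
    (hH : ¬ p ∣ Nat.card H₀) (W : Submodule F V) : ¬ p ∣ Nat.card (indW H₀ W) := by
  have hfin : Finite ↥(E Q) := finite_E
  have hfinW : Finite (W ≃ₗ[F] W) := Finite.of_injective (fun f : W ≃ₗ[F] W => (f : W → W)) DFunLike.coe_injective
  intro hdvd
  obtain ⟨⟨k, hkm⟩, hk⟩ := exists_prime_orderOf_dvd_card' p hdvd
  rw [Subgroup.orderOf_mk] at hk
  obtain ⟨h, hh, e⟩ := hkm
  have h1 : Nat.card ↥(H₀.comap (QuotientGroup.mk' (Subgroup.center ↥(E Q)))) =
      Nat.card H₀ * Nat.card (Subgroup.center ↥(E Q)) := by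
    have h2 := card_inf_range_mul_ker (QuotientGroup.mk' (Subgroup.center ↥(E Q))) H₀
    rw [← h2, QuotientGroup.ker_mk', MonoidHom.range_eq_top.2 (QuotientGroup.mk'_surjective _), inf_top_eq]
  have h2 : orderOf h ∣ Nat.card ↥(H₀.comap (QuotientGroup.mk' (Subgroup.center ↥(E Q)))) := by
    have hh' : h ∈ H₀.comap (QuotientGroup.mk' (Subgroup.center ↥(E Q))) := hh
    have h3 := orderOf_dvd_natCard (⟨h, hh'⟩ : ↥(H₀.comap (QuotientGroup.mk' (Subgroup.center ↥(E Q)))))
    rwa [Subgroup.orderOf_mk] at h3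
  have h3 : ∀ n : ℕ, ∀ w : W, (((k ^ n) w : W) : V) = ((h ^ n : ↥(E Q)) : V ≃ₗ[F] V) w := by
    intro n
    induction n with
    | zero => intro w; rfl
    | succ n ih =>
      intro w
      rw [pow_succ, pow_succ]
      change (((k ^ n) (k w) : W) : V) = ((h ^ n : ↥(E Q)) : V ≃ₗ[F] V) ((h : V ≃ₗ[F] V) w)
      rw [ih, e]
  have h4 : k ^ orderOf h = 1 := by
    ext w
    rw [h3, pow_orderOf_eq_one]
    rfl
  have h5 : p ∣ orderOf h := by
    rw [← hk]
    exact orderOf_dvd_of_pow_eq_one h4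
  have h6 := h5.trans h2
  rw [h1, hp.out.dvd_mul] at h6
  rcases h6 with h6 | h6
  · exact hH h6
  · exact not_dvd_center' hG (Or.inl hp2) h6

/-- **No factorization.** -/
theorem no_fact (hG : Good Q) {p : ℕ} [hp : Fact p.Prime] [CharP F p] (hp2 : p ≠ 2) (hN : 7 ≤ finrank F V)
    (hW : ∃ W : Submodule F V, TS Q W ∧ finrank F W = 3) {P₀ H₀ : Subgroup (P Q)} (hP : Odd (Nat.card P₀))
    (hPv : v p P₀ = v p (P Q)) (hH : ¬ p ∣ Nat.card H₀) (hPH : ∀ g : P Q, ∃ x ∈ P₀, g * x⁻¹ ∈ H₀) : False := by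
  have hfin : Finite ↥(E Q) := finite_E
  have hfd : FiniteDimensional F V := inferInstance
  obtain ⟨y₁, y₂, y₃, hind, hTS, f₁, f₂, f₃⟩ := exists_fixed_flag hG (CharP.cast_eq_zero F p) hN hW hP hPv
  obtain ⟨W, hWd⟩ : ∃ W : Submodule F V, W = (Submodule.span F {y₁} ⊔ Submodule.span F {y₂}) ⊔ Submodule.span F {y₃} :=
    ⟨_, rfl⟩
  rw [← hWd] at hTS f₃
  have i₁ : y₁ ≠ 0 := hind.ne_zero 0
  have i₂ := notMem_two hind
  have m₁ : y₁ ∈ W := by
    rw [hWd]
    exact Submodule.mem_sup_left (Submodule.mem_sup_left (Submodule.mem_span_singleton_self _))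
  have m₂ : y₂ ∈ W := by
    rw [hWd]
    exact Submodule.mem_sup_left (Submodule.mem_sup_right (Submodule.mem_span_singleton_self _))
  have hfr : finrank F W = 3 := by
    have h1 : W = Submodule.span F (Set.range ![y₁, y₂, y₃]) := by
      rw [hWd, ← Submodule.span_union, ← Submodule.span_union]
      congr 1
      ext x
      simp [Matrix.range_cons, Matrix.range_empty]
    rw [h1, finrank_span_eq_card hind, Fintype.card_fin]
  have hfinW : Finite (W ≃ₗ[F] W) := Finite.of_injective (fun f : W ≃ₗ[F] W => (f : W → W)) DFunLike.coe_injective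
  -- every flag is the image of the base flag
  have key : ∀ c L : Submodule F W, finrank F c = 1 → finrank F L = 2 → c ≤ L → ∃ k ∈ indW H₀ W,
      (Submodule.span F {(⟨y₁, m₁⟩ : W)}).map (k : W →ₗ[F] W) = c ∧
      (Submodule.span F {(⟨y₁, m₁⟩ : W)} ⊔ Submodule.span F {(⟨y₂, m₂⟩ : W)}).map (k : W →ₗ[F] W) = L := by
    intro c L hc hL hcL
    obtain ⟨z₁, hz₁, hz₁0⟩ : ∃ z ∈ c, z ≠ 0 := by
      have : Nontrivial c := Module.nontrivial_of_finrank_pos (R := F) (by omega)
      obtain ⟨x, hx⟩ := _root_.exists_ne (0 : c)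
      exact ⟨x, x.2, fun h => hx (Subtype.ext h)⟩
    have hcs : c = Submodule.span F {z₁} := by
      symm
      apply Submodule.eq_of_le_of_finrank_eq
      · rw [Submodule.span_singleton_le_iff_mem]; exact hz₁
      · rw [finrank_span_singleton hz₁0, hc]
    obtain ⟨z₂, hz₂, hz₂c⟩ : ∃ z ∈ L, z ∉ c := by
      by_contra hcon
      push Not at hcon
      have h1 := Submodule.finrank_mono (show L ≤ c from hcon)
      omega
    have hz₁' : ((z₁ : W) : V) ≠ 0 := fun h => hz₁0 (Subtype.ext h)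
    have hz₂' : ((z₂ : W) : V) ∉ Submodule.span F {((z₁ : W) : V)} := by
      intro h
      obtain ⟨d, hd⟩ := Submodule.mem_span_singleton.1 h
      apply hz₂c
      rw [hcs, Submodule.mem_span_singleton]
      exact ⟨d, Subtype.ext hd⟩
    obtain ⟨g, hgW, hg₁, hg₂⟩ := exists_flag_map hG hTS m₁ m₂ z₁.2 z₂.2 i₁ i₂ hz₁' hz₂'
    obtain ⟨x', hx', hgx⟩ := hPH (QuotientGroup.mk g)
    obtain ⟨x, rfl⟩ := QuotientGroup.mk_surjective x'
    have hxi : (QuotientGroup.mk x⁻¹ : P Q) ∈ P₀ := P₀.inv_mem hx'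
    have hgx' : (QuotientGroup.mk (g * x⁻¹) : P Q) ∈ H₀ := hgx
    have hmap : ∀ w : W, ((g * x⁻¹ : ↥(E Q)) : V ≃ₗ[F] V) w ∈ W := fun w => hgW _ (f₃ _ hxi _ w.2)
    let k₀ : W →ₗ[F] W := (((g * x⁻¹ : ↥(E Q)) : V ≃ₗ[F] V) : V →ₗ[F] V).restrict (fun w hw => hmap ⟨w, hw⟩)
    have hk₀ : ∀ w : W, ((k₀ w : W) : V) = ((g * x⁻¹ : ↥(E Q)) : V ≃ₗ[F] V) w := fun _ => rfl
    have hinj : Function.Injective k₀ := by
      intro a b hab
      have h1 := congrArg Subtype.val hab
      rw [hk₀, hk₀] at h1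
      exact Subtype.ext (LinearEquiv.injective _ h1)
    let k : W ≃ₗ[F] W := LinearEquiv.ofInjectiveEndo k₀ hinj
    have hk : ∀ w : W, ((k w : W) : V) = ((g * x⁻¹ : ↥(E Q)) : V ≃ₗ[F] V) w := fun _ => rfl
    refine ⟨k, ⟨g * x⁻¹, hgx', hk⟩, ?_, ?_⟩
    · apply Submodule.eq_of_le_of_finrank_eq
      · rw [Submodule.map_span, Set.image_singleton, Submodule.span_singleton_le_iff_mem, hcs]
        have h1 := f₁ _ hxi y₁ (Submodule.mem_span_singleton_self _)
        obtain ⟨d, hd⟩ := Submodule.mem_span_singleton.1 h1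
        obtain ⟨d', hd'⟩ := Submodule.mem_span_singleton.1 hg₁
        rw [Submodule.mem_span_singleton]
        refine ⟨d * d', Subtype.ext ?_⟩
        change (d * d') • ((z₁ : W) : V) = (g : V ≃ₗ[F] V) (((x⁻¹ : ↥(E Q)) : V ≃ₗ[F] V) y₁)
        rw [← hd, map_smul, ← hd', smul_smul]
      · rw [LinearEquiv.finrank_map_eq, hc, finrank_span_singleton (fun h => i₁ (congrArg Subtype.val h))]
    · apply Submodule.eq_of_le_of_finrank_eq
      · rw [Submodule.map_sup, Submodule.map_span, Submodule.map_span, Set.image_singleton, Set.image_singleton,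
          sup_le_iff, Submodule.span_singleton_le_iff_mem, Submodule.span_singleton_le_iff_mem]
        have hspan : ∀ v ∈ Submodule.span F {((z₁ : W) : V)} ⊔ Submodule.span F {((z₂ : W) : V)}, ∀ w : W,
            (w : V) = v → w ∈ L := by
          intro v hv w hw
          obtain ⟨a, ha, b, hb, hab⟩ := Submodule.mem_sup.1 hv
          obtain ⟨α, rfl⟩ := Submodule.mem_span_singleton.1 ha
          obtain ⟨β, rfl⟩ := Submodule.mem_span_singleton.1 hb
          have h1 : w = α • z₁ + β • z₂ := Subtype.ext (by rw [hw, ← hab]; rfl)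
          rw [h1]
          exact L.add_mem (L.smul_mem _ (hcL hz₁)) (L.smul_mem _ hz₂)
        have hstep : ∀ v ∈ Submodule.span F {y₁} ⊔ Submodule.span F {y₂}, (g : V ≃ₗ[F] V) v ∈
            Submodule.span F {((z₁ : W) : V)} ⊔ Submodule.span F {((z₂ : W) : V)} := by
          intro v hv
          obtain ⟨a, ha, b, hb, rfl⟩ := Submodule.mem_sup.1 hv
          obtain ⟨α, rfl⟩ := Submodule.mem_span_singleton.1 ha
          obtain ⟨β, rfl⟩ := Submodule.mem_span_singleton.1 hb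
          rw [map_add, map_smul, map_smul]
          exact add_mem (Submodule.smul_mem _ _ (Submodule.mem_sup_left hg₁)) (Submodule.smul_mem _ _ hg₂)
        constructor
        · exact hspan _ (hstep _ (f₂ _ hxi y₁ (Submodule.mem_sup_left (Submodule.mem_span_singleton_self _)))) _ rfl
        · exact hspan _ (hstep _ (f₂ _ hxi y₂ (Submodule.mem_sup_right (Submodule.mem_span_singleton_self _)))) _ rfl
      · rw [LinearEquiv.finrank_map_eq, hL]
        have h1 : LinearIndependent F ![(⟨y₁, m₁⟩ : W), ⟨y₂, m₂⟩] := by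
          rw [LinearIndependent.pair_iff' (fun h => i₁ (congrArg Subtype.val h))]
          intro a ha
          exact i₂ (Submodule.mem_span_singleton.2 ⟨a, congrArg Subtype.val ha⟩)
        have h2 : Submodule.span F {(⟨y₁, m₁⟩ : W)} ⊔ Submodule.span F {(⟨y₂, m₂⟩ : W)} =
            Submodule.span F (Set.range ![(⟨y₁, m₁⟩ : W), ⟨y₂, m₂⟩]) := by
          rw [← Submodule.span_union]
          congr 1
          ext x
          simp [Matrix.range_cons, Matrix.range_empty]
        rw [h2, finrank_span_eq_card h1, Fintype.card_fin]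
  refine Cfsg.Agent.H160.DP.no_flag_trans (p := p) hp2 hfr (indW H₀ W) (not_dvd_indW hG hp2 hH W) ?_
  intro c c' L L' hc hc' hL hL' hcL hcL'
  obtain ⟨k, hk, h1, h2⟩ := key c L hc hL hcL
  obtain ⟨k', hk', h1', h2'⟩ := key c' L' hc' hL' hcL'
  refine ⟨k' * k⁻¹, (indW H₀ W).mul_mem hk' ((indW H₀ W).inv_mem hk), ?_, ?_⟩
  · rw [← h1, ← h1', ← Submodule.map_comp]
    congr 1
    ext w
    change ((k' (k.symm (k w)) : W) : V) = _
    rw [LinearEquiv.symm_apply_apply]
    rfl
  · rw [← h2, ← h2', ← Submodule.map_comp]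
    congr 1
    ext w
    change ((k' (k.symm (k w)) : W) : V) = _
    rw [LinearEquiv.symm_apply_apply]
    rfl

end main

end Cfsg.Agent.H14.DP

/-! ## the families -/

namespace Cfsg.Agent.H14.DP

open QuadraticMap Module Cfsg Cfsg.Agent.LieClassical.OrthCore Cfsg.Agent.LieClassical.OrthTrans
open Cfsg.Agent.ClassicalGeometry.OrthSemi Cfsg.Agent.ClassicalGeometry.OrthAut1 Cfsg.Agent.AutOrth.Main
open Cfsg.Agent.LieClassical.QuadForms
open Cfsg.Agent.H160.PD (v)

/-- no factorization `S = P₀ H₀` with `P₀` of odd order containing a Sylow `p`-subgroup and `H₀` a `p'`-group -/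
def NoFact (p : ℕ) (S : Type*) [Group S] : Prop :=
  ∀ P₀ H₀ : Subgroup S, Odd (Nat.card P₀) → v p P₀ = v p S → ¬ p ∣ Nat.card H₀ →
    (∀ g : S, ∃ a ∈ P₀, ∃ b ∈ H₀, g = a * b) → False

theorem NoFact.congr {p : ℕ} {S T : Type*} [Group S] [Group T] (e : S ≃* T) (h : NoFact p T) : NoFact p S := by
  intro P₀ H₀ h1 h2 h3 h4
  have c1 : Nat.card (P₀.map e.toMonoidHom) = Nat.card P₀ := Subgroup.card_map_of_injective e.injective
  have c2 : Nat.card (H₀.map e.toMonoidHom) = Nat.card H₀ := Subgroup.card_map_of_injective e.injective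
  have c3 : Nat.card S = Nat.card T := Nat.card_congr e.toEquiv
  refine h (P₀.map e.toMonoidHom) (H₀.map e.toMonoidHom) (by rwa [c1]) ?_ (by rwa [c2]) fun g => ?_
  · rw [v, c1, v, ← c3]
    exact h2
  · obtain ⟨a, ha, b, hb, hab⟩ := h4 (e.symm g)
    refine ⟨e a, ⟨a, ha, rfl⟩, e b, ⟨b, hb, rfl⟩, ?_⟩
    rw [← map_mul, ← hab, MulEquiv.apply_symm_apply]

theorem noFact_P {F V : Type*} [Field F] [AddCommGroup V] [Module F V] {Q : QuadraticForm F V} [Finite V] [Finite F]
    (hG : Good Q) {p : ℕ} [hp : Fact p.Prime] [CharP F p] (hp2 : p ≠ 2) (hN : 7 ≤ finrank F V)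
    (hW : ∃ W : Submodule F V, TS Q W ∧ 3 ≤ finrank F W) : NoFact p (P Q) := by
  intro P₀ H₀ h1 h2 h3 h4
  obtain ⟨W, hW, hW3⟩ := hW
  obtain ⟨W', hW'⟩ := Cfsg.Agent.H160.DP.exists_sub (F := F) (V := W) hW3
  refine no_fact hG hp2 hN ⟨W'.map W.subtype, ?_, ?_⟩ h1 h2 h3 fun g => ?_
  · rintro _ ⟨w, -, rfl⟩
    exact hW _ w.2
  · rw [← hW']
    exact (LinearEquiv.finrank_eq (Submodule.equivMapOfInjective _ W.subtype_injective W')).symm
  · obtain ⟨a, ha, b, hb, hab⟩ := h4 g⁻¹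
    refine ⟨a⁻¹, P₀.inv_mem ha, ?_⟩
    have : g = b⁻¹ * a⁻¹ := by
      rw [← mul_inv_rev, ← hab, inv_inv]
    rw [this]
    simpa using hb

/-- a totally singular subspace from a linear map -/
theorem exists_TS_of_map {F V : Type*} [Field F] [AddCommGroup V] [Module F V] {Q : QuadraticForm F V} {n : ℕ}
    (f : (Fin n → F) →ₗ[F] V) (hf : Function.Injective f) (hQ : ∀ c, Q (f c) = 0) (hn : 3 ≤ n) :
    ∃ W : Submodule F V, TS Q W ∧ 3 ≤ finrank F W := by
  refine ⟨LinearMap.range f, ?_, ?_⟩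
  · rintro _ ⟨c, rfl⟩
    exact hQ c
  · rw [LinearMap.finrank_range_of_inj hf, Module.finrank_fin_fun]
    exact hn

section fam

variable {F : Type} [Field F] [Fintype F] {m : ℕ} {p : ℕ} [hp : Fact p.Prime] [CharP F p]

theorem noFact_plus (hp2 : p ≠ 2) (hm : 4 ≤ m) : NoFact p (POmega F (quadFormPlus m F)) := by
  rw [← coe_plusForm]
  have hG : Good (plusForm m F) := good_plus (by omega)
  refine NoFact.congr (pe hG) (noFact_P hG hp2 ?_ ?_)
  · rw [Module.finrank_fintype_fun_eq_card]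
    simp only [_root_.Fintype.card_sum, _root_.Fintype.card_fin]
    omega
  · let f : (Fin m → F) →ₗ[F] (Fin m ⊕ Fin m → F) :=
      { toFun := fun c => Sum.elim c 0
        map_add' := fun a b => by ext (i | i) <;> simp
        map_smul' := fun a b => by ext (i | i) <;> simp }
    refine exists_TS_of_map f (fun a b h => ?_) (fun c => ?_) (by omega)
    · ext i
      exact congrFun h (Sum.inl i)
    · rw [plusForm_apply]
      simp only [f, _root_.LinearMap.coe_mk, _root_.AddHom.coe_mk, _root_.Sum.elim_inl, _root_.Sum.elim_inr, _root_.Pi.zero_apply, _root_.MulZeroClass.mul_zero, _root_.Finset.sum_const_zero]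

theorem noFact_minus (hp2 : p ≠ 2) (hm : 4 ≤ m) {a b : F}
    (hab : ∀ z₁ z₂ : F, z₁ ^ 2 + a * z₁ * z₂ + b * z₂ ^ 2 = 0 → z₁ = 0 ∧ z₂ = 0) :
    NoFact p (POmega F (quadFormMinus (m - 1) F a b)) := by
  rw [← coe_minusForm]
  have hG : Good (minusForm (m - 1) F a b) := good_minus (by omega) hab
  refine NoFact.congr (pe hG) (noFact_P hG hp2 ?_ ?_)
  · rw [Module.finrank_fintype_fun_eq_card]
    simp only [_root_.Fintype.card_sum, _root_.Fintype.card_fin, _root_.Nat.reduceLeDiff]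
    omega
  · let f : (Fin (m - 1) → F) →ₗ[F] ((Fin (m - 1) ⊕ Fin (m - 1)) ⊕ Fin 2 → F) :=
      { toFun := fun c => Sum.elim (Sum.elim c 0) 0
        map_add' := fun a b => by ext ((i | i) | i) <;> simp
        map_smul' := fun a b => by ext ((i | i) | i) <;> simp }
    refine exists_TS_of_map f (fun a b h => ?_) (fun c => ?_) (by omega)
    · ext i
      exact congrFun h (Sum.inl (Sum.inl i))
    · rw [minusForm_apply, plusForm_apply, binForm_apply]
      simp only [f, _root_.LinearMap.coe_mk, _root_.AddHom.coe_mk, _root_.Sum.elim_inl, _root_.Sum.elim_inr, _root_.Pi.zero_apply, _root_.MulZeroClass.mul_zero, _root_.Finset.sum_const_zero, _root_.Fin.isValue, _root_.ne_eq, _root_.OfNat.ofNat_ne_zero, _root_.not_false_eq_true, _root_.zero_pow, _root_.add_zero]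

theorem noFact_odd (hp2 : p ≠ 2) (hm : 3 ≤ m) : NoFact p (POmega F (quadFormOdd m F)) := by
  have h2 : (2 : F) ≠ 0 := by
    intro h
    apply hp2
    have h3 : ((2 : ℕ) : F) = 0 := by exact_mod_cast h
    have h4 := (CharP.cast_eq_zero_iff F p 2).1 h3
    exact (Nat.prime_dvd_prime_iff_eq hp.out Nat.prime_two).1 h4
  rw [← coe_oddForm]
  have hG : Good (oddForm m F) := good_odd (by omega) h2
  refine NoFact.congr (pe hG) (noFact_P hG hp2 ?_ ?_)
  · rw [Module.finrank_fintype_fun_eq_card]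
    simp only [_root_.Fintype.card_sum, _root_.Fintype.card_unique, _root_.Fintype.card_fin]
    omega
  · let f : (Fin m → F) →ₗ[F] (Unit ⊕ (Fin m ⊕ Fin m) → F) :=
      { toFun := fun c => Sum.elim 0 (Sum.elim c 0)
        map_add' := fun a b => by ext (i | (i | i)) <;> simp
        map_smul' := fun a b => by ext (i | (i | i)) <;> simp }
    refine exists_TS_of_map f (fun a b h => ?_) (fun c => ?_) (by omega)
    · ext i
      exact congrFun h (Sum.inr (Sum.inl i))
    · have h3 := congrFun (coe_oddForm (F := F) m) (f c)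
      rw [h3]
      simp only [f, quadFormOdd, _root_.LinearMap.coe_mk, _root_.AddHom.coe_mk, _root_.Sum.elim_inl, _root_.Pi.zero_apply, _root_.ne_eq, _root_.OfNat.ofNat_ne_zero, _root_.not_false_eq_true, _root_.zero_pow, _root_.Sum.elim_inr, _root_.MulZeroClass.mul_zero, _root_.Finset.sum_const_zero, _root_.add_zero]

end fam

end Cfsg.Agent.H14.DP
end

private theorem dce_37b50811f14c : _root_.True := by
  try have : _root_.True := by simp only [_root_.LinearEquiv.smulOfUnit.eq_1]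
  try have : _root_.True := by simp only [_root_.Cfsg.Agent.H14.PD.sg.congr_simp]
  exact _root_.True.intro
end
end
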